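import Mathlib
set_option linter.all false

-- part: H209/TriBasic
section
/-!
# Edge-transitive groups on trivalent bipartite graphs (for Goldschmidt's bound)

`Tri G V`: a bipartite graph on the `G`-set `V`, every vertex has exactly three neighbours, the stabilizer of a
vertex induces the full symmetric group on them, the graph is connected, `G` is faithful and transitive on the
edges (preserving types), the vertex stabilizers are finite and the edge stabilizers are 2-groups.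

* `Γ.Q v`: the kernel of the action of `G_v` on the neighbours of `v`;
* `Γ.closure_bot`: the basic tool: a subgroup `N` fixing a set `P` of vertices, such that every neighbour of a
  vertex of `P` is of the form `g • p'` with `p' ∈ P`, `g⁻¹ N g ≤ N`, is trivial.
-/

set_option autoImplicit false

namespace Cfsg.Agent.H209

open MulAction

/-- An edge-transitive action on a connected trivalent bipartite graph. -/
structure Tri (G V : Type*) [Group G] [MulAction G V] where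
  /-- adjacency -/
  A : V → V → Prop
  /-- type of a vertex -/
  ty : V → Bool
  symm : ∀ {v w : V}, A v w → A w v
  smul : ∀ (g : G) {v w : V}, A v w → A (g • v) (g • w)
  ty_smul : ∀ (g : G) (v : V), ty (g • v) = ty v
  ty_adj : ∀ {v w : V}, A v w → ty w = !(ty v)
  trans : ∀ {v w v' w' : V}, A v w → A v' w' → ty v = ty v' → ∃ g : G, g • v = v' ∧ g • w = w'
  three : ∀ v : V, ∃ a b c : V, A v a ∧ A v b ∧ A v c ∧ a ≠ b ∧ a ≠ c ∧ b ≠ c ∧ ∀ w, A v w → w = a ∨ w = b ∨ w = c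
  swap : ∀ {v a b c : V}, A v a → A v b → A v c → a ≠ b → a ≠ c → b ≠ c →
    ∃ g : G, g • v = v ∧ g • a = a ∧ g • b = c ∧ g • c = b
  conn : ∀ S : Set V, S.Nonempty → (∀ v ∈ S, ∀ w, A v w → w ∈ S) → ∀ v, v ∈ S
  faith : ∀ g : G, (∀ v : V, g • v = v) → g = 1
  fin : ∀ v : V, Finite ↥(stabilizer G v)
  two : ∀ {v w : V}, A v w → IsPGroup 2 ↥(stabilizer G v ⊓ stabilizer G w)

namespace Tri

variable {G V : Type*} [Group G] [MulAction G V] (Γ : Tri G V)

section Basic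

variable {Γ} {u v w a b c d : V} {g h : G}

theorem smul_iff (g : G) : Γ.A (g • v) (g • w) ↔ Γ.A v w := by
  constructor
  · intro h
    have := Γ.smul g⁻¹ h
    rwa [inv_smul_smul, inv_smul_smul] at this
  · exact fun h => Γ.smul g h

theorem A_of_fix (hg : g • v = v) (h : Γ.A v w) : Γ.A v (g • w) := by
  have := Γ.smul g h
  rwa [hg] at this

theorem inv_fix (hg : g • v = v) : g⁻¹ • v = v := by
  rw [inv_smul_eq_iff]; exact hg.symm

theorem mul_fix (hg : g • v = v) (hh : h • v = v) : (g * h) • v = v := by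
  rw [mul_smul, hh, hg]

theorem ne_of_adj (h : Γ.A v w) : v ≠ w := by
  rintro rfl
  have := Γ.ty_adj h
  cases hv : Γ.ty v <;> simp [hv] at this

theorem ty_eq_of_adj (h1 : Γ.A v a) (h2 : Γ.A v b) : Γ.ty a = Γ.ty b := by
  rw [Γ.ty_adj h1, Γ.ty_adj h2]

/-- two different neighbours have a third one -/
theorem exists_third (ha : Γ.A v a) (hb : Γ.A v b) (hab : a ≠ b) :
    ∃ c, Γ.A v c ∧ c ≠ a ∧ c ≠ b ∧ ∀ w, Γ.A v w → w = a ∨ w = b ∨ w = c := by
  obtain ⟨x, y, z, hx, hy, hz, hxy, hxz, hyz, hall⟩ := Γ.three v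
  rcases hall a ha with rfl | rfl | rfl <;> rcases hall b hb with rfl | rfl | rfl
  · exact absurd rfl hab
  · exact ⟨z, hz, hxz.symm, hyz.symm, hall⟩
  · refine ⟨y, hy, hxy.symm, hyz, fun w hw => ?_⟩
    rcases hall w hw with h | h | h <;> tauto
  · refine ⟨z, hz, hyz.symm, hxz.symm, fun w hw => ?_⟩
    rcases hall w hw with h | h | h <;> tauto
  · exact absurd rfl hab
  · refine ⟨x, hx, hxy, hxz, fun w hw => ?_⟩
    rcases hall w hw with h | h | h <;> tauto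
  · refine ⟨y, hy, hyz, hxy.symm, fun w hw => ?_⟩
    rcases hall w hw with h | h | h <;> tauto
  · refine ⟨x, hx, hxz, hxy, fun w hw => ?_⟩
    rcases hall w hw with h | h | h <;> tauto
  · exact absurd rfl hab

/-- the other two neighbours -/
theorem exists_others (ha : Γ.A v a) :
    ∃ b c, Γ.A v b ∧ Γ.A v c ∧ b ≠ a ∧ c ≠ a ∧ b ≠ c ∧ ∀ w, Γ.A v w → w = a ∨ w = b ∨ w = c := by
  obtain ⟨x, y, z, hx, hy, hz, hxy, hxz, hyz, hall⟩ := Γ.three v
  rcases hall a ha with rfl | rfl | rfl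
  · exact ⟨y, z, hy, hz, hxy.symm, hxz.symm, hyz, hall⟩
  · refine ⟨x, z, hx, hz, hxy, hyz.symm, hxz, fun w hw => ?_⟩
    rcases hall w hw with h | h | h <;> tauto
  · refine ⟨x, y, hx, hy, hxz, hyz, hxy, fun w hw => ?_⟩
    rcases hall w hw with h | h | h <;> tauto

theorem exists_ne (ha : Γ.A v a) : ∃ b, Γ.A v b ∧ b ≠ a := by
  obtain ⟨b, c, hb, -, hba, -⟩ := exists_others ha
  exact ⟨b, hb, hba⟩

/-- the third neighbour is determined -/
theorem third_unique (ha : Γ.A v a) (hb : Γ.A v b) (hc : Γ.A v c) (hd : Γ.A v d) (hab : a ≠ b)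
    (hca : c ≠ a) (hcb : c ≠ b) (hda : d ≠ a) (hdb : d ≠ b) : c = d := by
  obtain ⟨x, hx, hxa, hxb, hall⟩ := exists_third ha hb hab
  rcases hall c hc with h | h | h
  · exact absurd h hca
  · exact absurd h hcb
  rcases hall d hd with h' | h' | h'
  · exact absurd h' hda
  · exact absurd h' hdb
  rw [h, h']

/-- a third neighbour equals one of the two others -/
theorem eq_or (ha : Γ.A v a) (hb : Γ.A v b) (hc : Γ.A v c) (hd : Γ.A v d) (hab : a ≠ b)
    (hac : a ≠ c) (hbc : b ≠ c) : d = a ∨ d = b ∨ d = c := by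
  by_cases h1 : d = a
  · exact Or.inl h1
  by_cases h2 : d = b
  · exact Or.inr (Or.inl h2)
  · exact Or.inr (Or.inr (third_unique ha hb hd hc hab h1 h2 hac.symm hbc.symm))

end Basic

/-- the kernel of the action on the neighbours -/
def Q (v : V) : Subgroup G where
  carrier := {g | g • v = v ∧ ∀ w, Γ.A v w → g • w = w}
  mul_mem' := by
    rintro g h ⟨hg, hg'⟩ ⟨hh, hh'⟩
    refine ⟨mul_fix hg hh, fun w hw => ?_⟩
    exact mul_fix (hg' w hw) (hh' w hw)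
  one_mem' := ⟨one_smul _ _, fun w _ => one_smul _ _⟩
  inv_mem' := by
    rintro g ⟨hg, hg'⟩
    exact ⟨inv_fix hg, fun w hw => inv_fix (hg' w hw)⟩

/-- the stabilizer of an edge -/
def T (v w : V) : Subgroup G := stabilizer G v ⊓ stabilizer G w

section QLemmas

variable {Γ} {u v w a b c d : V} {g h : G}

theorem mem_Q : g ∈ Γ.Q v ↔ g • v = v ∧ ∀ w, Γ.A v w → g • w = w := Iff.rfl

omit Γ in
theorem mem_T : g ∈ (T v w : Subgroup G) ↔ g • v = v ∧ g • w = w := by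
  unfold T; rw [Subgroup.mem_inf, mem_stabilizer_iff, mem_stabilizer_iff]

omit Γ in
theorem T_comm (v w : V) : (T v w : Subgroup G) = T w v := inf_comm _ _

theorem Q_fix (hg : g ∈ Γ.Q v) : g • v = v := hg.1

theorem Q_fix' (hg : g ∈ Γ.Q v) (hw : Γ.A v w) : g • w = w := hg.2 w hw

theorem Q_le_T (hw : Γ.A v w) : Γ.Q v ≤ T v w := fun _ hg => mem_T.2 ⟨hg.1, hg.2 w hw⟩

theorem Q_le_T' (hw : Γ.A v w) : Γ.Q v ≤ T w v := by
  rw [T_comm]; exact Q_le_T hw

theorem mem_Q_smul : g ∈ Γ.Q (h • v) ↔ h⁻¹ * g * h ∈ Γ.Q v := by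
  rw [mem_Q, mem_Q]
  constructor
  · rintro ⟨h1, h2⟩
    refine ⟨?_, fun w hw => ?_⟩
    · rw [mul_smul, mul_smul, h1, inv_smul_smul]
    · rw [mul_smul, mul_smul, h2 _ (Γ.smul h hw), inv_smul_smul]
  · rintro ⟨h1, h2⟩
    refine ⟨?_, fun w hw => ?_⟩
    · rw [mul_smul, mul_smul, inv_smul_eq_iff] at h1; exact h1
    · have h3 : Γ.A v (h⁻¹ • w) := by
        have := Γ.smul h⁻¹ hw
        rwa [inv_smul_smul] at this
      have := h2 _ h3
      rw [mul_smul, mul_smul, inv_smul_eq_iff, smul_inv_smul] at this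
      exact this

theorem conj_mem_Q (hg : g ∈ Γ.Q v) (h : G) : h * g * h⁻¹ ∈ Γ.Q (h • v) := by
  rw [mem_Q_smul]
  simpa [mul_assoc] using hg

theorem conj_mem_Q_of_fix (hg : g ∈ Γ.Q v) (hh : h • v = v) : h * g * h⁻¹ ∈ Γ.Q v := by
  have := conj_mem_Q hg h
  rwa [hh] at this

theorem conj_mem_Q_of_eq (hg : g ∈ Γ.Q v) (hh : h • v = w) : h * g * h⁻¹ ∈ Γ.Q w := by
  have := conj_mem_Q hg h
  rwa [hh] at this

/-- conjugates of elements fixing a vertex -/
theorem conj_fix (hg : g • v = v) (h : G) : (h * g * h⁻¹) • (h • v) = h • v := by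
  rw [mul_smul, mul_smul, inv_smul_smul, hg]

theorem conj_fix_of_eq (hg : g • v = v) (hh : h • v = w) : (h * g * h⁻¹) • w = w := by
  rw [← hh]; exact conj_fix hg h

/-- an element fixing `v` and two of its neighbours is in `Q v` -/
theorem mem_Q_of_two (hv : g • v = v) (ha : Γ.A v a) (hb : Γ.A v b) (hab : a ≠ b) (hga : g • a = a)
    (hgb : g • b = b) : g ∈ Γ.Q v := by
  refine ⟨hv, fun w hw => ?_⟩
  obtain ⟨c, hc, hca, hcb, hall⟩ := exists_third ha hb hab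
  rcases hall w hw with rfl | rfl | rfl
  · exact hga
  · exact hgb
  · apply (third_unique ha hb hc (A_of_fix hv hc) hab hca hcb _ _).symm
    · intro h; apply hca; rw [← hga] at h; exact (MulAction.injective g h)
    · intro h; apply hcb; rw [← hgb] at h; exact (MulAction.injective g h)

/-- an element fixing `v` and one neighbour, not in `Q v`, swaps the other two -/
theorem swap_of_not_mem (hv : g • v = v) (ha : Γ.A v a) (hb : Γ.A v b) (hc : Γ.A v c) (hab : a ≠ b)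
    (hac : a ≠ c) (hbc : b ≠ c) (hga : g • a = a) (hg : g ∉ Γ.Q v) : g • b = c ∧ g • c = b := by
  have h1 : g • b ≠ a := fun h => hab (MulAction.injective g (h.trans hga.symm)).symm
  have h2 : g • b ≠ b := fun h => hg (mem_Q_of_two hv ha hb hab hga h)
  have h3 : g • c ≠ a := fun h => hac (MulAction.injective g (h.trans hga.symm)).symm
  have h4 : g • c ≠ c := fun h => hg (mem_Q_of_two hv ha hc hac hga h)
  refine ⟨third_unique ha hb (A_of_fix hv hb) hc hab h1 h2 hac.symm hbc.symm,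
    third_unique ha hc (A_of_fix hv hc) hb hac h3 h4 hab.symm hbc⟩

/-- two elements of the edge stabilizer outside `Q v` have their product in `Q v` -/
theorem mul_mem_Q (ha : Γ.A v a) (hg : g ∈ (T v a : Subgroup G)) (hh : h ∈ (T v a : Subgroup G)) (hgQ : g ∉ Γ.Q v)
    (hhQ : h ∉ Γ.Q v) : g * h ∈ Γ.Q v := by
  obtain ⟨hg1, hg2⟩ := mem_T.1 hg
  obtain ⟨hh1, hh2⟩ := mem_T.1 hh
  obtain ⟨b, c, hb, hc, hba, hca, hbc, -⟩ := exists_others ha
  have h1 := swap_of_not_mem hg1 ha hb hc hba.symm hca.symm hbc hg2 hgQ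
  have h2 := swap_of_not_mem hh1 ha hb hc hba.symm hca.symm hbc hh2 hhQ
  refine mem_Q_of_two (mul_fix hg1 hh1) ha hb hba.symm (mul_fix hg2 hh2) ?_
  rw [mul_smul, h2.1, h1.2]

/-- the stabilizer of a vertex is transitive on pairs of different neighbours -/
theorem exists_two_trans (ha : Γ.A v a) (hb : Γ.A v b) (hc : Γ.A v c) (hd : Γ.A v d) (hab : a ≠ b)
    (hcd : c ≠ d) : ∃ g : G, g • v = v ∧ g • a = c ∧ g • b = d := by
  obtain ⟨x, hx, hxa, hxb, hall⟩ := exists_third ha hb hab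
  -- first map `a` to `c`
  have h1 : ∃ g : G, g • v = v ∧ g • a = c := by
    obtain ⟨g, h1, h2⟩ := Γ.trans ha hc rfl
    exact ⟨g, h1, h2⟩
  obtain ⟨g, hgv, hga⟩ := h1
  by_cases h2 : g • b = d
  · exact ⟨g, hgv, hga, h2⟩
  · have h3 : g • b ≠ c := fun h => hab (MulAction.injective g (h.trans hga.symm)).symm
    obtain ⟨k, hkv, hkc, hkb, -⟩ := Γ.swap hc (A_of_fix hgv hb) hd h3.symm hcd h2
    exact ⟨k * g, mul_fix hkv hgv, by rw [mul_smul, hga, hkc], by rw [mul_smul, hkb]⟩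

theorem exists_trans (ha : Γ.A v a) (hb : Γ.A v b) : ∃ g : G, g • v = v ∧ g • a = b := by
  obtain ⟨g, h1, h2⟩ := Γ.trans ha hb rfl
  exact ⟨g, h1, h2⟩

/-- the edge stabilizer swaps the other two neighbours -/
theorem exists_T_not_mem_Q (ha : Γ.A v a) : ∃ g ∈ (T v a : Subgroup G), g ∉ Γ.Q v := by
  obtain ⟨b, c, hb, hc, hba, hca, hbc, -⟩ := exists_others ha
  obtain ⟨g, h1, h2, h3, -⟩ := Γ.swap ha hb hc hba.symm hca.symm hbc
  refine ⟨g, mem_T.2 ⟨h1, h2⟩, fun hQ => hbc ?_⟩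
  rw [← h3, hQ.2 b hb]

/-- a normal subgroup of the stabilizer of `v` is in `Q v` or transitive on the neighbours -/
theorem normal_trans {N : Subgroup G} (hNv : ∀ n ∈ N, n • v = v)
    (hN : ∀ g : G, g • v = v → ∀ n ∈ N, g * n * g⁻¹ ∈ N) (hne : ∃ n ∈ N, n ∉ Γ.Q v) (ha : Γ.A v a)
    (hb : Γ.A v b) : ∃ n ∈ N, n • a = b := by
  obtain ⟨n, hn, hnQ⟩ := hne
  -- `n` moves some neighbour
  have h1 : ∃ x, Γ.A v x ∧ n • x ≠ x := by
    by_contra hcon
    push Not at hcon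
    exact hnQ ⟨hNv n hn, hcon⟩
  obtain ⟨x, hx, hnx⟩ := h1
  by_cases hab : a = b
  · exact ⟨1, one_mem _, by rw [one_smul, hab]⟩
  obtain ⟨g, hgv, hgx, hgy⟩ := exists_two_trans hx (A_of_fix (hNv n hn) hx) ha hb hnx.symm hab
  refine ⟨g * n * g⁻¹, hN g hgv n hn, ?_⟩
  rw [mul_smul, mul_smul, ← hgx, inv_smul_smul, hgy]

/-- **Closure lemma.** -/
theorem closure_bot (Γ : Tri G V) (N : Subgroup G) (P : Set V) (hne : P.Nonempty)
    (hfix : ∀ p ∈ P, ∀ n ∈ N, n • p = p)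
    (hcl : ∀ p ∈ P, ∀ w, Γ.A p w → ∃ g : G, (∀ n ∈ N, g⁻¹ * n * g ∈ N) ∧ ∃ p' ∈ P, g • p' = w) :
    ∀ n ∈ N, n = 1 := by
  have key : ∀ v, v ∈ {v : V | ∃ g : G, (∀ n ∈ N, g⁻¹ * n * g ∈ N) ∧ ∃ p ∈ P, g • p = v} := by
    apply Γ.conn
    · obtain ⟨p, hp⟩ := hne
      exact ⟨p, 1, fun n hn => by simpa using hn, p, hp, one_smul _ _⟩
    · rintro v ⟨g, hg, p, hp, rfl⟩ w hw
      have h1 : Γ.A p (g⁻¹ • w) := by
        have := Γ.smul g⁻¹ hw
        rwa [inv_smul_smul] at this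
      obtain ⟨k, hk, p', hp', h2⟩ := hcl p hp _ h1
      refine ⟨g * k, fun n hn => ?_, p', hp', ?_⟩
      · have := hk _ (hg n hn)
        simpa [mul_assoc] using this
      · rw [mul_smul, h2, smul_inv_smul]
  intro n hn
  apply Γ.faith
  intro v
  obtain ⟨g, hg, p, hp, rfl⟩ := key v
  have h1 := hfix p hp _ (hg n hn)
  rw [mul_smul, mul_smul, inv_smul_eq_iff] at h1
  exact h1

/-- a subgroup of an edge stabilizer normalised by groups transitive on the neighbours of both ends -/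
theorem edge_bot (Γ : Tri G V) {v w : V} (hvw : Γ.A v w) (N : Subgroup G) (hN : ∀ n ∈ N, n • v = v ∧ n • w = w)
    (h1 : ∀ a, Γ.A v a → ∃ g : G, (∀ n ∈ N, g⁻¹ * n * g ∈ N) ∧ g • w = a)
    (h2 : ∀ a, Γ.A w a → ∃ g : G, (∀ n ∈ N, g⁻¹ * n * g ∈ N) ∧ g • v = a) : ∀ n ∈ N, n = 1 := by
  apply closure_bot Γ N {v, w} ⟨v, Or.inl rfl⟩
  · rintro p (rfl | rfl) n hn
    · exact (hN n hn).1
    · exact (hN n hn).2
  · rintro p (rfl | rfl) x hx
    · obtain ⟨g, hg, hgx⟩ := h1 x hx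
      exact ⟨g, hg, w, Or.inr rfl, hgx⟩
    · obtain ⟨g, hg, hgx⟩ := h2 x hx
      exact ⟨g, hg, v, Or.inl rfl, hgx⟩

/-- `N` normal in `G_v` and centralised by a group which is transitive on the neighbours of `w` -/
theorem edge_cent_bot (Γ : Tri G V) {v w : V} (hvw : Γ.A v w) (N : Subgroup G)
    (hN : ∀ n ∈ N, n • v = v ∧ n • w = w) (h1 : ∀ g : G, g • v = v → ∀ n ∈ N, g * n * g⁻¹ ∈ N)
    (h2 : ∀ a, Γ.A w a → ∃ g : G, (∀ n ∈ N, g * n = n * g) ∧ g • v = a) : ∀ n ∈ N, n = 1 := by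
  apply edge_bot Γ hvw N hN
  · intro a ha
    obtain ⟨g, hgv, hga⟩ := exists_trans hvw ha
    refine ⟨g, fun n hn => ?_, hga⟩
    have := h1 g⁻¹ (inv_fix hgv) n hn
    rwa [inv_inv] at this
  · intro a ha
    obtain ⟨g, hg, hga⟩ := h2 a ha
    refine ⟨g, fun n hn => ?_, hga⟩
    rw [mul_assoc, ← hg n hn, inv_mul_cancel_left]
    exact hn

/-- An equivariant family with `F a ≤ F b` for two neighbours `a ≠ b` of a vertex is trivial. -/
theorem fam_bot (Γ : Tri G V) {F : V → Subgroup G} (hF : ∀ (g : G) (v : V), ∀ x ∈ F v, g * x * g⁻¹ ∈ F (g • v))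
    {v a b : V} (ha : Γ.A v a) (hb : Γ.A v b) (hab : a ≠ b) (hle : F a ≤ F b)
    (hfix : ∀ x ∈ F a, x • v = v ∧ x • a = a) : ∀ x ∈ F a, x = 1 := by
  have hle' : ∀ c d, Γ.A v c → Γ.A v d → c ≠ d → F c ≤ F d := by
    intro c d hc hd hcd x hx
    obtain ⟨g, hgv, hgc, hgd⟩ := exists_two_trans ha hb hc hd hab hcd
    have h1 : g⁻¹ * x * g ∈ F a := by
      have := hF g⁻¹ c x hx
      rwa [inv_inv, ← hgc, inv_smul_smul] at this
    have h2 := hF g b _ (hle h1)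
    rw [hgd] at h2
    simpa [mul_assoc] using h2
  have hall : ∀ c, Γ.A v c → ∀ x ∈ F a, x ∈ F c := by
    intro c hc x hx
    by_cases hac : a = c
    · rwa [← hac]
    · exact hle' a c ha hc hac hx
  have hall' : ∀ c, Γ.A v c → ∀ x ∈ F c, x ∈ F a := by
    intro c hc x hx
    by_cases hac : a = c
    · rwa [hac]
    · exact hle' c a hc ha (Ne.symm hac) hx
  apply edge_bot Γ ha (F a) (fun n hn => hfix n hn)
  · intro c hc
    obtain ⟨g, hgv, hgc⟩ := exists_trans ha hc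
    refine ⟨g, fun n hn => ?_, hgc⟩
    have h1 := hF g⁻¹ c n (hall c hc n hn)
    rwa [inv_inv, ← hgc, inv_smul_smul] at h1
  · intro c hc
    obtain ⟨g, hga, hgc⟩ := exists_trans (Γ.symm ha) hc
    refine ⟨g, fun n hn => ?_, hgc⟩
    have h1 := hF g⁻¹ a n hn
    rwa [inv_inv, inv_fix hga] at h1

end QLemmas

end Tri

end Cfsg.Agent.H209
end

-- part: H209/TriArc
section
/-!
# Arcs (walks without backtracking) in trivalent graphs

Arcs are functions `p : ℤ → V` considered on an interval `[i, j]`.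
-/

set_option autoImplicit false

namespace Cfsg.Agent.H209

open MulAction

/-- a subgroup of index at most two, elementwise -/
def Half {G : Type*} [Group G] (H K : Subgroup G) : Prop :=
  H ≤ K ∧ ∀ x ∈ K, ∀ y ∈ K, x ∉ H → y ∉ H → x * y ∈ H

namespace Half

variable {G : Type*} [Group G] {H K L : Subgroup G}

theorem inf_left (h : Half H K) (hL : L ≤ K) : Half (H ⊓ L) L := by
  refine ⟨inf_le_right, fun x hx y hy hxn hyn => ⟨h.2 x (hL hx) y (hL hy) ?_ ?_, L.mul_mem hx hy⟩⟩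
  · exact fun hxH => hxn ⟨hxH, hx⟩
  · exact fun hyH => hyn ⟨hyH, hy⟩

theorem card_le (h : Half H K) (hK : Finite K) : Nat.card K ≤ 2 * Nat.card H := by
  classical
  have hfH : Finite H := Finite.of_injective (Subgroup.inclusion h.1) (Subgroup.inclusion_injective _)
  by_cases hKH : K ≤ H
  · have := Nat.card_le_card_of_injective (Subgroup.inclusion hKH) (Subgroup.inclusion_injective _)
    omega
  · obtain ⟨x, hxK, hxH⟩ := Set.not_subset.1 hKH
    let f : K → Bool × H := fun y =>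
      if hy : (y : G) ∈ H then (true, ⟨y, hy⟩) else (false, ⟨x * y, h.2 x hxK y y.2 hxH hy⟩)
    have hf : Function.Injective f := by
      intro y z hyz
      by_cases hy : (y : G) ∈ H <;> by_cases hz : (z : G) ∈ H
      · simp only [f, hy, hz, dif_pos] at hyz
        have := congrArg (fun t => (t.2 : G)) hyz
        exact Subtype.ext this
      · simp only [f, hy, hz] at hyz
        have := congrArg (fun t => t.1) hyz
        simp at this
      · simp only [f, hy, hz] at hyz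
        have := congrArg (fun t => t.1) hyz
        simp at this
      · simp only [f, hy, hz] at hyz
        have := congrArg (fun t => (t.2 : G)) hyz
        simp at this
        exact this
    have h1 := Nat.card_le_card_of_injective f hf
    rw [Nat.card_prod] at h1
    simpa using h1

theorem mul_not_mem {x y : G} (hxH : x ∈ H) (hy : y ∉ H) : x * y ∉ H := by
  intro hxy
  exact hy ((H.mul_mem_cancel_left hxH).1 hxy)

end Half

theorem card_le_two_of_forall {G : Type*} [Group G] {K : Subgroup G} (H : Subgroup G) (h : Half H K)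
    (hK : Finite K) {m : ℕ} (hH : Nat.card H ≤ m) : Nat.card K ≤ 2 * m :=
  (h.card_le hK).trans (Nat.mul_le_mul_left 2 hH)

theorem card_le_one_of_forall {G : Type*} [Group G] {K : Subgroup G} (h : ∀ x ∈ K, x = 1) : Nat.card K ≤ 1 := by
  have : K = ⊥ := by
    rw [eq_bot_iff]
    intro x hx
    rw [Subgroup.mem_bot]
    exact h x hx
  rw [this]
  simp

/-- the involutions in the center (and the identity) -/
def OZ {G : Type*} [Group G] (H : Subgroup G) : Subgroup G where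
  carrier := {x | x ∈ H ∧ x * x = 1 ∧ ∀ h ∈ H, x * h = h * x}
  mul_mem' := by
    rintro x y ⟨hx, hx2, hxc⟩ ⟨hy, hy2, hyc⟩
    refine ⟨H.mul_mem hx hy, ?_, fun h hh => ?_⟩
    · have := hxc y hy
      calc x * y * (x * y) = x * (y * x) * y := by group
        _ = x * (x * y) * y := by rw [this]
        _ = (x * x) * (y * y) := by group
        _ = 1 := by rw [hx2, hy2, one_mul]
    · rw [mul_assoc, hyc h hh, ← mul_assoc, hxc h hh, mul_assoc]
  one_mem' := ⟨H.one_mem, by simp, fun h _ => by simp⟩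
  inv_mem' := by
    rintro x ⟨hx, hx2, hxc⟩
    have : x⁻¹ = x := by rw [inv_eq_iff_mul_eq_one]; exact hx2
    rw [show x⁻¹ = x from this]
    exact ⟨hx, hx2, hxc⟩

section OZ

variable {G : Type*} [Group G] {H : Subgroup G} {x : G}

theorem mem_OZ : x ∈ OZ H ↔ x ∈ H ∧ x * x = 1 ∧ ∀ h ∈ H, x * h = h * x := Iff.rfl

theorem OZ_le (H : Subgroup G) : OZ H ≤ H := fun _ h => h.1

/-- a nontrivial finite 2-subgroup has a central involution -/
theorem exists_OZ (hfin : Finite H) (hH : IsPGroup 2 H) (hne : ∃ x ∈ H, x ≠ 1) : ∃ z ∈ OZ H, z ≠ 1 := by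
  obtain ⟨x, hx, hx1⟩ := hne
  have : Nontrivial H := ⟨⟨⟨x, hx⟩, 1, fun h => hx1 (congrArg Subtype.val h)⟩⟩
  have hc : Nontrivial (Subgroup.center H) := hH.center_nontrivial
  have hcp : IsPGroup 2 (Subgroup.center H) := hH.to_subgroup _
  have h2 : 2 ∣ Nat.card (Subgroup.center H) := by
    obtain ⟨n, hn⟩ := IsPGroup.iff_card.1 hcp
    rw [hn]
    rcases Nat.eq_zero_or_pos n with h0 | h0
    · rw [h0, pow_zero] at hn
      have := (Nat.card_eq_one_iff_unique.1 hn).1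
      exact absurd this (not_subsingleton_iff_nontrivial.2 hc)
    · exact dvd_pow_self 2 (by omega)
  obtain ⟨z, hz⟩ := exists_prime_orderOf_dvd_card' 2 h2
  refine ⟨((z : H) : G), ⟨(z : H).2, ?_, ?_⟩, ?_⟩
  · have h1 : z ^ 2 = 1 := by rw [← hz]; exact pow_orderOf_eq_one z
    rw [pow_two] at h1
    exact congrArg (fun t : Subgroup.center H => ((t : H) : G)) h1
  · intro h hh
    have := Subgroup.mem_center_iff.1 z.2 ⟨h, hh⟩
    exact (congrArg (fun t : H => (t : G)) this).symm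
  · intro h1
    have : z = 1 := by
      apply Subtype.ext
      apply Subtype.ext
      exact h1
    rw [this, orderOf_one] at hz
    exact absurd hz (by norm_num)

end OZ

namespace Tri

variable {G V : Type*} [Group G] [MulAction G V] (Γ : Tri G V)

/-- `p` is a walk without backtracking on the interval `[i, j]` -/
def Arc (p : ℤ → V) (i j : ℤ) : Prop :=
  (∀ k, i ≤ k → k < j → Γ.A (p k) (p (k + 1))) ∧ ∀ k, i ≤ k → k + 2 ≤ j → p k ≠ p (k + 2)

variable {Γ} {p : ℤ → V} {i j : ℤ} {u v w : V}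

namespace Arc

theorem sub (h : Γ.Arc p i j) {i' j' : ℤ} (hi : i ≤ i') (hj : j' ≤ j) : Γ.Arc p i' j' :=
  ⟨fun k h1 h2 => h.1 k (by omega) (by omega), fun k h1 h2 => h.2 k (by omega) (by omega)⟩

theorem smul (h : Γ.Arc p i j) (g : G) : Γ.Arc (fun k => g • p k) i j :=
  ⟨fun k h1 h2 => Γ.smul g (h.1 k h1 h2), fun k h1 h2 h3 => h.2 k h1 h2 (MulAction.injective g h3)⟩

theorem adj (h : Γ.Arc p i j) {k : ℤ} (h1 : i ≤ k) (h2 : k < j) : Γ.A (p k) (p (k + 1)) := h.1 k h1 h2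

theorem adj' (h : Γ.Arc p i j) {k : ℤ} (h1 : i < k) (h2 : k ≤ j) : Γ.A (p k) (p (k - 1)) := by
  have := h.1 (k - 1) (by omega) (by omega)
  rw [sub_add_cancel] at this
  exact Γ.symm this

theorem ne (h : Γ.Arc p i j) {k l : ℤ} (h1 : i ≤ k) (h2 : l ≤ j) (hkl : l = k + 2) : p k ≠ p l := by
  subst hkl; exact h.2 k h1 h2

theorem ne' (h : Γ.Arc p i j) {k l : ℤ} (h1 : i ≤ k) (h2 : l ≤ j) (hkl : l = k + 2) : p l ≠ p k :=
  (h.ne h1 h2 hkl).symm

theorem rev (h : Γ.Arc p i j) (c : ℤ) : Γ.Arc (fun k => p (c - k)) (c - j) (c - i) := by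
  refine ⟨fun k h1 h2 => ?_, fun k h1 h2 => ?_⟩
  · have := h.adj' (k := c - k) (by omega) (by omega)
    have e : c - k - 1 = c - (k + 1) := by ring
    rwa [e] at this
  · have := h.2 (c - (k + 2)) (by omega) (by omega)
    have e : c - (k + 2) + 2 = c - k := by ring
    rw [e] at this
    exact this.symm

theorem shift (h : Γ.Arc p i j) (c : ℤ) : Γ.Arc (fun k => p (k + c)) (i - c) (j - c) := by
  refine ⟨fun k h1 h2 => ?_, fun k h1 h2 => ?_⟩
  · have := h.1 (k + c) (by omega) (by omega)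
    have e : k + c + 1 = k + 1 + c := by ring
    rwa [e] at this
  · have := h.2 (k + c) (by omega) (by omega)
    have e : k + c + 2 = k + 2 + c := by ring
    rwa [e] at this

/-- extension to the right -/
theorem snoc (h : Γ.Arc p i j) {x : V} (hx : Γ.A (p j) x) (hne : i < j → x ≠ p (j - 1)) :
    Γ.Arc (Function.update p (j + 1) x) i (j + 1) := by
  refine ⟨fun k h1 h2 => ?_, fun k h1 h2 => ?_⟩
  · rw [Function.update_of_ne (by omega)]
    by_cases hk : k = j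
    · subst hk
      rw [Function.update_self]; exact hx
    · rw [Function.update_of_ne (by omega)]
      exact h.1 k h1 (by omega)
  · rw [Function.update_of_ne (by omega)]
    by_cases hk : k + 2 = j + 1
    · rw [hk, Function.update_self]
      have e : k = j - 1 := by omega
      subst e
      exact (hne (by omega)).symm
    · rw [Function.update_of_ne (by omega)]
      exact h.2 k h1 (by omega)

/-- extension to the left -/
theorem cons (h : Γ.Arc p i j) {x : V} (hx : Γ.A (p i) x) (hne : i < j → x ≠ p (i + 1)) :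
    Γ.Arc (Function.update p (i - 1) x) (i - 1) j := by
  refine ⟨fun k h1 h2 => ?_, fun k h1 h2 => ?_⟩
  · by_cases hk : k = i - 1
    · subst hk
      rw [Function.update_self, sub_add_cancel, Function.update_of_ne (by omega)]; exact Γ.symm hx
    · rw [Function.update_of_ne hk, Function.update_of_ne (by omega)]
      exact h.1 k (by omega) (by omega)
  · by_cases hk : k = i - 1
    · subst hk
      have e : i - 1 + 2 = i + 1 := by ring
      rw [Function.update_self, e, Function.update_of_ne (by omega)]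
      exact hne (by omega)
    · rw [Function.update_of_ne hk, Function.update_of_ne (by omega)]
      exact h.2 k (by omega) (by omega)

theorem exists_snoc (h : Γ.Arc p i j) {x : V} (hx : Γ.A (p j) x) (hne : i < j → x ≠ p (j - 1)) :
    ∃ q : ℤ → V, Γ.Arc q i (j + 1) ∧ q (j + 1) = x ∧ ∀ k ≤ j, q k = p k :=
  ⟨_, h.snoc hx hne, Function.update_self _ _ _, fun _ hk => Function.update_of_ne (by omega) _ _⟩

theorem exists_cons (h : Γ.Arc p i j) {x : V} (hx : Γ.A (p i) x) (hne : i < j → x ≠ p (i + 1)) :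
    ∃ q : ℤ → V, Γ.Arc q (i - 1) j ∧ q (i - 1) = x ∧ ∀ k ≥ i, q k = p k :=
  ⟨_, h.cons hx hne, Function.update_self _ _ _, fun _ hk => Function.update_of_ne (by omega) _ _⟩

theorem single (v : V) (i : ℤ) : Γ.Arc (fun _ => v) i i :=
  ⟨fun k h1 h2 => by omega, fun k h1 h2 => by omega⟩

theorem ty_step (h : Γ.Arc p i j) {k : ℤ} (h1 : i ≤ k) (h2 : k < j) : Γ.ty (p (k + 1)) = !Γ.ty (p k) :=
  Γ.ty_adj (h.1 k h1 h2)

theorem ty_two (h : Γ.Arc p i j) {k l : ℤ} (h1 : i ≤ k) (h2 : l ≤ j) (hkl : l = k + 2) :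
    Γ.ty (p l) = Γ.ty (p k) := by
  subst hkl
  have h3 := h.ty_step (k := k) h1 (by omega)
  have h4 := h.ty_step (k := k + 1) (by omega) (by omega)
  have e : k + 1 + 1 = k + 2 := by ring
  rw [e] at h4
  rw [h4, h3, Bool.not_not]

theorem ty_nat (h : Γ.Arc p i j) (n : ℕ) : i + n ≤ j → Γ.ty (p (i + n)) = (if Even n then Γ.ty (p i) else !Γ.ty (p i)) := by
  induction n with
  | zero => intro _; simp
  | succ n ih =>
    intro hn
    have h1 := ih (by push_cast at hn; omega)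
    have h2 := h.ty_step (k := i + n) (by omega) (by push_cast at hn; omega)
    have e : i + (n : ℤ) + 1 = i + ((n + 1 : ℕ) : ℤ) := by push_cast; ring
    rw [e] at h2
    rw [h2, h1]
    by_cases hev : Even n
    · simp [hev, Nat.even_add_one]
    · simp [hev, Nat.even_add_one]

/-- vertices at even distance have the same type -/
theorem ty_even (h : Γ.Arc p i j) {k l : ℤ} (h1 : i ≤ k) (h2 : k ≤ j) (h3 : i ≤ l) (h4 : l ≤ j)
    (hev : (l - k) % 2 = 0) : Γ.ty (p l) = Γ.ty (p k) := by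
  have key : ∀ k l : ℤ, i ≤ k → k ≤ l → l ≤ j → (l - k) % 2 = 0 → Γ.ty (p l) = Γ.ty (p k) := by
    intro k l h1 h2 h3 h4
    have h5 := (h.sub h1 le_rfl).ty_nat (l - k).toNat (by omega)
    have e : k + ((l - k).toNat : ℤ) = l := by omega
    rw [e] at h5
    rw [h5, if_pos]
    rw [Nat.even_iff]
    omega
  rcases le_total k l with hkl | hkl
  · exact key k l h1 hkl h4 hev
  · exact (key l k h3 hkl h2 (by omega)).symm

/-- vertices at odd distance have different types -/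
theorem ty_odd (h : Γ.Arc p i j) {k l : ℤ} (h1 : i ≤ k) (h2 : k ≤ j) (h3 : i ≤ l) (h4 : l ≤ j)
    (hodd : (l - k) % 2 = 1) : Γ.ty (p l) = !Γ.ty (p k) := by
  rcases lt_or_ge k j with hk | hk
  · rw [← h.ty_step (k := k) h1 hk]
    exact h.ty_even (by omega) (by omega) h3 h4 (by omega)
  · have hk' : k = j := le_antisymm h2 hk
    have h5 : Γ.ty (p k) = !Γ.ty (p (k - 1)) := by
      have := h.ty_step (k := k - 1) (by omega) (by omega)
      rwa [sub_add_cancel] at this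
    rw [h5, Bool.not_not]
    exact h.ty_even (by omega) (by omega) h3 h4 (by omega)

end Arc

/-- every vertex is the end of an arc -/
theorem exists_arc (v w : V) : ∃ (p : ℤ → V) (n : ℕ), Γ.Arc p 0 n ∧ p 0 = v ∧ p n = w := by
  have key : ∀ w, w ∈ {w : V | ∃ (p : ℤ → V) (n : ℕ), Γ.Arc p 0 n ∧ p 0 = v ∧ p n = w} := by
    apply Γ.conn
    · refine ⟨v, fun _ => v, 0, ?_, rfl, rfl⟩
      simpa using Arc.single (Γ := Γ) v 0
    · rintro w ⟨p, n, hp, h0, hn⟩ x hx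
      by_cases h : 0 < (n : ℤ) → x ≠ p ((n : ℤ) - 1)
      · rw [← hn] at hx
        obtain ⟨q, hq, hqx, hqk⟩ := hp.exists_snoc hx h
        refine ⟨q, n + 1, ?_, ?_, ?_⟩
        · push_cast; exact hq
        · rw [hqk 0 (by omega), h0]
        · push_cast; exact hqx
      · push Not at h
        obtain ⟨hn0, hx'⟩ := h
        refine ⟨p, n - 1, ?_, h0, ?_⟩
        · refine hp.sub le_rfl (by omega)
        · rw [hx']; congr 1; omega
  exact key w

/-- minimal length of an arc from a vertex `v` of admissible type to `w` with `F v` not in `Q w` -/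
theorem exists_min (F : V → Subgroup G) (Pt : Bool → Prop) (v₀ : V) (hv₀ : Pt (Γ.ty v₀)) (hF : ∃ x ∈ F v₀, x ≠ 1) :
    ∃ n : ℤ, 0 ≤ n ∧ (∃ p : ℤ → V, Γ.Arc p 0 n ∧ Pt (Γ.ty (p 0)) ∧ ¬ F (p 0) ≤ Γ.Q (p n)) ∧
      ∀ (p : ℤ → V) (i j : ℤ), i ≤ j → Γ.Arc p i j → Pt (Γ.ty (p i)) → j - i < n → F (p i) ≤ Γ.Q (p j) := by
  classical
  have hex : ∃ n : ℕ, ∃ p : ℤ → V, Γ.Arc p 0 n ∧ Pt (Γ.ty (p 0)) ∧ ¬ F (p 0) ≤ Γ.Q (p n) := by
    by_contra hcon
    push Not at hcon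
    obtain ⟨x, hx, hx1⟩ := hF
    apply hx1
    apply Γ.faith
    intro w
    obtain ⟨p, n, hp, h0, hn⟩ := exists_arc (Γ := Γ) v₀ w
    have := hcon n p hp (by rw [h0]; exact hv₀) (by rw [h0]; exact hx)
    rw [hn] at this
    exact this.1
  refine ⟨(Nat.find hex : ℕ), by omega, Nat.find_spec hex, ?_⟩
  intro p i j hij hp hty hlt
  by_contra hcon
  refine Nat.find_min hex (m := (j - i).toNat) (by omega) ⟨fun k => p (k + i), ?_, ?_, ?_⟩
  · have := hp.shift i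
    have e1 : i - i = 0 := by ring
    have e2 : (((j - i).toNat : ℕ) : ℤ) = j - i := by omega
    rw [e1] at this
    rw [e2]
    exact this
  · simpa using hty
  · have e : (((j - i).toNat : ℕ) : ℤ) + i = j := by omega
    simp only [zero_add, e]
    exact hcon

end Tri

end Cfsg.Agent.H209
end

-- part: H209/TriPU
section
/-!
# Pushing up for trivalent graphs

If `Q v ∩ Q a = Q v ∩ Q b` for some vertex `v` and two different neighbours `a`, `b`, then the edge stabilizers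
have order at most 64 (`Tri.PU.card_le`).
-/

set_option autoImplicit false

namespace Cfsg.Agent.H209

open MulAction

namespace Tri

variable {G V : Type*} [Group G] [MulAction G V] {Γ : Tri G V}
variable {u v w a b c d : V} {g h : G}

omit Γ in
theorem mem_T_smul : g ∈ (T (h • v) (h • w) : Subgroup G) ↔ h⁻¹ * g * h ∈ (T v w : Subgroup G) := by
  rw [mem_T, mem_T, mul_smul, mul_smul, mul_smul, mul_smul, inv_smul_eq_iff, inv_smul_eq_iff]

omit Γ in
theorem card_T_smul (h : G) (v w : V) : Nat.card (T (h • v) (h • w) : Subgroup G) = Nat.card (T v w : Subgroup G) := by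
  apply Nat.card_congr
  refine ⟨fun x => ⟨h⁻¹ * x * h, mem_T_smul.1 x.2⟩, fun x => ⟨h * x * h⁻¹, ?_⟩, fun x => ?_, fun x => ?_⟩
  · rw [mem_T_smul]
    have : h⁻¹ * (h * (x : G) * h⁻¹) * h = x := by group
    rw [this]; exact x.2
  · apply Subtype.ext
    show h * (h⁻¹ * (x : G) * h) * h⁻¹ = x
    group
  · apply Subtype.ext
    show h⁻¹ * (h * (x : G) * h⁻¹) * h = x
    group

theorem card_T_eq (h1 : Γ.A v w) (h2 : Γ.A a b) : Nat.card (T v w : Subgroup G) = Nat.card (T a b : Subgroup G) := by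
  by_cases hty : Γ.ty v = Γ.ty a
  · obtain ⟨g, rfl, rfl⟩ := Γ.trans h1 h2 hty
    rw [card_T_smul]
  · have hty' : Γ.ty v = Γ.ty b := by
      rw [Γ.ty_adj h2]
      cases hv : Γ.ty v <;> cases ha : Γ.ty a <;> simp_all
    obtain ⟨g, rfl, rfl⟩ := Γ.trans h1 (Γ.symm h2) hty'
    rw [T_comm (g • w), card_T_smul]

theorem finT (Γ : Tri G V) (v w : V) : Finite (T v w : Subgroup G) := by
  have := Γ.fin v
  exact Finite.of_injective (Subgroup.inclusion (inf_le_left : (T v w : Subgroup G) ≤ stabilizer G v))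
    (Subgroup.inclusion_injective _)

theorem finSub {H : Subgroup G} (Γ : Tri G V) (v : V) (hH : ∀ x ∈ H, x • v = v) : Finite H := by
  have := Γ.fin v
  have hle : H ≤ stabilizer G v := fun x hx => mem_stabilizer_iff.2 (hH x hx)
  exact Finite.of_injective (Subgroup.inclusion hle) (Subgroup.inclusion_injective _)

theorem half_Q (h : Γ.A v w) : Half (Γ.Q v) (T v w) :=
  ⟨Q_le_T h, fun _ hx _ hy hxQ hyQ => mul_mem_Q h hx hy hxQ hyQ⟩

theorem half_Q' (h : Γ.A v w) : Half (Γ.Q v) (T w v) := by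
  rw [T_comm]; exact half_Q h

theorem card_T_le (h : Γ.A v w) {m : ℕ} (hm : Nat.card (Γ.Q v) ≤ m) : Nat.card (T v w : Subgroup G) ≤ 2 * m :=
  card_le_two_of_forall _ (half_Q h) (finT Γ v w) hm

theorem isPGroup_T (h : Γ.A v w) : IsPGroup 2 (T v w : Subgroup G) := Γ.two h

theorem isPGroup_of_le {H : Subgroup G} (h : Γ.A v w) (hH : H ≤ T v w) : IsPGroup 2 H :=
  (isPGroup_T h).to_le hH

/-- `Q v ≤ Q w` for an edge: the trivial case -/
theorem card_le_two_of_Q_le (h : Γ.A v w) (hle : Γ.Q v ≤ Γ.Q w) : Nat.card (T v w : Subgroup G) ≤ 2 := by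
  have hle' : Γ.Q w ≤ Γ.Q v := by
    intro x hx
    by_contra hxv
    obtain ⟨t, ht, htQ⟩ := exists_T_not_mem_Q (Γ.symm h)
    have htv : t ∉ Γ.Q v := fun h1 => htQ (hle h1)
    rw [T_comm] at ht
    have h1 := mul_mem_Q h (Q_le_T' (Γ.symm h) hx) ht hxv htv
    exact htQ (((Γ.Q w).mul_mem_cancel_left hx).1 (hle h1))
  have hbot : ∀ x ∈ Γ.Q v, x = 1 := by
    apply edge_bot Γ h (Γ.Q v) (fun n hn => ⟨hn.1, hn.2 w h⟩)
    · intro a ha
      obtain ⟨g, hg, hga⟩ := exists_trans h ha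
      refine ⟨g, fun n hn => ?_, hga⟩
      have := conj_mem_Q_of_fix hn (inv_fix hg)
      rwa [inv_inv] at this
    · intro a ha
      obtain ⟨g, hg, hga⟩ := exists_trans (Γ.symm h) ha
      refine ⟨g, fun n hn => hle' ?_, hga⟩
      have := conj_mem_Q_of_fix (hle hn) (inv_fix hg)
      rwa [inv_inv] at this
  have := card_T_le h (card_le_one_of_forall hbot)
  simpa using this

/-- transitivity on pairs of neighbours, for two vertices of the same type -/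
theorem exists_two_trans' (ha : Γ.A v a) (hb : Γ.A v b) (hc : Γ.A w c) (hd : Γ.A w d) (hab : a ≠ b)
    (hcd : c ≠ d) (hty : Γ.ty v = Γ.ty w) : ∃ g : G, g • v = w ∧ g • a = c ∧ g • b = d := by
  obtain ⟨g, hgv, hga⟩ := Γ.trans ha hc hty
  have h1 : Γ.A w (g • b) := by
    have := Γ.smul g hb
    rwa [hgv] at this
  have h2 : c ≠ g • b := by
    rw [← hga]; exact fun h => hab (MulAction.injective g h)
  obtain ⟨k, hk1, hk2, hk3⟩ := exists_two_trans hc h1 hc hd h2 hcd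
  exact ⟨k * g, by rw [mul_smul, hgv, hk1], by rw [mul_smul, hga, hk2], by rw [mul_smul, hk3]⟩

/-- the pushing up hypothesis at the vertices of type `π` -/
def PU (Γ : Tri G V) (π : Bool) : Prop :=
  ∀ v, Γ.ty v = π → ∀ a b, Γ.A v a → Γ.A v b → Γ.Q v ⊓ Γ.Q a ≤ Γ.Q b

theorem PU_of (ha : Γ.A v a) (hb : Γ.A v b) (hab : a ≠ b) (h : Γ.Q v ⊓ Γ.Q a ≤ Γ.Q b) : PU Γ (Γ.ty v) := by
  intro w hw c d hc hd x hx
  by_cases hcd : c = d
  · rw [← hcd]; exact hx.2
  obtain ⟨g, hgv, hga, hgb⟩ := exists_two_trans' ha hb hc hd hab hcd hw.symm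
  have h1 : g⁻¹ * x * g ∈ Γ.Q v ⊓ Γ.Q a := by
    refine ⟨?_, ?_⟩
    · show g⁻¹ * x * g ∈ Γ.Q v
      rw [← mem_Q_smul, hgv]; exact hx.1
    · show g⁻¹ * x * g ∈ Γ.Q a
      rw [← mem_Q_smul, hga]; exact hx.2
  have h2 := h h1
  rwa [← mem_Q_smul, hgb] at h2

/-- `D v = Q v ∩ ⋂ Q a` -/
def D (Γ : Tri G V) (v : V) : Subgroup G where
  carrier := {g | g ∈ Γ.Q v ∧ ∀ a, Γ.A v a → g ∈ Γ.Q a}
  mul_mem' := fun hg hh => ⟨mul_mem hg.1 hh.1, fun a ha => mul_mem (hg.2 a ha) (hh.2 a ha)⟩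
  one_mem' := ⟨one_mem _, fun _ _ => one_mem _⟩
  inv_mem' := fun hg => ⟨inv_mem hg.1, fun a ha => inv_mem (hg.2 a ha)⟩

theorem mem_D : g ∈ Γ.D v ↔ g ∈ Γ.Q v ∧ ∀ a, Γ.A v a → g ∈ Γ.Q a := Iff.rfl

theorem D_le_Q : Γ.D v ≤ Γ.Q v := fun _ hg => hg.1

theorem D_le_Q' (ha : Γ.A v a) : Γ.D v ≤ Γ.Q a := fun _ hg => hg.2 a ha

theorem conj_mem_D (hg : g ∈ Γ.D v) (h : G) : h * g * h⁻¹ ∈ Γ.D (h • v) := by
  refine ⟨conj_mem_Q hg.1 h, fun a ha => ?_⟩
  have h1 : Γ.A v (h⁻¹ • a) := by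
    have := Γ.smul h⁻¹ ha
    rwa [inv_smul_smul] at this
  have := conj_mem_Q (hg.2 _ h1) h
  rwa [smul_inv_smul] at this

theorem conj_mem_D_of_fix (hg : g ∈ Γ.D v) (hh : h • v = v) : h * g * h⁻¹ ∈ Γ.D v := by
  have := conj_mem_D hg h
  rwa [hh] at this

theorem conj_mem_D_of_eq (hg : g ∈ Γ.D v) (hh : h • v = w) : h * g * h⁻¹ ∈ Γ.D w := by
  have := conj_mem_D hg h
  rwa [hh] at this

/-- three neighbours: the closure lemma for a group fixing `w` and its neighbours, centralised by groups which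
are transitive on the neighbours of the neighbours of `w` -/
theorem star_bot (Γ : Tri G V) (w : V) (N : Subgroup G) (hN : ∀ n ∈ N, n ∈ Γ.Q w)
    (h1 : ∀ v, Γ.A w v → ∀ a, Γ.A v a → ∃ g : G, (∀ n ∈ N, g * n = n * g) ∧ g • w = a) : ∀ n ∈ N, n = 1 := by
  apply closure_bot Γ N ({w} ∪ {v | Γ.A w v}) ⟨w, Or.inl rfl⟩
  · rintro p (hp | hp) n hn
    · rw [Set.mem_singleton_iff] at hp; subst hp; exact (hN n hn).1
    · exact (hN n hn).2 p hp
  · rintro p (hp | hp) x hx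
    · rw [Set.mem_singleton_iff] at hp; subst hp
      exact ⟨1, fun n hn => by simpa using hn, x, Or.inr hx, one_smul _ _⟩
    · obtain ⟨g, hg, hgx⟩ := h1 p hp x hx
      refine ⟨g, fun n hn => ?_, w, Or.inl rfl, hgx⟩
      rw [mul_assoc, ← hg n hn, inv_mul_cancel_left]
      exact hn

/-- the centraliser of a normal subgroup is transitive or in `Q` -/
theorem cent_trans {N : Subgroup G} (hN : ∀ g : G, g • v = v → ∀ n ∈ N, g * n * g⁻¹ ∈ N)
    (hne : ∃ g : G, g • v = v ∧ (∀ n ∈ N, g * n = n * g) ∧ g ∉ Γ.Q v) (ha : Γ.A v a) (hb : Γ.A v b) :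
    ∃ g : G, g • v = v ∧ (∀ n ∈ N, g * n = n * g) ∧ g • a = b := by
  let C : Subgroup G := stabilizer G v ⊓ Subgroup.centralizer (N : Set G)
  have hmem : ∀ x, x ∈ C ↔ x • v = v ∧ ∀ n ∈ N, x * n = n * x := by
    intro x
    show x ∈ stabilizer G v ⊓ Subgroup.centralizer (N : Set G) ↔ _
    rw [Subgroup.mem_inf, mem_stabilizer_iff, Subgroup.mem_centralizer_iff]
    constructor
    · rintro ⟨h1, h2⟩; exact ⟨h1, fun n hn => (h2 n hn).symm⟩
    · rintro ⟨h1, h2⟩; exact ⟨h1, fun n hn => (h2 n hn).symm⟩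
  have h1 : ∀ g : G, g • v = v → ∀ n ∈ C, g * n * g⁻¹ ∈ C := by
    intro g hg n hn
    obtain ⟨h1, h2⟩ := (hmem n).1 hn
    refine (hmem _).2 ⟨mul_fix (mul_fix hg h1) (inv_fix hg), fun m hm => ?_⟩
    have h3 := hN g⁻¹ (inv_fix hg) m hm
    rw [inv_inv] at h3
    have h4 := h2 _ h3
    calc g * n * g⁻¹ * m = g * (n * (g⁻¹ * m * g)) * g⁻¹ := by group
      _ = g * ((g⁻¹ * m * g) * n) * g⁻¹ := by rw [h4]
      _ = m * (g * n * g⁻¹) := by group
  have h2 : ∃ n ∈ C, n ∉ Γ.Q v := by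
    obtain ⟨g, h1, h2, h3⟩ := hne
    exact ⟨g, (hmem g).2 ⟨h1, h2⟩, h3⟩
  obtain ⟨n, hn, hnab⟩ := normal_trans (fun n hn => ((hmem n).1 hn).1) h1 h2 ha hb
  exact ⟨n, ((hmem n).1 hn).1, ((hmem n).1 hn).2, hnab⟩

namespace PU

variable {π : Bool} (hPU : PU Γ π)

include hPU

theorem mem_D (hv : Γ.ty v = π) (ha : Γ.A v a) (hg : g ∈ Γ.Q v) (hga : g ∈ Γ.Q a) : g ∈ Γ.D v :=
  ⟨hg, fun b hb => hPU v hv a b ha hb ⟨hg, hga⟩⟩

theorem half_D (hv : Γ.ty v = π) (ha : Γ.A v a) : Half (Γ.D v) (Γ.Q a) := by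
  refine ⟨D_le_Q' ha, fun x hx y hy hxD hyD => ?_⟩
  have hxv : x ∉ Γ.Q v := fun h => hxD (hPU.mem_D hv ha h hx)
  have hyv : y ∉ Γ.Q v := fun h => hyD (hPU.mem_D hv ha h hy)
  have h1 := mul_mem_Q ha (Q_le_T' (Γ.symm ha) hx) (Q_le_T' (Γ.symm ha) hy) hxv hyv
  exact hPU.mem_D hv ha h1 (mul_mem hx hy)

/-- `D` is not contained in another `D` around the same vertex -/
theorem card_le_four (hv : Γ.ty v = π) (ha : Γ.A v a) (hw : Γ.A a w) (hvw : v ≠ w) (hle : Γ.D v ≤ Γ.D w) :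
    Nat.card (T v a : Subgroup G) ≤ 4 := by
  have h1 : ∀ x ∈ Γ.D v, x = 1 := by
    apply fam_bot Γ (F := fun v => Γ.D v) (fun g v x hx => conj_mem_D hx g) (Γ.symm ha) hw hvw hle
    intro x hx
    exact ⟨hx.1.2 a ha, hx.1.1⟩
  have h2 : Nat.card (Γ.Q a) ≤ 2 * 1 :=
    card_le_two_of_forall _ (hPU.half_D hv ha) (finSub Γ a fun x hx => hx.1) (card_le_one_of_forall h1)
  have := card_T_le (Γ.symm ha) h2
  rw [T_comm]
  omega

/-- the case where `D v` is centralised -/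
theorem card_le_of_cent (hv : Γ.ty v = π) (ha : Γ.A v a)
    (hne : ∃ g : G, g • v = v ∧ (∀ n ∈ Γ.D v, g * n = n * g) ∧ g ∉ Γ.Q v) :
    Nat.card (T v a : Subgroup G) ≤ 16 := by
  obtain ⟨w, u, hw, hu, hwv, huv, hwu, hall⟩ := exists_others (Γ.symm ha)
  have tyw : Γ.ty w = π := by rw [← hv]; exact ty_eq_of_adj hw (Γ.symm ha)
  have tyu : Γ.ty u = π := by rw [← hv]; exact ty_eq_of_adj hu (Γ.symm ha)
  -- all vertices of the type of `v` have the property
  have hne' : ∀ x, Γ.ty x = π → ∃ g : G, g • x = x ∧ (∀ n ∈ Γ.D x, g * n = n * g) ∧ g ∉ Γ.Q x := by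
    intro x hx
    obtain ⟨g, hg1, hg2, hg3⟩ := hne
    obtain ⟨y, hy⟩ : ∃ y, Γ.A x y := by
      obtain ⟨y, _, _, hy, _⟩ := Γ.three x
      exact ⟨y, hy⟩
    obtain ⟨k, hk, -⟩ := Γ.trans ha hy (hv.trans hx.symm)
    refine ⟨k * g * k⁻¹, conj_fix_of_eq hg1 hk, fun n hn => ?_, fun hQ => hg3 ?_⟩
    · have h1 : k⁻¹ * n * k ∈ Γ.D v := by
        have := conj_mem_D hn k⁻¹
        rwa [inv_inv, ← hk, inv_smul_smul] at this
      have h2 := hg2 _ h1
      calc k * g * k⁻¹ * n = k * (g * (k⁻¹ * n * k)) * k⁻¹ := by group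
        _ = k * ((k⁻¹ * n * k) * g) * k⁻¹ := by rw [h2]
        _ = n * (k * g * k⁻¹) := by group
    · rw [← hk, mem_Q_smul] at hQ
      have : k⁻¹ * (k * g * k⁻¹) * k = g := by group
      rwa [this] at hQ
  let N : Subgroup G := Γ.D u ⊓ (Γ.D w ⊓ Γ.D v)
  have hN : ∀ n ∈ N, n = 1 := by
    apply star_bot Γ a N
    · intro n hn
      exact D_le_Q' ha hn.2.2
    · intro x hx y hy
      have tyx : Γ.ty x = π := by rw [← hv]; exact ty_eq_of_adj hx (Γ.symm ha)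
      obtain ⟨g, -, hg, hgy⟩ := cent_trans (N := Γ.D x) (fun g hg n hn => conj_mem_D_of_fix hn hg) (hne' x tyx)
        (Γ.symm hx) hy
      refine ⟨g, fun n hn => hg n ?_, hgy⟩
      rcases hall x hx with rfl | rfl | rfl
      · exact hn.2.2
      · exact hn.2.1
      · exact hn.1
  have c1 := card_le_one_of_forall hN
  have f1 : Finite (Γ.Q a) := finSub Γ a fun x hx => hx.1
  have f2 : Finite (Γ.D v) := finSub Γ v fun x hx => hx.1.1
  have f3 : Finite ↥(Γ.D w ⊓ Γ.D v) := finSub Γ v fun x hx => hx.2.1.1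
  have h3 : Half N (Γ.D w ⊓ Γ.D v) :=
    (hPU.half_D tyu (Γ.symm hu)).inf_left (fun x hx => D_le_Q' ha hx.2)
  have h2 : Half (Γ.D w ⊓ Γ.D v) (Γ.D v) :=
    (hPU.half_D tyw (Γ.symm hw)).inf_left (D_le_Q' ha)
  have c2 := card_le_two_of_forall _ h3 f3 c1
  have c3 := card_le_two_of_forall _ h2 f2 c2
  have c4 := card_le_two_of_forall _ (hPU.half_D hv ha) f1 c3
  have c5 := card_T_le (Γ.symm ha) c4
  rw [T_comm]
  omega

end PU

end Tri

end Cfsg.Agent.H209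
end

-- part: H209/TriPUTwo
section
/-!
# Pushing up for trivalent graphs, the main argument
-/

set_option autoImplicit false

namespace Cfsg.Agent.H209

open MulAction

namespace Tri

variable {G V : Type*} [Group G] [MulAction G V] {Γ : Tri G V}
variable {u v w a b c d : V} {g h : G}

/-- `VV v = ⟨Ω₁ Z(Q a) | a ~ v⟩` -/
def VV (Γ : Tri G V) (v : V) : Subgroup G := Subgroup.closure {x | ∃ a, Γ.A v a ∧ x ∈ OZ (Γ.Q a)}

theorem OZ_le_VV (ha : Γ.A v a) : OZ (Γ.Q a) ≤ Γ.VV v := fun _ hx => Subgroup.subset_closure ⟨a, ha, hx⟩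

theorem conj_mem_OZ_Q {x : G} (hx : x ∈ OZ (Γ.Q v)) (h : G) : h * x * h⁻¹ ∈ OZ (Γ.Q (h • v)) := by
  obtain ⟨h1, h2, h3⟩ := hx
  refine ⟨conj_mem_Q h1 h, ?_, fun y hy => ?_⟩
  · calc h * x * h⁻¹ * (h * x * h⁻¹) = h * (x * x) * h⁻¹ := by group
      _ = 1 := by rw [h2]; group
  · have h4 := h3 _ (mem_Q_smul.1 hy)
    calc h * x * h⁻¹ * y = h * (x * (h⁻¹ * y * h)) * h⁻¹ := by group
      _ = h * ((h⁻¹ * y * h) * x) * h⁻¹ := by rw [h4]
      _ = y * (h * x * h⁻¹) := by group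

/-- conjugation maps a closure into a closure -/
theorem conj_mem_closure {S S' : Set G} (h : G) (hS : ∀ x ∈ S, h * x * h⁻¹ ∈ Subgroup.closure S') {x : G}
    (hx : x ∈ Subgroup.closure S) : h * x * h⁻¹ ∈ Subgroup.closure S' := by
  induction hx using Subgroup.closure_induction with
  | mem x hx => exact hS x hx
  | one => simp
  | mul x y _ _ h1 h2 =>
    have := mul_mem h1 h2
    have e : h * x * h⁻¹ * (h * y * h⁻¹) = h * (x * y) * h⁻¹ := by group
    rwa [e] at this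
  | inv x _ h1 =>
    have := inv_mem h1
    have e : (h * x * h⁻¹)⁻¹ = h * x⁻¹ * h⁻¹ := by group
    rwa [e] at this

theorem conj_mem_VV {x : G} (hx : x ∈ Γ.VV v) (h : G) : h * x * h⁻¹ ∈ Γ.VV (h • v) := by
  refine conj_mem_closure h ?_ hx
  rintro y ⟨a, ha, hy⟩
  exact Subgroup.subset_closure ⟨h • a, Γ.smul h ha, conj_mem_OZ_Q hy h⟩

theorem conj_mem_VV_of_eq {x : G} (hx : x ∈ Γ.VV v) (hh : h • v = w) : h * x * h⁻¹ ∈ Γ.VV w := by
  have := conj_mem_VV hx h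
  rwa [hh] at this

/-- the hypotheses of the main part of the pushing up argument -/
structure PUH (Γ : Tri G V) (π : Bool) : Prop where
  pu : PU Γ π
  cent : ∀ v, Γ.ty v = π → ∀ g : G, g • v = v → (∀ d ∈ Γ.D v, g * d = d * g) → g ∈ Γ.Q v
  ne : ∀ v, Γ.ty v ≠ π → ∃ x ∈ Γ.Q v, x ≠ 1
  nle : ∀ v w, Γ.A v w → ¬ Γ.Q v ≤ Γ.Q w
  dne : ∀ v w a, Γ.ty v = π → Γ.A v a → Γ.A a w → v ≠ w → ¬ Γ.D v ≤ Γ.D w

/-- `r` is the generator of `[VV v, Q a]` -/
def IsR (Γ : Tri G V) (v a : V) (r : G) : Prop :=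
  r ≠ 1 ∧ r ∈ Γ.VV v ∧ (∀ x ∈ Γ.VV v, ∀ y ∈ Γ.Q a, y * x * y⁻¹ = x ∨ y * x * y⁻¹ = x * r) ∧
    ∃ x ∈ Γ.VV v, ∃ y ∈ Γ.Q a, y * x * y⁻¹ = x * r

theorem IsR.unique {r r' : G} (h1 : IsR Γ v a r) (h2 : IsR Γ v a r') : r = r' := by
  obtain ⟨x, hx, y, hy, e⟩ := h2.2.2.2
  rcases h1.2.2.1 x hx y hy with h | h
  · rw [h] at e
    exact absurd (mul_eq_left.1 e.symm) h2.1
  · rw [h] at e
    exact mul_left_cancel e

theorem IsR.conj {r : G} (h : IsR Γ v a r) (g : G) : IsR Γ (g • v) (g • a) (g * r * g⁻¹) := by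
  obtain ⟨h1, h2, h3, x, hx, y, hy, e⟩ := h
  refine ⟨?_, conj_mem_VV h2 g, ?_, g * x * g⁻¹, conj_mem_VV hx g, g * y * g⁻¹, conj_mem_Q hy g, ?_⟩
  · intro h4
    apply h1
    have : r = g⁻¹ * (g * r * g⁻¹) * g := by group
    rw [this, h4]; group
  · intro x hx y hy
    have h5 : g⁻¹ * x * g ∈ Γ.VV v := by
      have := conj_mem_VV hx g⁻¹
      rwa [inv_inv, inv_smul_smul] at this
    rcases h3 _ h5 _ (mem_Q_smul.1 hy) with h6 | h6
    · left
      calc y * x * y⁻¹ = g * ((g⁻¹ * y * g) * (g⁻¹ * x * g) * (g⁻¹ * y * g)⁻¹) * g⁻¹ := by group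
        _ = x := by rw [h6]; group
    · right
      calc y * x * y⁻¹ = g * ((g⁻¹ * y * g) * (g⁻¹ * x * g) * (g⁻¹ * y * g)⁻¹) * g⁻¹ := by group
        _ = x * (g * r * g⁻¹) := by rw [h6]; group
  · calc g * y * g⁻¹ * (g * x * g⁻¹) * (g * y * g⁻¹)⁻¹ = g * (y * x * y⁻¹) * g⁻¹ := by group
      _ = g * x * g⁻¹ * (g * r * g⁻¹) := by rw [e]; group

namespace PUH

variable {π : Bool} (H : PUH Γ π)

include H

theorem ty_of_adj (hv : Γ.ty v = π) (ha : Γ.A v a) : Γ.ty a ≠ π := by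
  rw [Γ.ty_adj ha, hv]; cases π <;> simp

theorem ty_of_adj' (hv : Γ.ty v ≠ π) (ha : Γ.A v a) : Γ.ty a = π := by
  rw [Γ.ty_adj ha]; cases hvt : Γ.ty v <;> cases π <;> simp_all

theorem exists_OZ_Q (hv : Γ.ty v = π) (ha : Γ.A v a) : ∃ z ∈ OZ (Γ.Q a), z ≠ 1 := by
  apply exists_OZ (finSub (H := Γ.Q a) Γ a fun x hx => hx.1) (isPGroup_of_le (Γ.symm ha) (Q_le_T (Γ.symm ha)))
  exact H.ne a (H.ty_of_adj hv ha)

theorem OZ_le_D (hv : Γ.ty v = π) (ha : Γ.A v a) : OZ (Γ.Q a) ≤ Γ.D v := by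
  intro x hx
  have h1 : x ∈ Γ.Q v := by
    apply H.cent v hv x (Q_fix' hx.1 (Γ.symm ha))
    intro d hd
    exact hx.2.2 d (D_le_Q' ha hd)
  exact H.pu.mem_D hv ha h1 hx.1

theorem VV_le_D (hv : Γ.ty v = π) : Γ.VV v ≤ Γ.D v := by
  unfold VV
  rw [Subgroup.closure_le]
  rintro x ⟨a, ha, hx⟩
  exact H.OZ_le_D hv ha hx

omit H in
theorem VV_comm {x d : G} (hx : x ∈ Γ.VV v) (hd : d ∈ Γ.D v) : x * d = d * x := by
  unfold VV at hx
  induction hx using Subgroup.closure_induction with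
  | mem x hx =>
    obtain ⟨a, ha, hx⟩ := hx
    exact hx.2.2 d (D_le_Q' ha hd)
  | one => simp
  | mul x y _ _ h1 h2 => rw [mul_assoc, h2, ← mul_assoc, h1, mul_assoc]
  | inv x _ h1 =>
    calc x⁻¹ * d = x⁻¹ * (d * x) * x⁻¹ := by group
      _ = x⁻¹ * (x * d) * x⁻¹ := by rw [h1]
      _ = d * x⁻¹ := by group

theorem VV_sq (hv : Γ.ty v = π) {x : G} (hx : x ∈ Γ.VV v) : x * x = 1 := by
  have hx' := hx
  unfold VV at hx
  induction hx using Subgroup.closure_induction with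
  | mem x hx =>
    obtain ⟨a, ha, hx⟩ := hx
    exact hx.2.1
  | one => simp
  | mul x y hx hy h1 h2 =>
    have h3 := VV_comm hy (H.VV_le_D hv hx)
    calc x * y * (x * y) = x * (y * x) * y := by group
      _ = (x * x) * (y * y) := by rw [h3]; group
      _ = 1 := by rw [h1 hx, h2 hy, one_mul]
  | inv x hx h1 =>
    have h1' := h1 hx
    rw [← mul_inv_rev, h1', inv_one]

theorem VV_inv (hv : Γ.ty v = π) {x : G} (hx : x ∈ Γ.VV v) : x⁻¹ = x :=
  inv_eq_of_mul_eq_one_left (H.VV_sq hv hx)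

/-- the centraliser of `VV v` -/
theorem mem_Q_of_comm (hv : Γ.ty v = π) (hg : g • v = v) (hc : ∀ x ∈ Γ.VV v, g * x = x * g) : g ∈ Γ.Q v := by
  by_contra hgQ
  obtain ⟨a, -, -, ha, -⟩ := Γ.three v
  have key : ∀ z ∈ OZ (Γ.Q a), z = 1 := by
    apply edge_cent_bot Γ (Γ.symm ha) (OZ (Γ.Q a))
    · intro n hn
      exact ⟨hn.1.1, Q_fix' hn.1 (Γ.symm ha)⟩
    · intro k hk n hn
      have := conj_mem_OZ_Q hn k
      rwa [hk] at this
    · intro x hx
      obtain ⟨k, -, hk2, hk3⟩ := cent_trans (N := Γ.VV v) (fun k hk n hn => conj_mem_VV_of_eq hn hk)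
        ⟨g, hg, hc, hgQ⟩ ha hx
      exact ⟨k, fun n hn => hk2 n (OZ_le_VV ha hn), hk3⟩
  obtain ⟨z, hz, hz1⟩ := H.exists_OZ_Q hv ha
  exact hz1 (key z hz)

theorem mem_D_of_comm (hv : Γ.ty v = π) (ha : Γ.A v a) (hg : g ∈ Γ.Q a) (hc : ∀ x ∈ Γ.VV v, g * x = x * g) :
    g ∈ Γ.D v :=
  H.pu.mem_D hv ha (H.mem_Q_of_comm hv (Q_fix' hg (Γ.symm ha)) hc) hg

/-- `[VV v, Q a] ≠ [VV v, Q b]` -/
theorem IsR_ne (hv : Γ.ty v = π) (ha : Γ.A v a) (hb : Γ.A v b) (hab : a ≠ b) {r : G} (h1 : IsR Γ v a r)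
    (h2 : IsR Γ v b r) : False := by
  obtain ⟨y, hy, hyv⟩ := Set.not_subset.1 (H.nle a v (Γ.symm ha))
  obtain ⟨z, hz, hzv⟩ := Set.not_subset.1 (H.nle b v (Γ.symm hb))
  obtain ⟨c, hc, hca, hcb, -⟩ := exists_third ha hb hab
  have ey := swap_of_not_mem (Q_fix' hy (Γ.symm ha)) ha hb hc hab hca.symm hcb.symm hy.1 hyv
  have ez := swap_of_not_mem (Q_fix' hz (Γ.symm hb)) hb ha hc hab.symm hcb.symm hca.symm hz.1 hzv
  have hrr : r * r = 1 := H.VV_sq hv h1.2.1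
  have cy : y * r * y⁻¹ = r := by
    rcases h1.2.2.1 r h1.2.1 y hy with h | h
    · exact h
    · rw [hrr] at h
      exact absurd (by calc r = y⁻¹ * (y * r * y⁻¹) * y := by group
                         _ = 1 := by rw [h]; group) h1.1
  have cz : z * r * z⁻¹ = r := by
    rcases h2.2.2.1 r h1.2.1 z hz with h | h
    · exact h
    · rw [hrr] at h
      exact absurd (by calc r = z⁻¹ * (z * r * z⁻¹) * z := by group
                         _ = 1 := by rw [h]; group) h1.1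
  -- `(y z)` acts by `x ↦ x` or `x r`
  have h3 : ∀ x ∈ Γ.VV v, (y * z) * x * (y * z)⁻¹ = x ∨ (y * z) * x * (y * z)⁻¹ = x * r := by
    intro x hx
    have e : (y * z) * x * (y * z)⁻¹ = y * (z * x * z⁻¹) * y⁻¹ := by group
    rw [e]
    rcases h2.2.2.1 x hx z hz with h | h
    · rw [h]; exact h1.2.2.1 x hx y hy
    · rw [h]
      have e2 : y * (x * r) * y⁻¹ = (y * x * y⁻¹) * (y * r * y⁻¹) := by group
      rw [e2, cy]
      rcases h1.2.2.1 x hx y hy with h' | h'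
      · right; rw [h']
      · left; rw [h', mul_assoc, hrr, mul_one]
  have h3r : (y * z) * r * (y * z)⁻¹ = r := by
    calc (y * z) * r * (y * z)⁻¹ = y * (z * r * z⁻¹) * y⁻¹ := by group
      _ = r := by rw [cz, cy]
  have h4 : ∀ x ∈ Γ.VV v, (y * z * (y * z)) * x = x * (y * z * (y * z)) := by
    intro x hx
    have e : (y * z * (y * z)) * x * (y * z * (y * z))⁻¹ = (y * z) * ((y * z) * x * (y * z)⁻¹) * (y * z)⁻¹ := by group
    have h5 : (y * z * (y * z)) * x * (y * z * (y * z))⁻¹ = x := by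
      rw [e]
      rcases h3 x hx with h | h
      · rw [h, h]
      · rw [h]
        have e2 : (y * z) * (x * r) * (y * z)⁻¹ = ((y * z) * x * (y * z)⁻¹) * ((y * z) * r * (y * z)⁻¹) := by group
        rw [e2, h3r, h, mul_assoc, hrr, mul_one]
    calc (y * z * (y * z)) * x = ((y * z * (y * z)) * x * (y * z * (y * z))⁻¹) * (y * z * (y * z)) := by group
      _ = x * (y * z * (y * z)) := by rw [h5]
  have hyv' : y • v = v := Q_fix' hy (Γ.symm ha)
  have hzv' : z • v = v := Q_fix' hz (Γ.symm hb)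
  have h5 := H.mem_Q_of_comm hv (mul_fix (mul_fix hyv' hzv') (mul_fix hyv' hzv')) h4
  have h6 := Q_fix' h5 ha
  rw [mul_smul, mul_smul, mul_smul, ez.1, ey.2, hz.1, ey.1] at h6
  exact hca h6

end PUH

end Tri

end Cfsg.Agent.H209
end

-- part: H209/TriPUThree
section
/-!
# Pushing up for trivalent graphs: the first noncommuting pair is at distance two
-/

set_option autoImplicit false

namespace Cfsg.Agent.H209

open MulAction

namespace Tri

variable {G V : Type*} [Group G] [MulAction G V] {Γ : Tri G V}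
variable {u v w a b c d : V} {g h : G}

namespace PUH

variable {π : Bool} (H : PUH Γ π)

include H

theorem isR_of (hv : Γ.ty v = π) (ha : Γ.A v a) {x0 y0 : G} (hx0 : x0 ∈ Γ.VV v) (hy0 : y0 ∈ Γ.Q a)
    (hne : y0 * x0 ≠ x0 * y0) (hh : ∀ x ∈ Γ.VV v, y0 * x = x * y0 ∨ y0 * (x0 * x) = (x0 * x) * y0) :
    IsR Γ v a (x0⁻¹ * (y0 * x0 * y0⁻¹)) := by
  have hyv : y0 • v = v := Q_fix' hy0 (Γ.symm ha)
  have hcx : y0 * x0 * y0⁻¹ ∈ Γ.VV v := conj_mem_VV_of_eq hx0 hyv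
  have hr : x0⁻¹ * (y0 * x0 * y0⁻¹) ∈ Γ.VV v := mul_mem (inv_mem hx0) hcx
  have hy0D : y0 ∉ Γ.D v := fun h => hne (VV_comm hx0 h).symm
  refine ⟨?_, hr, ?_, x0, hx0, y0, hy0, by group⟩
  · intro h1
    apply hne
    calc y0 * x0 = x0 * (x0⁻¹ * (y0 * x0 * y0⁻¹)) * y0 := by group
      _ = x0 * y0 := by rw [h1, mul_one]
  · intro x hx y hy
    have hsq : y0 * y0 ∈ Γ.D v := (H.pu.half_D hv ha).2 y0 hy0 y0 hy0 hy0D hy0D
    by_cases hyD : y ∈ Γ.D v
    · left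
      rw [← VV_comm hx hyD, mul_inv_cancel_right]
    · have h1 : y0 * y ∈ Γ.D v := (H.pu.half_D hv ha).2 y0 hy0 y hy hy0D hyD
      have h2 : y * x * y⁻¹ = y0 * x * y0⁻¹ := by
        have e1 := VV_comm hx h1
        have e2 := VV_comm hx hsq
        have e3 : y * x * y⁻¹ = y0⁻¹ * ((y0 * y) * x) * (y0 * y)⁻¹ * y0 := by group
        have e4 : y0 * x * y0⁻¹ = y0⁻¹ * ((y0 * y0) * x) * (y0 * y0)⁻¹ * y0 := by group
        rw [e3, e4, ← e1, ← e2]; group
      rw [h2]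
      rcases hh x hx with h3 | h3
      · left; rw [h3, mul_inv_cancel_right]
      · right
        have e1 : (y0 * x0 * y0⁻¹) * (y0 * x * y0⁻¹) = x0 * x := by
          calc (y0 * x0 * y0⁻¹) * (y0 * x * y0⁻¹) = y0 * (x0 * x) * y0⁻¹ := by group
            _ = x0 * x := by rw [h3, mul_inv_cancel_right]
        have e2 : y0 * x * y0⁻¹ = (x0⁻¹ * (y0 * x0 * y0⁻¹))⁻¹ * x := by
          calc y0 * x * y0⁻¹ = (y0 * x0 * y0⁻¹)⁻¹ * ((y0 * x0 * y0⁻¹) * (y0 * x * y0⁻¹)) := by group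
            _ = (y0 * x0 * y0⁻¹)⁻¹ * (x0 * x) := by rw [e1]
            _ = _ := by group
        rw [e2, H.VV_inv hv hr]
        exact VV_comm hr (H.VV_le_D hv hx)

variable {n : ℤ} (hmin : ∀ (p : ℤ → V) (i j : ℤ), i ≤ j → Γ.Arc p i j → Γ.ty (p i) = π → j - i < n →
    Γ.VV (p i) ≤ Γ.Q (p j))

include hmin

theorem two_le {p : ℤ → V} (hn : 0 ≤ n) (hp : Γ.Arc p 0 n) (hty : Γ.ty (p 0) = π) (hc : ¬ Γ.VV (p 0) ≤ Γ.Q (p n)) :
    2 ≤ n := by
  by_contra hcon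
  have h1 : n = 0 ∨ n = 1 := by omega
  rcases h1 with rfl | rfl
  · exact hc ((H.VV_le_D hty).trans D_le_Q)
  · have := hp.adj (k := 0) le_rfl (by omega)
    exact hc ((H.VV_le_D hty).trans (D_le_Q' this))

theorem ty_end {p : ℤ → V} {i j : ℤ} (hij : j = i + n) (hn : 2 ≤ n) (hp : Γ.Arc p i j) (hty : Γ.ty (p i) = π)
    (hc : ¬ Γ.VV (p i) ≤ Γ.Q (p j)) : Γ.ty (p j) = π := by
  by_contra hcon
  apply hc
  have h1 : Γ.A (p j) (p (j - 1)) := hp.adj' (by omega) le_rfl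
  have h2 : Γ.A (p (j - 1)) (p (j - 1 - 1)) := hp.adj' (by omega) (by omega)
  have h3 : Γ.ty (p (j - 1)) = π := H.ty_of_adj' hcon h1
  have h4 := hmin p i (j - 1) (by omega) (hp.sub le_rfl (by omega)) hty (by omega)
  have h5 := hmin p i (j - 1 - 1) (by omega) (hp.sub le_rfl (by omega)) hty (by omega)
  intro x hx
  exact D_le_Q' (Γ.symm h1) (H.pu.mem_D h3 h2 (h4 hx) (h5 hx))

/-- commutators in a critical pair -/
theorem crit_comm {p : ℤ → V} {i j : ℤ} (hij : j = i + n) (hn : 2 ≤ n) (hp : Γ.Arc p i j)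
    (hty : Γ.ty (p i) = π) (hc : ¬ Γ.VV (p i) ≤ Γ.Q (p j)) :
    ∃ r y, IsR Γ (p i) (p (i + 1)) r ∧ IsR Γ (p j) (p (j - 1)) r ∧ y ∈ Γ.VV (p j) ∧ y ∉ Γ.D (p i) ∧
      y ∈ Γ.Q (p (i + 1)) := by
  have hty' := H.ty_end hmin hij hn hp hty hc
  obtain ⟨x0, hx0, hx0Q⟩ := Set.not_subset.1 hc
  have hadj : Γ.A (p i) (p (i + 1)) := hp.adj le_rfl (by omega)
  have hadj' : Γ.A (p j) (p (j - 1)) := hp.adj' (by omega) le_rfl
  have h1 : Γ.VV (p i) ≤ Γ.Q (p (j - 1)) :=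
    hmin p i (j - 1) (by omega) (hp.sub le_rfl (by omega)) hty (by omega)
  have h2 : Γ.VV (p j) ≤ Γ.Q (p (i + 1)) := by
    have := hmin (fun k => p (i + j - k)) i (j - 1) (by omega)
      (((hp.rev (i + j)).sub (by omega) (by omega))) (by simpa using hty') (by omega)
    have e1 : i + j - i = j := by ring
    have e2 : i + j - (j - 1) = i + 1 := by ring
    simp only [e1, e2] at this
    exact this
  have hxj : x0 • p j = p j := Q_fix' (h1 hx0) (Γ.symm hadj')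
  obtain ⟨y0, hy0, hne⟩ : ∃ y ∈ Γ.VV (p j), x0 * y ≠ y * x0 := by
    by_contra hcon
    push Not at hcon
    exact hx0Q (H.mem_Q_of_comm hty' hxj hcon)
  have hx0D : x0 ∉ Γ.D (p j) := fun h => hne (VV_comm hy0 h).symm
  have hy0D : y0 ∉ Γ.D (p i) := fun h => hne (VV_comm hx0 h)
  have r1 : IsR Γ (p i) (p (i + 1)) (x0⁻¹ * (y0 * x0 * y0⁻¹)) := by
    apply H.isR_of hty hadj hx0 (h2 hy0) (Ne.symm hne)
    intro x hx
    by_cases hxD : x ∈ Γ.D (p j)
    · left; exact VV_comm hy0 hxD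
    · right
      exact VV_comm hy0 ((H.pu.half_D hty' hadj').2 x0 (h1 hx0) x (h1 hx) hx0D hxD)
  have r2 : IsR Γ (p j) (p (j - 1)) (y0⁻¹ * (x0 * y0 * x0⁻¹)) := by
    apply H.isR_of hty' hadj' hy0 (h1 hx0) hne
    intro x hx
    by_cases hxD : x ∈ Γ.D (p i)
    · left; exact VV_comm hx0 hxD
    · right
      exact VV_comm hx0 ((H.pu.half_D hty hadj).2 y0 (h2 hy0) x (h2 hx) hy0D hxD)
  have e : y0⁻¹ * (x0 * y0 * x0⁻¹) = x0⁻¹ * (y0 * x0 * y0⁻¹) := by
    have e1 : x0⁻¹ = x0 := H.VV_inv hty hx0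
    have e2 : y0⁻¹ = y0 := H.VV_inv hty' hy0
    have e3 := H.VV_inv hty r1.2.1
    rw [← e3, mul_inv_rev, mul_inv_rev, mul_inv_rev, inv_inv, inv_inv, e1, e2]
    group
  rw [e] at r2
  exact ⟨_, y0, r1, r2, hy0, hy0D, h2 hy0⟩

/-- a critical pair cannot be shifted to a noncritical one -/
theorem no_noncrit {q : ℤ → V} (hn : 4 ≤ n) (hq : Γ.Arc q (-2) n) (hty : Γ.ty (q 0) = π)
    (hc : ¬ Γ.VV (q 0) ≤ Γ.Q (q n)) (hnc : Γ.VV (q (-2)) ≤ Γ.Q (q (n - 2))) : False := by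
  obtain ⟨r, y0, r1, r2, hy0, hy0D, hy1⟩ := H.crit_comm hmin (by ring) (by omega) (hq.sub (by omega) le_rfl) hty hc
  simp only [zero_add] at r1 hy1
  have hty2 : Γ.ty (q (-2)) = π := by
    rw [← hty]; exact (hq.ty_two (k := -2) (l := 0) le_rfl (by omega) (by ring)).symm
  have htyn : Γ.ty (q n) = π := H.ty_end hmin (by ring) (by omega) (hq.sub (by omega) le_rfl) hty hc
  have htyn2 : Γ.ty (q (n - 2)) = π := by
    rw [← htyn]; exact (hq.ty_two (k := n - 2) (l := n) (by omega) le_rfl (by ring)).symm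
  have hadj1 : Γ.A (q 0) (q 1) := hq.adj (k := 0) (by omega) (by omega)
  have hadjm : Γ.A (q 0) (q (-1)) := hq.adj' (k := 0) (by omega) (by omega)
  have hadjm2 : Γ.A (q (-1)) (q (-2)) := hq.adj' (k := -1) (by omega) (by omega)
  have hy0v : y0 • q 0 = q 0 := Q_fix' hy1 (Γ.symm hadj1)
  have hy0Q : y0 ∉ Γ.Q (q 0) := fun h => hy0D (H.pu.mem_D hty hadj1 h hy1)
  have hy0i : y0⁻¹ = y0 := H.VV_inv htyn hy0
  -- `N`
  set N : Subgroup G := Γ.VV (q (-2)) ⊔ Γ.VV (q 0) with hNdef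
  have hN1 : Γ.VV (q (-2)) ≤ N := le_sup_left
  have hN2 : Γ.VV (q 0) ≤ N := le_sup_right
  have hNm : ∀ g : G, (∀ x ∈ Γ.VV (q (-2)), g * x * g⁻¹ ∈ N) → (∀ x ∈ Γ.VV (q 0), g * x * g⁻¹ ∈ N) →
      ∀ x ∈ N, g * x * g⁻¹ ∈ N := by
    intro g h1 h2 x hx
    have h3 : N ≤ N.comap (MulAut.conj g).toMonoidHom := by
      rw [hNdef, sup_le_iff]
      exact ⟨fun x hx => h1 x hx, fun x hx => h2 x hx⟩
    exact h3 hx
  -- `y0` normalises `N`
  have hy0N : ∀ x ∈ N, y0 * x * y0⁻¹ ∈ N := by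
    apply hNm
    · intro x hx
      have h3 : Γ.VV (q (-2)) ≤ Γ.Q (q (n - 3)) := hmin q (-2) (n - 3) (by omega) (hq.sub le_rfl (by omega)) hty2 (by omega)
      have hadjn : Γ.A (q (n - 2)) (q (n - 3)) := by
        have := hq.adj' (k := n - 2) (by omega) (by omega)
        have e : n - 2 - 1 = n - 3 := by ring
        rwa [e] at this
      have hadjn' : Γ.A (q (n - 2)) (q (n - 1)) := by
        have := hq.adj (k := n - 2) (by omega) (by omega)
        have e : n - 2 + 1 = n - 1 := by ring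
        rwa [e] at this
      have h4 : x ∈ Γ.Q (q (n - 1)) := D_le_Q' hadjn' (H.pu.mem_D htyn2 hadjn (hnc hx) (h3 hx))
      rcases r2.2.2.1 y0 hy0 x h4 with h5 | h5
      · have : y0 * x * y0⁻¹ = x := by
          calc y0 * x * y0⁻¹ = (x * y0 * x⁻¹) * x * y0⁻¹ := by rw [h5]
            _ = x := by group
        rw [this]; exact hN1 hx
      · have : y0 * x * y0⁻¹ = r * x := by
          have e : y0 * r * x = x * y0 := by rw [← h5]; group
          calc y0 * x * y0⁻¹ = y0 * x * y0 := by rw [hy0i]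
            _ = y0 * (x * y0) := by group
            _ = y0 * (y0 * r * x) := by rw [e]
            _ = (y0 * y0) * (r * x) := by group
            _ = r * x := by rw [H.VV_sq htyn hy0, one_mul]
        rw [this]
        exact mul_mem (hN2 r1.2.1) (hN1 hx)
    · intro x hx
      exact hN2 (conj_mem_VV_of_eq hx hy0v)
  have hQm : ∀ z ∈ Γ.Q (q (-1)), ∀ x ∈ N, z * x * z⁻¹ ∈ N := by
    intro z hz
    apply hNm
    · intro x hx; exact hN1 (conj_mem_VV_of_eq hx (Q_fix' hz hadjm2))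
    · intro x hx; exact hN2 (conj_mem_VV_of_eq hx (Q_fix' hz (Γ.symm hadjm)))
  have hQ1 : ∀ z ∈ Γ.Q (q 1), ∀ x ∈ N, z * x * z⁻¹ ∈ N := by
    intro z hz x hx
    by_cases hzD : z ∈ Γ.D (q 0)
    · exact hQm z (D_le_Q' hadjm hzD) x hx
    · have h1 := (H.pu.half_D hty hadj1).2 y0 hy1 z hz hy0D hzD
      have h2 := hQm _ (D_le_Q' hadjm h1) x hx
      have h3 := hy0N _ h2
      have e : y0 * (y0 * z * x * (y0 * z)⁻¹) * y0⁻¹ = z * x * z⁻¹ := by
        have e1 : y0 * y0 = 1 := H.VV_sq htyn hy0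
        calc y0 * (y0 * z * x * (y0 * z)⁻¹) * y0⁻¹ = (y0 * y0) * (z * x * z⁻¹) * (y0 * y0)⁻¹ := by group
          _ = z * x * z⁻¹ := by rw [e1]; group
      rwa [e] at h3
  have hne1 : q (-1) ≠ q 1 := hq.ne (by omega) (by omega) (by ring)
  have hall : ∀ a, Γ.A (q 0) a → ∀ z ∈ Γ.Q a, ∀ x ∈ N, z * x * z⁻¹ ∈ N := by
    intro a ha z hz x hx
    by_cases h1 : a = q 1
    · subst h1; exact hQ1 z hz x hx
    by_cases h2 : a = q (-1)
    · subst h2; exact hQm z hz x hx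
    have h3 := swap_of_not_mem hy0v hadj1 hadjm ha hne1.symm (Ne.symm h1) (Ne.symm h2) hy1.1 hy0Q
    rw [← h3.1, mem_Q_smul] at hz
    have h4 := hy0N _ hx
    have h5 := hQm _ hz _ h4
    have h6 := hy0N _ h5
    have e1 : y0 * y0 = 1 := H.VV_sq htyn hy0
    have e : y0 * (y0⁻¹ * z * y0 * (y0 * x * y0⁻¹) * (y0⁻¹ * z * y0)⁻¹) * y0⁻¹
        = z * x * z⁻¹ := by
      calc y0 * (y0⁻¹ * z * y0 * (y0 * x * y0⁻¹) * (y0⁻¹ * z * y0)⁻¹) * y0⁻¹
          = z * (y0 * y0) * x * (y0 * y0)⁻¹ * z⁻¹ := by group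
        _ = z * x * z⁻¹ := by rw [e1]; group
    rwa [e] at h6
  -- transport
  have hne2 : q 0 ≠ q (-2) := hq.ne' (by omega) (by omega) (by ring)
  have htr : ∀ v w a : V, Γ.A v a → Γ.A w a → v ≠ w → Γ.ty v = π → ∀ c, Γ.A v c → ∀ z ∈ Γ.Q c,
      ∀ x ∈ Γ.VV w, z * x * z⁻¹ ∈ Γ.VV w ⊔ Γ.VV v := by
    intro v w a hva hwa hvw hvty c hc z hz x hx
    have hta : Γ.ty (q (-1)) = Γ.ty a := by rw [Γ.ty_adj hadjm, Γ.ty_adj hva, hty, hvty]
    obtain ⟨k, hk1, hk2, hk3⟩ := exists_two_trans' (Γ.symm hadjm) hadjm2 (Γ.symm hva) (Γ.symm hwa) hne2 hvw hta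
    have h1 : k⁻¹ * x * k ∈ Γ.VV (q (-2)) := by
      have := conj_mem_VV hx k⁻¹
      rwa [inv_inv, ← hk3, inv_smul_smul] at this
    have h2 : Γ.A (q 0) (k⁻¹ • c) := by
      have := Γ.smul k⁻¹ hc
      rwa [← hk2, inv_smul_smul] at this
    have h3 : k⁻¹ * z * k ∈ Γ.Q (k⁻¹ • c) := by
      have := conj_mem_Q hz k⁻¹
      rwa [inv_inv] at this
    have h4 := hall _ h2 _ h3 _ (hN1 h1)
    have h5 : N ≤ (Γ.VV w ⊔ Γ.VV v).comap (MulAut.conj k).toMonoidHom := by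
      rw [hNdef, sup_le_iff]
      constructor
      · intro x hx
        exact (le_sup_left : Γ.VV w ≤ Γ.VV w ⊔ Γ.VV v) (conj_mem_VV_of_eq hx hk3)
      · intro x hx
        exact (le_sup_right : Γ.VV v ≤ Γ.VV w ⊔ Γ.VV v) (conj_mem_VV_of_eq hx hk2)
    have h6 : k * (k⁻¹ * z * k * (k⁻¹ * x * k) * (k⁻¹ * z * k)⁻¹) * k⁻¹ ∈ Γ.VV w ⊔ Γ.VV v := h5 h4
    have e : k * (k⁻¹ * z * k * (k⁻¹ * x * k) * (k⁻¹ * z * k)⁻¹) * k⁻¹ = z * x * z⁻¹ := by group
    rwa [e] at h6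
  -- the contradiction
  let U : Subgroup G := Subgroup.closure {x | ∃ w, Γ.A (q 1) w ∧ x ∈ Γ.VV w}
  have hty1 : Γ.ty (q 1) ≠ π := H.ty_of_adj hty hadj1
  have hU1 : ∀ w, Γ.A (q 1) w → Γ.VV w ≤ U := fun w hw x hx => Subgroup.subset_closure ⟨w, hw, hx⟩
  have hUQ : U ≤ Γ.Q (q 1) := by
    show Subgroup.closure _ ≤ _
    rw [Subgroup.closure_le]
    rintro x ⟨w, hw, hx⟩
    exact D_le_Q' (Γ.symm hw) (H.VV_le_D (H.ty_of_adj' hty1 hw) hx)
  have hUm : ∀ c, Γ.A (q 0) c → ∀ z ∈ Γ.Q c, ∀ x ∈ U, z * x * z⁻¹ ∈ U := by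
    intro c hc z hz x hx
    refine conj_mem_closure z ?_ hx
    rintro y ⟨w, hw, hy⟩
    by_cases hwv : q 0 = w
    · subst hwv
      exact hU1 _ hw (conj_mem_VV_of_eq hy (Q_fix' hz (Γ.symm hc)))
    · have h1 := htr (q 0) w (q 1) hadj1 (Γ.symm hw) hwv hty c hc z hz y hy
      exact (sup_le (hU1 w hw) (hU1 _ (Γ.symm hadj1))) h1
  have hbot : ∀ x ∈ U, x = 1 := by
    apply edge_bot Γ hadj1 U
    · intro x hx
      exact ⟨Q_fix' (hUQ hx) (Γ.symm hadj1), (hUQ hx).1⟩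
    · intro c hc
      by_cases hc1 : q 1 = c
      · exact ⟨1, fun n hn => by simpa using hn, by rw [one_smul, hc1]⟩
      · obtain ⟨b, hb, hb1, hbc, -⟩ := exists_third hadj1 hc hc1
        obtain ⟨z, hz, hzv⟩ := Set.not_subset.1 (H.nle b (q 0) (Γ.symm hb))
        have h1 := swap_of_not_mem (Q_fix' hz (Γ.symm hb)) hb hadj1 hc hb1 hbc hc1 hz.1 hzv
        refine ⟨z, fun n hn => ?_, h1.1⟩
        have := hUm b hb z⁻¹ (inv_mem hz) n hn
        rwa [inv_inv] at this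
    · intro w hw
      obtain ⟨k, hk1, hk2⟩ := exists_trans (Γ.symm hadj1) hw
      refine ⟨k, fun n hn => ?_, hk2⟩
      have : k⁻¹ * n * k⁻¹⁻¹ ∈ U := by
        refine conj_mem_closure k⁻¹ ?_ hn
        rintro y ⟨x, hx, hy⟩
        exact hU1 _ (A_of_fix (inv_fix hk1) hx) (conj_mem_VV hy k⁻¹)
      rwa [inv_inv] at this
  exact r1.1 (hbot r (hU1 _ (Γ.symm hadj1) r1.2.1))

/-- the minimal distance is two -/
theorem eq_two {p : ℤ → V} (hn : 0 ≤ n) (hp : Γ.Arc p 0 n) (hty : Γ.ty (p 0) = π)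
    (hc : ¬ Γ.VV (p 0) ≤ Γ.Q (p n)) : n = 2 := by
  have h2 := H.two_le hmin hn hp hty hc
  by_contra hne
  have htyn := H.ty_end hmin (by ring) h2 hp hty hc
  have h3 : n ≠ 3 := by
    rintro rfl
    have := hp.ty_odd (k := 0) (l := 3) le_rfl (by omega) (by omega) le_rfl (by norm_num)
    rw [htyn, hty] at this
    cases π <;> simp at this
  have h4 : 4 ≤ n := by omega
  -- extend to the left by one step
  obtain ⟨a, ha, hane⟩ := exists_ne (hp.adj (k := 0) le_rfl (by omega))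
  obtain ⟨q, hq, hqa, hqk⟩ := hp.exists_cons ha (fun _ => by simpa using hane)
  simp only [zero_sub] at hq hqa
  have e0 : q 0 = p 0 := hqk 0 (by omega)
  have en : q n = p n := hqk n (by omega)
  have e1 : q 1 = p 1 := hqk 1 (by omega)
  have hadj0 : Γ.A (q (-1)) (q 0) := hq.adj (k := -1) le_rfl (by omega)
  obtain ⟨b, c, hb, hc', hb0, hc0, hbc, hall⟩ := exists_others hadj0
  -- both extensions are critical
  have key : ∀ x, Γ.A (q (-1)) x → x ≠ q 0 → ∃ r, IsR Γ x (q (-1)) r ∧ IsR Γ (q (n - 2)) (q (n - 3)) r := by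
    intro x hx hx0
    obtain ⟨s, hs, hsx, hsk⟩ := hq.exists_cons hx (fun _ => by simpa using hx0)
    have e : (-1 : ℤ) - 1 = -2 := by norm_num
    rw [e] at hs hsx
    have f0 : s 0 = p 0 := by rw [hsk 0 (by omega), e0]
    have fn : s n = p n := by rw [hsk n (by omega), en]
    have f2 : s (n - 2) = q (n - 2) := hsk _ (by omega)
    have f3 : s (n - 3) = q (n - 3) := hsk _ (by omega)
    have f1 : s (-1) = q (-1) := hsk _ (by omega)
    have hcr : ¬ Γ.VV (s (-2)) ≤ Γ.Q (s (n - 2)) := by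
      intro hnc
      exact H.no_noncrit hmin h4 hs (by rw [f0]; exact hty) (by rw [f0, fn]; exact hc) hnc
    have hty2 : Γ.ty (s (-2)) = π := by
      rw [← hty, ← f0]; exact (hs.ty_two (k := -2) (l := 0) le_rfl (by omega) (by ring)).symm
    obtain ⟨r, -, r1, r2, -⟩ := H.crit_comm hmin (i := -2) (j := n - 2) (by ring) (by omega)
      (hs.sub le_rfl (by omega)) hty2 hcr
    refine ⟨r, ?_, ?_⟩
    · have e' : (-2 : ℤ) + 1 = -1 := by norm_num
      rwa [e', hsx, f1] at r1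
    · have e' : n - 2 - 1 = n - 3 := by ring
      rwa [e', f2, f3] at r2
  obtain ⟨r, rb1, rb2⟩ := key b hb hb0
  obtain ⟨r', rc1, rc2⟩ := key c hc' hc0
  have hrr : r' = r := rc2.unique rb2
  subst hrr
  -- the same `r` for `q 0`
  obtain ⟨k, hk1, hk2, hk3⟩ := exists_two_trans hb hc' hb hadj0 hbc hb0
  have h5 := rb1.conj k
  rw [hk2, hk1] at h5
  have h6 := h5.unique rb1
  have h7 := rc1.conj k
  rw [hk3, hk1, h6] at h7
  -- the contradiction
  obtain ⟨-, y0, -, -, hy0, hy0D, hy1⟩ := H.crit_comm hmin (i := 0) (j := n) (by ring) h2 hp hty hc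
  simp only [zero_add] at hy1
  have hadj1 : Γ.A (q 0) (q 1) := hq.adj (k := 0) (by omega) (by omega)
  rw [← e1] at hy1
  have hty0 : Γ.ty (q 0) = π := by rw [e0]; exact hty
  have hy0v : y0 • q 0 = q 0 := Q_fix' hy1 (Γ.symm hadj1)
  rw [← e0] at hy0D
  have hy0Q : y0 ∉ Γ.Q (q 0) := fun h => hy0D (H.pu.mem_D hty0 hadj1 h hy1)
  have hne1 : q (-1) ≠ q 1 := hq.ne (by omega) (by omega) (by ring)
  have hmv : y0 • q (-1) ≠ q (-1) := by
    intro h
    exact hy0Q (mem_Q_of_two hy0v hadj1 (Γ.symm hadj0) hne1.symm hy1.1 h)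
  have htyn2 : Γ.ty (q (n - 2)) = π := by
    rw [← htyn, ← en]; exact (hq.ty_two (k := n - 2) (l := n) (by omega) le_rfl (by ring)).symm
  have hcomm : y0 * r' = r' * y0 := by
    have h8 : Γ.VV (q (n - 2)) ≤ Γ.Q (q n) :=
      hmin q (n - 2) n (by omega) (hq.sub (by omega) le_rfl) htyn2 (by omega)
    have h9 : Γ.VV (q (n - 2)) ≤ Γ.Q (q (n - 1)) :=
      hmin q (n - 2) (n - 1) (by omega) (hq.sub (by omega) (by omega)) htyn2 (by omega)
    have hadjn : Γ.A (q n) (q (n - 1)) := hq.adj' (by omega) le_rfl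
    rw [← en] at hy0 htyn
    exact VV_comm hy0 (H.pu.mem_D htyn hadjn (h8 rb2.2.1) (h9 rb2.2.1))
  have h10 := h7.conj y0
  have e4 : y0 * r' * y0⁻¹ = r' := by rw [hcomm, mul_inv_cancel_right]
  rw [e4, hy0v] at h10
  exact H.IsR_ne hty0 (Γ.symm hadj0) (A_of_fix hy0v (Γ.symm hadj0)) hmv.symm h7 h10

end PUH

end Tri

end Cfsg.Agent.H209
end

-- part: H209/TriPUFour
section
/-!
# Pushing up for trivalent graphs: the bound 64
-/

set_option autoImplicit false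

namespace Cfsg.Agent.H209

open MulAction

namespace Tri

variable {G V : Type*} [Group G] [MulAction G V] {Γ : Tri G V}
variable {u v w a b c d : V} {g h : G}

theorem ex_adj (Γ : Tri G V) (v : V) : ∃ a, Γ.A v a := by
  obtain ⟨a, _, _, ha, _⟩ := Γ.three v
  exact ⟨a, ha⟩

namespace PUH

variable {π : Bool} (H : PUH Γ π)

include H

/-- the case of distance two -/
theorem card_le_of_two (hall : ∀ v w a, Γ.ty v = π → Γ.A v a → Γ.A a w → v ≠ w → ¬ Γ.VV v ≤ Γ.Q w)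
    (hv : Γ.ty v = π) (ha : Γ.A v a) : Nat.card (T v a : Subgroup G) ≤ 64 := by
  -- squares
  have sq_sub : ∀ v w a, Γ.ty v = π → Γ.A v a → Γ.A a w → v ≠ w → ∀ x ∈ Γ.D v, ∃ y ∈ Γ.D w, x * x = y * y := by
    intro v w a hv ha hw hvw x hx
    have tyw : Γ.ty w = π := H.ty_of_adj' (H.ty_of_adj hv ha) hw
    obtain ⟨z, hz, hzw⟩ := Set.not_subset.1 (hall v w a hv ha hw hvw)
    have hzD : z ∈ Γ.D v := H.VV_le_D hv hz
    by_cases hxw : x ∈ Γ.D w
    · exact ⟨x, hxw, rfl⟩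
    · have h1 : z * x ∈ Γ.D w := (H.pu.half_D tyw (Γ.symm hw)).2 z (D_le_Q' ha hzD) x (D_le_Q' ha hx)
        (fun h => hzw h.1) hxw
      refine ⟨z * x, h1, ?_⟩
      have h2 : z * x = x * z := VV_comm hz hx
      have h3 : z * z = 1 := H.VV_sq hv hz
      calc x * x = (z * z) * (x * x) := by rw [h3, one_mul]
        _ = z * (z * x) * x := by group
        _ = z * (x * z) * x := by rw [h2]
        _ = z * x * (z * x) := by group
  have hsq : ∀ v, Γ.ty v = π → ∀ x ∈ Γ.D v, x * x = 1 := by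
    intro v hv
    obtain ⟨a, ha⟩ := ex_adj Γ v
    obtain ⟨w, hw, hwv⟩ := exists_ne (Γ.symm ha)
    let F : V → Subgroup G := fun v => Subgroup.closure {x | ∃ y ∈ Γ.D v, x = y * y}
    have hle : F v ≤ F w := by
      show Subgroup.closure _ ≤ _
      rw [Subgroup.closure_le]
      rintro x ⟨y, hy, rfl⟩
      obtain ⟨z, hz, e⟩ := sq_sub v w a hv ha hw hwv.symm y hy
      exact Subgroup.subset_closure ⟨z, hz, e⟩
    have hFD : F v ≤ Γ.D v := by
      show Subgroup.closure _ ≤ _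
      rw [Subgroup.closure_le]
      rintro x ⟨y, hy, rfl⟩
      exact mul_mem hy hy
    have key := fam_bot Γ (F := F) (fun g v x hx => ?_) (Γ.symm ha) hw hwv.symm hle
      (fun x hx => ⟨Q_fix' (hFD hx).1 ha, (hFD hx).1.1⟩)
    · intro x hx
      exact key _ (Subgroup.subset_closure ⟨x, hx, rfl⟩)
    · refine conj_mem_closure g ?_ hx
      rintro x ⟨y, hy, rfl⟩
      refine Subgroup.subset_closure ⟨g * y * g⁻¹, conj_mem_D hy g, by group⟩
  have hDcomm : ∀ v, Γ.ty v = π → ∀ x ∈ Γ.D v, ∀ y ∈ Γ.D v, x * y = y * x := by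
    intro v hv x hx y hy
    have h1 := hsq v hv x hx
    have h2 := hsq v hv y hy
    have h3 := hsq v hv _ (mul_mem hx hy)
    calc x * y = x * (x * y * (x * y)) * y := by rw [h3, mul_one]
      _ = (x * x) * (y * x) * (y * y) := by group
      _ = y * x := by rw [h1, h2, one_mul, mul_one]
  -- `D v ∩ D w` is centralised by `Q a`
  have hE : ∀ v w a, Γ.ty v = π → Γ.A v a → Γ.A a w → v ≠ w → ∀ x ∈ Γ.D v, x ∈ Γ.D w → ∀ y ∈ Γ.Q a,
      y * x = x * y := by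
    intro v w a hv ha hw hvw x hx hxw y hy
    have tyw : Γ.ty w = π := H.ty_of_adj' (H.ty_of_adj hv ha) hw
    obtain ⟨z, hz, hzw⟩ := Set.not_subset.1 (hall v w a hv ha hw hvw)
    have hzD : z ∈ Γ.D v := H.VV_le_D hv hz
    by_cases hyw : y ∈ Γ.D w
    · exact hDcomm w tyw y hyw x hxw
    · have h1 : z * y ∈ Γ.D w := (H.pu.half_D tyw (Γ.symm hw)).2 z (D_le_Q' ha hzD) y hy
        (fun h => hzw h.1) hyw
      have h2 := hDcomm w tyw _ h1 x hxw
      have h3 := hDcomm v hv z hzD x hx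
      calc y * x = z⁻¹ * ((z * y) * x) := by group
        _ = z⁻¹ * (x * (z * y)) := by rw [h2]
        _ = z⁻¹ * (x * z) * y := by group
        _ = z⁻¹ * (z * x) * y := by rw [h3]
        _ = x * y := by group
  -- the neighbours of `a`
  obtain ⟨w, u, hw, hu, hwv, huv, hwu, hall3⟩ := exists_others (Γ.symm ha)
  have hta : Γ.ty a ≠ π := H.ty_of_adj hv ha
  have hEall : ∀ x ∈ Γ.D v ⊓ Γ.D w, ∀ t, Γ.A a t → x ∈ Γ.D t := by
    intro x hx t ht
    have tyt : Γ.ty t = π := H.ty_of_adj' hta ht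
    apply H.mem_D_of_comm tyt (Γ.symm ht) (D_le_Q' ha hx.1)
    intro y hy
    exact (hE v w a hv ha hw hwv.symm x hx.1 hx.2 y (D_le_Q' (Γ.symm ht) (H.VV_le_D tyt hy))).symm
  have hEQ : ∀ x ∈ Γ.D v ⊓ Γ.D w, ∀ y ∈ Γ.Q a, y * x = x * y := fun x hx y hy =>
    hE v w a hv ha hw hwv.symm x hx.1 hx.2 y hy
  -- for every neighbour `t` of `a` choose `μ t` and `τ t`
  have hch : ∀ t, Γ.A a t → ∃ μ τ, Γ.A t μ ∧ μ ≠ a ∧ Γ.A μ τ ∧ t ≠ τ := by
    intro t ht
    obtain ⟨μ, hμ, hμa⟩ := exists_ne (Γ.symm ht)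
    obtain ⟨τ, hτ, hτt⟩ := exists_ne (Γ.symm hμ)
    exact ⟨μ, τ, hμ, hμa, hτ, hτt.symm⟩
  obtain ⟨μv, τv, hμv, hμva, hτv, hvτ⟩ := hch v (Γ.symm ha)
  obtain ⟨μw, τw, hμw, hμwa, hτw, hwτ⟩ := hch w hw
  obtain ⟨μu, τu, hμu, hμua, hτu, huτ⟩ := hch u hu
  let E : Subgroup G := Γ.D v ⊓ Γ.D w
  have tyw : Γ.ty w = π := H.ty_of_adj' hta hw
  have tyu : Γ.ty u = π := H.ty_of_adj' hta hu
  have hhalf : ∀ t μ τ, Γ.A a t → Γ.ty t = π → Γ.A t μ → Γ.A μ τ → ∀ L : Subgroup G, L ≤ E → Half (Γ.D τ ⊓ L) L := by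
    intro t μ τ ht tyt hμ hτ L hL
    have tyτ : Γ.ty τ = π := H.ty_of_adj' (H.ty_of_adj tyt hμ) hτ
    refine (H.pu.half_D tyτ (Γ.symm hτ)).inf_left (fun x hx => ?_)
    exact D_le_Q' hμ (hEall x (hL hx) t ht)
  -- transitivity on the neighbours of `t` of elements centralising `x ∈ E ∩ D τ`
  have htrans : ∀ t μ τ, Γ.A a t → Γ.A t μ → μ ≠ a → Γ.A μ τ → t ≠ τ → ∀ y, Γ.A t y →
      ∃ g : G, (∀ x ∈ E, x ∈ Γ.D τ → g * x = x * g) ∧ g • a = y := by
    intro t μ τ ht hμ hμa hτ htτ y hy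
    have tyt : Γ.ty t = π := H.ty_of_adj' hta ht
    obtain ⟨c, hc, hca, hcμ, hcall⟩ := exists_third (Γ.symm ht) hμ hμa.symm
    obtain ⟨z, hz, hzt⟩ := Set.not_subset.1 (H.nle a t ht)
    obtain ⟨s, hs, hst⟩ := Set.not_subset.1 (H.nle μ t (Γ.symm hμ))
    have ez := swap_of_not_mem (Q_fix' hz ht) (Γ.symm ht) hμ hc hμa.symm hca.symm hcμ.symm hz.1 hzt
    have es := swap_of_not_mem (Q_fix' hs (Γ.symm hμ)) hμ (Γ.symm ht) hc hμa hcμ.symm hca.symm hs.1 hst
    have cz : ∀ x ∈ E, z * x = x * z := fun x hx => hEQ x hx z hz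
    have cs : ∀ x ∈ E, x ∈ Γ.D τ → s * x = x * s := by
      intro x hx hxτ
      exact hE t τ μ tyt hμ hτ htτ x (hEall x hx t ht) hxτ s hs
    rcases hcall y hy with rfl | rfl | rfl
    · exact ⟨1, fun x _ _ => by simp, one_smul _ _⟩
    · refine ⟨z * s, fun x hx hxτ => ?_, ?_⟩
      · rw [mul_assoc, cs x hx hxτ, ← mul_assoc, cz x hx, mul_assoc]
      · rw [mul_smul, es.1, ez.2]
    · exact ⟨s, fun x hx hxτ => cs x hx hxτ, es.1⟩
  -- the final group
  let F : Subgroup G := Γ.D τu ⊓ (Γ.D τw ⊓ (Γ.D τv ⊓ E))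
  have hF : ∀ x ∈ F, x = 1 := by
    apply star_bot Γ a F
    · intro x hx
      exact D_le_Q' ha hx.2.2.2.1
    · intro t ht y hy
      rcases hall3 t ht with rfl | rfl | rfl
      · obtain ⟨g, hg, hgy⟩ := htrans t μv τv ht hμv hμva hτv hvτ y hy
        exact ⟨g, fun x hx => hg x hx.2.2.2 hx.2.2.1, hgy⟩
      · obtain ⟨g, hg, hgy⟩ := htrans t μw τw ht hμw hμwa hτw hwτ y hy
        exact ⟨g, fun x hx => hg x hx.2.2.2 hx.2.1, hgy⟩
      · obtain ⟨g, hg, hgy⟩ := htrans t μu τu ht hμu hμua hτu huτ y hy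
        exact ⟨g, fun x hx => hg x hx.2.2.2 hx.1, hgy⟩
  have c0 := card_le_one_of_forall hF
  have fE : ∀ L : Subgroup G, L ≤ E → Finite L := fun L hL => finSub Γ v fun x hx => (hL hx).1.1.1
  have c1 := card_le_two_of_forall _ (hhalf u μu τu hu tyu hμu hτu (Γ.D τw ⊓ (Γ.D τv ⊓ E)) (fun x hx => hx.2.2))
    (fE _ (fun x hx => hx.2.2)) c0
  have c2 := card_le_two_of_forall _ (hhalf w μw τw hw tyw hμw hτw (Γ.D τv ⊓ E) (fun x hx => hx.2))
    (fE _ (fun x hx => hx.2)) c1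
  have c3 := card_le_two_of_forall _ (hhalf v μv τv (Γ.symm ha) hv hμv hτv E le_rfl) (fE _ le_rfl) c2
  have hh4 : Half (Γ.D v ⊓ Γ.D w) (Γ.D w) := (H.pu.half_D hv ha).inf_left (D_le_Q' (Γ.symm hw))
  have c4 : Nat.card (Γ.D w) ≤ 2 * (2 * (2 * (2 * 1))) :=
    card_le_two_of_forall _ hh4 (finSub (H := Γ.D w) Γ w fun x hx => hx.1.1) c3
  have c5 := card_le_two_of_forall _ (H.pu.half_D tyw (Γ.symm hw)) (finSub (H := Γ.Q a) Γ a fun x hx => hx.1) c4
  have c6 := card_T_le (Γ.symm ha) c5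
  rw [T_comm]
  omega

end PUH

/-- **Pushing up**: the edge stabilizers have order at most 64. -/
theorem PU.card_le {π : Bool} (hPU : PU Γ π) (h : Γ.A v w) : Nat.card (T v w : Subgroup G) ≤ 64 := by
  by_cases h1 : ∃ x y, Γ.A x y ∧ Γ.Q x ≤ Γ.Q y
  · obtain ⟨x, y, hxy, hle⟩ := h1
    rw [card_T_eq h hxy]
    have := card_le_two_of_Q_le hxy hle
    omega
  by_cases h2 : ∃ x y a, Γ.ty x = π ∧ Γ.A x a ∧ Γ.A a y ∧ x ≠ y ∧ Γ.D x ≤ Γ.D y
  · obtain ⟨x, y, a, hx, hxa, hay, hxy, hle⟩ := h2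
    rw [card_T_eq h hxa]
    have := hPU.card_le_four hx hxa hay hxy hle
    omega
  by_cases h3 : ∃ x, Γ.ty x = π ∧ ∃ g : G, g • x = x ∧ (∀ n ∈ Γ.D x, g * n = n * g) ∧ g ∉ Γ.Q x
  · obtain ⟨x, hx, hg⟩ := h3
    obtain ⟨a, ha⟩ := ex_adj Γ x
    rw [card_T_eq h ha]
    have := hPU.card_le_of_cent hx ha hg
    omega
  by_cases h4 : ∃ x, Γ.ty x ≠ π ∧ ∀ y ∈ Γ.Q x, y = 1
  · obtain ⟨x, -, hx⟩ := h4
    obtain ⟨a, ha⟩ := ex_adj Γ x
    rw [card_T_eq h ha]
    have := card_T_le ha (card_le_one_of_forall hx)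
    omega
  push Not at h1 h2 h3 h4
  have H : PUH Γ π := ⟨hPU, fun x hx g hg hc => h3 x hx g hg hc, h4, h1, fun x y a hx ha hy hxy => h2 x y a hx ha hy hxy⟩
  -- a vertex of type `π`
  obtain ⟨x, hx⟩ : ∃ x, Γ.ty x = π := by
    by_cases hv : Γ.ty v = π
    · exact ⟨v, hv⟩
    · exact ⟨w, H.ty_of_adj' hv h⟩
  obtain ⟨a, ha⟩ := ex_adj Γ x
  have hne : ∃ z ∈ Γ.VV x, z ≠ 1 := by
    obtain ⟨z, hz, hz1⟩ := H.exists_OZ_Q hx ha
    exact ⟨z, OZ_le_VV ha hz, hz1⟩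
  obtain ⟨n, hn0, ⟨p, hp, hty, hc⟩, hmin⟩ := exists_min (Γ := Γ) Γ.VV (fun t => t = π) x hx hne
  have hn2 := H.eq_two hmin hn0 hp hty hc
  subst hn2
  rw [card_T_eq h ha]
  refine H.card_le_of_two ?_ hx ha
  intro v w a hv hva haw hvw hle
  apply hc
  have h01 : Γ.A (p 0) (p 1) := hp.adj (k := 0) le_rfl (by norm_num)
  have h12 : Γ.A (p 1) (p 2) := hp.adj (k := 1) (by norm_num) (by norm_num)
  have hne : p 0 ≠ p 2 := hp.ne (by norm_num) (by norm_num) (by norm_num)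
  have hta : Γ.ty a = Γ.ty (p 1) := by rw [Γ.ty_adj hva, Γ.ty_adj h01, hv, hty]
  obtain ⟨g, hg1, hg2, hg3⟩ := exists_two_trans' (Γ.symm hva) haw (Γ.symm h01) h12 hvw hne hta
  intro x hx
  have h5 : g⁻¹ * x * g ∈ Γ.VV v := by
    have := conj_mem_VV hx g⁻¹
    rwa [inv_inv, ← hg2, inv_smul_smul] at this
  have h6 := hle h5
  rwa [← mem_Q_smul, hg3] at h6

end Tri

end Cfsg.Agent.H209
end

-- part: H209/TriMv
section
/-!
# Local arc-transitivity of trivalent graphs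
-/

set_option autoImplicit false

namespace Cfsg.Agent.H209

open MulAction

namespace Tri

variable {G V : Type*} [Group G] [MulAction G V] {Γ : Tri G V}
variable {u v w a b c d : V} {g h : G}

/-- `g` fixes `p k` for `k ∈ [i, j]` -/
def Fixes (g : G) (p : ℤ → V) (i j : ℤ) : Prop := ∀ k, i ≤ k → k ≤ j → g • p k = p k

omit Γ in
theorem Fixes.sub {p : ℤ → V} {i j i' j' : ℤ} (h : Fixes g p i j) (hi : i ≤ i') (hj : j' ≤ j) : Fixes g p i' j' :=
  fun k h1 h2 => h k (by omega) (by omega)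

omit Γ in
theorem Fixes.mul {p : ℤ → V} {i j : ℤ} (h1 : Fixes g p i j) (h2 : Fixes h p i j) : Fixes (g * h) p i j :=
  fun k hk hk' => mul_fix (h1 k hk hk') (h2 k hk hk')

omit Γ in
theorem Fixes.inv {p : ℤ → V} {i j : ℤ} (h1 : Fixes g p i j) : Fixes g⁻¹ p i j :=
  fun k hk hk' => inv_fix (h1 k hk hk')

/-- arcs of length `j` ending at type `τ`: some element fixing the arc moves the other neighbours of the end -/
def MvT (Γ : Tri G V) (j : ℤ) (τ : Bool) : Prop :=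
  ∀ (p : ℤ → V) (i : ℤ), Γ.Arc p i (i + j) → Γ.ty (p (i + j)) = τ → ∃ g : G, Fixes g p i (i + j) ∧ g ∉ Γ.Q (p (i + j))

/-- all elements fixing an arc of length `j` ending at type `τ` fix the neighbours of the end -/
def Fx (Γ : Tri G V) (j : ℤ) (τ : Bool) : Prop :=
  ∀ (p : ℤ → V) (i : ℤ), Γ.Arc p i (i + j) → Γ.ty (p (i + j)) = τ → ∀ g : G, Fixes g p i (i + j) → g ∈ Γ.Q (p (i + j))

theorem Fx.mono {j j' : ℤ} {τ : Bool} (h : Fx Γ j τ) (hj : j ≤ j') : Fx Γ j' τ := by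
  intro p i hp hty g hg
  have e : i + j' - j + j = i + j' := by ring
  have := h p (i + j' - j) (by rw [e]; exact hp.sub (by omega) le_rfl) (by rw [e]; exact hty) g
    (by rw [e]; exact hg.sub (by omega) le_rfl)
  rwa [e] at this

/-- arc transitivity -/
theorem arc_trans (n : ℕ) (hn : 1 ≤ n) (hM : ∀ k : ℤ, 1 ≤ k → k < n → ∀ τ, MvT Γ k τ) {p q : ℤ → V} {i : ℤ}
    (hp : Γ.Arc p i (i + n)) (hq : Γ.Arc q i (i + n)) (hty : Γ.ty (p i) = Γ.ty (q i)) :
    ∃ g : G, ∀ k, i ≤ k → k ≤ i + n → g • p k = q k := by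
  induction n, hn using Nat.le_induction with
  | base =>
    obtain ⟨g, hg1, hg2⟩ := Γ.trans (hp.adj (k := i) le_rfl (by omega)) (hq.adj (k := i) le_rfl (by omega)) hty
    refine ⟨g, fun k h1 h2 => ?_⟩
    have : k = i ∨ k = i + 1 := by push_cast at h2; omega
    rcases this with rfl | rfl
    · exact hg1
    · exact hg2
  | succ n hn ih =>
    push_cast at hp hq hM ⊢
    obtain ⟨g, hg⟩ := ih (fun k h1 h2 => hM k h1 (by omega)) (hp.sub le_rfl (by omega)) (hq.sub le_rfl (by omega))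
    have hA : Γ.A (q (i + n)) (g • p (i + n + 1)) := by
      have := Γ.smul g (hp.adj (k := i + n) (by omega) (by omega))
      rwa [hg (i + n) (by omega) le_rfl] at this
    have hB : Γ.A (q (i + n)) (q (i + n + 1)) := hq.adj (by omega) (by omega)
    have hC : Γ.A (q (i + n)) (q (i + n - 1)) := hq.adj' (by omega) (by omega)
    have hne1 : q (i + n - 1) ≠ g • p (i + n + 1) := by
      rw [← hg (i + n - 1) (by omega) (by omega)]
      intro h
      exact hp.ne (k := i + n - 1) (l := i + n + 1) (by omega) (by omega) (by ring) (MulAction.injective g h)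
    have hne2 : q (i + n - 1) ≠ q (i + n + 1) := hq.ne (by omega) (by omega) (by ring)
    by_cases h1 : g • p (i + n + 1) = q (i + n + 1)
    · refine ⟨g, fun k h2 h3 => ?_⟩
      by_cases h4 : k = i + n + 1
      · rw [h4]; exact h1
      · exact hg k h2 (by omega)
    · obtain ⟨h, hh, hhQ⟩ := hM n (by omega) (by omega) _ q i (hq.sub le_rfl (by omega)) rfl
      have h2 := swap_of_not_mem (hh (i + n) (by omega) le_rfl) hC hA hB hne1 hne2 h1
        (hh (i + n - 1) (by omega) (by omega)) hhQ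
      refine ⟨h * g, fun k h3 h4 => ?_⟩
      rw [mul_smul]
      by_cases h5 : k = i + n + 1
      · rw [h5]; exact h2.1
      · rw [hg k h3 (by omega)]
        exact hh k h3 (by omega)

/-- transport of the moving property -/
theorem MvT_of_one {j : ℤ} (hj : 1 ≤ j) (hM : ∀ k : ℤ, 1 ≤ k → k < j → ∀ τ, MvT Γ k τ) {p : ℤ → V} {i : ℤ}
    (hp : Γ.Arc p i (i + j)) (hg : Fixes g p i (i + j)) (hgQ : g ∉ Γ.Q (p (i + j))) : MvT Γ j (Γ.ty (p (i + j))) := by
  intro q i' hq hty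
  have hq' := hq.shift (i' - i)
  have e1 : i' - (i' - i) = i := by ring
  have e2 : i' + j - (i' - i) = i + j := by ring
  rw [e1, e2] at hq'
  have e3 : ((j.toNat : ℕ) : ℤ) = j := by omega
  have hty' : Γ.ty (p i) = Γ.ty (q i') := by
    rcases Int.emod_two_eq_zero_or_one j with h0 | h0
    · have h1 := hp.ty_even (k := i) (l := i + j) le_rfl (by omega) (by omega) le_rfl (by omega)
      have h2 := hq.ty_even (k := i') (l := i' + j) le_rfl (by omega) (by omega) le_rfl (by omega)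
      rw [← h1, ← h2, hty]
    · have h1 := hp.ty_odd (k := i) (l := i + j) le_rfl (by omega) (by omega) le_rfl (by omega)
      have h2 := hq.ty_odd (k := i') (l := i' + j) le_rfl (by omega) (by omega) le_rfl (by omega)
      rw [h1, h2] at hty
      simpa using hty.symm
  obtain ⟨k, hk⟩ := arc_trans (Γ := Γ) j.toNat (by omega) (by rw [e3]; exact hM) (p := p)
    (q := fun k => q (k + (i' - i))) (i := i) (by rw [e3]; exact hp) (by rw [e3]; exact hq') (by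
      have : i + (i' - i) = i' := by ring
      simp only [this]; exact hty')
  rw [e3] at hk
  have hk' : ∀ l, i' ≤ l → l ≤ i' + j → k • p (l - (i' - i)) = q l := by
    intro l h1 h2
    have := hk (l - (i' - i)) (by omega) (by omega)
    simp only [sub_add_cancel] at this
    exact this
  refine ⟨k * g * k⁻¹, fun l h1 h2 => ?_, fun hQ => hgQ ?_⟩
  · exact conj_fix_of_eq (hg (l - (i' - i)) (by omega) (by omega)) (hk' l h1 h2)
  · rw [← hk' (i' + j) (by omega) le_rfl, e2, mem_Q_smul] at hQ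
    have : k⁻¹ * (k * g * k⁻¹) * k = g := by group
    rwa [this] at hQ

/-- the dichotomy -/
theorem dichotomy (Γ : Tri G V) (m : ℤ) : (∀ k : ℤ, 1 ≤ k → k ≤ m → ∀ τ, MvT Γ k τ) ∨
    ∃ j : ℤ, 1 ≤ j ∧ j ≤ m ∧ (∀ k : ℤ, 1 ≤ k → k < j → ∀ τ, MvT Γ k τ) ∧ ∃ τ, Fx Γ j τ := by
  classical
  by_cases hall : ∀ k : ℤ, 1 ≤ k → k ≤ m → ∀ τ, MvT Γ k τ
  · exact Or.inl hall
  right
  push Not at hall
  have hex : ∃ n : ℕ, 1 ≤ n ∧ (n : ℤ) ≤ m ∧ ∃ τ, ¬ MvT Γ n τ := by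
    obtain ⟨k, h1, h2, τ, h3⟩ := hall
    refine ⟨k.toNat, by omega, by omega, τ, ?_⟩
    have : ((k.toNat : ℕ) : ℤ) = k := by omega
    rw [this]; exact h3
  obtain ⟨h1, h2, τ, h3⟩ := Nat.find_spec hex
  set j := Nat.find hex with hj
  have hM : ∀ k : ℤ, 1 ≤ k → k < j → ∀ τ, MvT Γ k τ := by
    intro k hk1 hk2 τ
    by_contra hcon
    refine Nat.find_min hex (m := k.toNat) (by omega) ⟨by omega, by omega, τ, ?_⟩
    have : ((k.toNat : ℕ) : ℤ) = k := by omega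
    rw [this]; exact hcon
  refine ⟨j, by omega, h2, hM, τ, ?_⟩
  intro p i hp hty g hg
  by_contra hgQ
  have := MvT_of_one (by omega) hM hp hg hgQ
  rw [hty] at this
  exact h3 this

/-- closure lemma along an arc -/
theorem arc_bot (Γ : Tri G V) (N : Subgroup G) {p : ℤ → V} {i j : ℤ} (hij : i ≤ j) (hp : Γ.Arc p i j)
    (hfix : ∀ n ∈ N, Fixes n p i j)
    (hl : ∀ x, Γ.A (p i) x → ∃ g : G, (∀ n ∈ N, g⁻¹ * n * g ∈ N) ∧ ∃ k, i ≤ k ∧ k ≤ j ∧ g • p k = x)
    (hr : ∀ x, Γ.A (p j) x → ∃ g : G, (∀ n ∈ N, g⁻¹ * n * g ∈ N) ∧ ∃ k, i ≤ k ∧ k ≤ j ∧ g • p k = x)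
    (hm : ∀ k, i < k → k < j → ∃ g : G, (∀ n ∈ N, g⁻¹ * n * g ∈ N) ∧ g • p k = p k ∧
      (g • p (k - 1) = p (k - 1) ∨ g • p (k + 1) = p (k + 1)) ∧ g ∉ Γ.Q (p k)) : ∀ n ∈ N, n = 1 := by
  apply closure_bot Γ N {v | ∃ k, i ≤ k ∧ k ≤ j ∧ v = p k} ⟨p i, i, le_rfl, hij, rfl⟩
  · rintro v ⟨k, h1, h2, rfl⟩ n hn
    exact hfix n hn k h1 h2
  · rintro v ⟨k, h1, h2, rfl⟩ x hx
    by_cases hki : k = i
    · subst hki
      obtain ⟨g, hg, l, h3, h4, h5⟩ := hl x hx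
      exact ⟨g, hg, p l, ⟨l, h3, h4, rfl⟩, h5⟩
    by_cases hkj : k = j
    · subst hkj
      obtain ⟨g, hg, l, h3, h4, h5⟩ := hr x hx
      exact ⟨g, hg, p l, ⟨l, h3, h4, rfl⟩, h5⟩
    have hA : Γ.A (p k) (p (k - 1)) := hp.adj' (by omega) h2
    have hB : Γ.A (p k) (p (k + 1)) := hp.adj h1 (by omega)
    have hAB : p (k - 1) ≠ p (k + 1) := hp.ne (by omega) (by omega) (by ring)
    by_cases hxA : x = p (k - 1)
    · exact ⟨1, fun n hn => by simpa using hn, p (k - 1), ⟨k - 1, by omega, by omega, rfl⟩, by rw [one_smul, hxA]⟩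
    by_cases hxB : x = p (k + 1)
    · exact ⟨1, fun n hn => by simpa using hn, p (k + 1), ⟨k + 1, by omega, by omega, rfl⟩, by rw [one_smul, hxB]⟩
    obtain ⟨g, hg, hgk, hor, hgQ⟩ := hm k (by omega) (by omega)
    rcases hor with h3 | h3
    · have := swap_of_not_mem hgk hA hB hx hAB (Ne.symm hxA) (Ne.symm hxB) h3 hgQ
      exact ⟨g, hg, p (k + 1), ⟨k + 1, by omega, by omega, rfl⟩, this.1⟩
    · have := swap_of_not_mem hgk hB hA hx hAB.symm (Ne.symm hxB) (Ne.symm hxA) h3 hgQ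
      exact ⟨g, hg, p (k - 1), ⟨k - 1, by omega, by omega, rfl⟩, this.1⟩

/-- closure lemma along an arc, for an element -/
theorem arc_bot_elt (Γ : Tri G V) (z : G) {p : ℤ → V} {i j : ℤ} (hij : i ≤ j) (hp : Γ.Arc p i j)
    (hfix : Fixes z p i j)
    (hl : ∀ x, Γ.A (p i) x → ∃ g : G, g * z = z * g ∧ ∃ k, i ≤ k ∧ k ≤ j ∧ g • p k = x)
    (hr : ∀ x, Γ.A (p j) x → ∃ g : G, g * z = z * g ∧ ∃ k, i ≤ k ∧ k ≤ j ∧ g • p k = x)
    (hm : ∀ k, i < k → k < j → ∃ g : G, g * z = z * g ∧ g • p k = p k ∧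
      (g • p (k - 1) = p (k - 1) ∨ g • p (k + 1) = p (k + 1)) ∧ g ∉ Γ.Q (p k)) : z = 1 := by
  have hz : ∀ g : G, g * z = z * g → ∀ n ∈ Subgroup.zpowers z, g⁻¹ * n * g ∈ Subgroup.zpowers z := by
    rintro g hg n ⟨m, rfl⟩
    have h1 : Commute g z := hg
    have h2 := (h1.zpow_right m).eq
    show g⁻¹ * (z ^ m) * g ∈ _
    rw [mul_assoc, ← h2, inv_mul_cancel_left]
    exact ⟨m, rfl⟩
  apply arc_bot Γ (Subgroup.zpowers z) hij hp _ _ _ _ z (Subgroup.mem_zpowers z)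
  · rintro n ⟨m, rfl⟩ k h1 h2
    show z ^ m • p k = p k
    have h3 : z ∈ stabilizer G (p k) := mem_stabilizer_iff.2 (hfix k h1 h2)
    exact mem_stabilizer_iff.1 (zpow_mem h3 m)
  · intro x hx
    obtain ⟨g, hg, h⟩ := hl x hx
    exact ⟨g, hz g hg, h⟩
  · intro x hx
    obtain ⟨g, hg, h⟩ := hr x hx
    exact ⟨g, hz g hg, h⟩
  · intro k h1 h2
    obtain ⟨g, hg, h⟩ := hm k h1 h2
    exact ⟨g, hz g hg, h⟩

/-- the remaining case -/
structure NP (Γ : Tri G V) : Prop where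
  nle : ∀ v w, Γ.A v w → ¬ Γ.Q v ≤ Γ.Q w
  npu : ∀ v a b, Γ.A v a → Γ.A v b → a ≠ b → ¬ Γ.Q v ⊓ Γ.Q a ≤ Γ.Q b
  cent : ∀ (v : V) (g : G), g • v = v → (∀ q ∈ Γ.Q v, g * q = q * g) → g ∈ Γ.Q v

/-- the case `C_{G_v}(Q_v)` not in `Q_v` -/
theorem card_le_of_cent (hne : ∃ (v : V) (g : G), g • v = v ∧ (∀ q ∈ Γ.Q v, g * q = q * g) ∧ g ∉ Γ.Q v)
    (h : Γ.A v w) : Nat.card (T v w : Subgroup G) ≤ 16 := by
  obtain ⟨x, g, hg1, hg2, hg3⟩ := hne
  obtain ⟨a, ha⟩ := ex_adj Γ x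
  rw [card_T_eq h ha]
  obtain ⟨y, z, hy, hz, hyx, hzx, hyz, hall⟩ := exists_others (Γ.symm ha)
  let N : Subgroup G := Γ.Q z ⊓ (Γ.Q y ⊓ (Γ.Q x ⊓ Γ.Q a))
  have hN : ∀ n ∈ N, n = 1 := by
    apply star_bot Γ a N
    · intro n hn; exact hn.2.2.2
    · intro t ht s hs
      have tyt : Γ.ty x = Γ.ty t := ty_eq_of_adj (Γ.symm ha) ht
      obtain ⟨k, hk, -⟩ := Γ.trans ha hs tyt
      have h1 : ∃ g : G, g • t = t ∧ (∀ n ∈ Γ.Q t, g * n = n * g) ∧ g ∉ Γ.Q t := by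
        refine ⟨k * g * k⁻¹, conj_fix_of_eq hg1 hk, fun n hn => ?_, fun hQ => hg3 ?_⟩
        · rw [← hk] at hn
          have h2 := hg2 _ (mem_Q_smul.1 hn)
          calc k * g * k⁻¹ * n = k * (g * (k⁻¹ * n * k)) * k⁻¹ := by group
            _ = k * ((k⁻¹ * n * k) * g) * k⁻¹ := by rw [h2]
            _ = n * (k * g * k⁻¹) := by group
        · rw [← hk, mem_Q_smul] at hQ
          have : k⁻¹ * (k * g * k⁻¹) * k = g := by group
          rwa [this] at hQ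
      obtain ⟨c, -, hc, hcs⟩ := cent_trans (N := Γ.Q t) (fun g hg n hn => conj_mem_Q_of_fix hn hg) h1 (Γ.symm ht) hs
      refine ⟨c, fun n hn => hc n ?_, hcs⟩
      rcases hall t ht with rfl | rfl | rfl
      · exact hn.2.2.1
      · exact hn.2.1
      · exact hn.1
  have c0 := card_le_one_of_forall hN
  have half1 : Half (Γ.Q x ⊓ Γ.Q a) (Γ.Q a) := (half_Q' ha |> fun h => (half_Q ha)).inf_left (Q_le_T' (Γ.symm ha))
  have half2 : Half (Γ.Q y ⊓ (Γ.Q x ⊓ Γ.Q a)) (Γ.Q x ⊓ Γ.Q a) :=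
    (half_Q' (Γ.symm hy)).inf_left (fun n hn => Q_le_T hy hn.2)
  have half3 : Half N (Γ.Q y ⊓ (Γ.Q x ⊓ Γ.Q a)) :=
    (half_Q' (Γ.symm hz)).inf_left (fun n hn => Q_le_T hz hn.2.2)
  have c1 := card_le_two_of_forall _ half3 (finSub Γ a fun x hx => hx.2.2.1) c0
  have c2 := card_le_two_of_forall _ half2 (finSub Γ a fun x hx => hx.2.1) c1
  have c3 := card_le_two_of_forall _ half1 (finSub (H := Γ.Q a) Γ a fun x hx => hx.1) c2
  have c4 := card_T_le (Γ.symm ha) c3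
  rw [T_comm]
  omega

/-- reduction to the remaining case -/
theorem card_le_or_NP (h : Γ.A v w) : Nat.card (T v w : Subgroup G) ≤ 64 ∨ NP Γ := by
  by_cases h1 : ∃ x y, Γ.A x y ∧ Γ.Q x ≤ Γ.Q y
  · obtain ⟨x, y, hxy, hle⟩ := h1
    left
    rw [card_T_eq h hxy]
    have := card_le_two_of_Q_le hxy hle
    omega
  by_cases h2 : ∃ v a b, Γ.A v a ∧ Γ.A v b ∧ a ≠ b ∧ Γ.Q v ⊓ Γ.Q a ≤ Γ.Q b
  · obtain ⟨v', a, b, ha, hb, hab, hle⟩ := h2
    left
    exact (PU_of ha hb hab hle).card_le h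
  by_cases h3 : ∃ (v : V) (g : G), g • v = v ∧ (∀ q ∈ Γ.Q v, g * q = q * g) ∧ g ∉ Γ.Q v
  · left
    have := card_le_of_cent h3 h
    omega
  push Not at h1 h2 h3
  right
  exact ⟨h1, fun v a b ha hb hab hle => h2 v a b ha hb hab hle, h3⟩

end Tri

end Cfsg.Agent.H209
end

-- part: H209/TriNP
section
/-!
# The remaining case: basic consequences, and the bound in the case of noncommuting four-groups at distance two
-/

set_option autoImplicit false

namespace Cfsg.Agent.H209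

open MulAction

namespace Tri

variable {G V : Type*} [Group G] [MulAction G V] {Γ : Tri G V}
variable {u v w a b c d : V} {g h : G}

/-- a normal subgroup of `G_v`, not in `Q v`, contains an element whose square is not in `Q v` -/
theorem exists_sq_not_mem {N : Subgroup G} (hNv : ∀ n ∈ N, n • v = v)
    (hN : ∀ g : G, g • v = v → ∀ n ∈ N, g * n * g⁻¹ ∈ N) (hne : ∃ n ∈ N, n ∉ Γ.Q v) :
    ∃ n ∈ N, n * n ∉ Γ.Q v := by
  obtain ⟨s, hs, hsQ⟩ := hne
  by_contra hcon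
  push Not at hcon
  -- `s` fixes a neighbour
  have h1 : ∃ a, Γ.A v a ∧ s • a = a := by
    by_contra h2
    push Not at h2
    obtain ⟨a, ha⟩ := ex_adj Γ v
    have hsv := hNv s hs
    have h3 := A_of_fix hsv ha
    have h4 := A_of_fix hsv h3
    have h5 : s • s • a = a := by
      have := Q_fix' (hcon s hs) ha
      rwa [mul_smul] at this
    obtain ⟨c, hc, hca, hcs, hall⟩ := exists_third ha h3 (h2 a ha).symm
    have h6 : s • c = c := by
      apply third_unique ha h3 (A_of_fix hsv hc) hc (h2 a ha).symm _ _ hca hcs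
      · intro h7
        apply hcs
        apply MulAction.injective s
        show s • c = s • s • a
        rw [h5]; exact h7
      · intro h7
        exact hca (MulAction.injective s h7)
    exact h2 c hc h6
  obtain ⟨a, ha, hsa⟩ := h1
  obtain ⟨b, c, hb, hc, hba, hca, hbc, -⟩ := exists_others ha
  have e1 := swap_of_not_mem (hNv s hs) ha hb hc hba.symm hca.symm hbc hsa hsQ
  obtain ⟨k, hk, hka, hkb⟩ := exists_two_trans ha hb hb ha hba.symm hba
  have hkc : k • c = c := by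
    apply third_unique ha hb (A_of_fix hk hc) hc hba.symm _ _ hca hbc.symm
    · intro h7; exact hbc (MulAction.injective k (hkb.trans h7.symm))
    · intro h7; exact hca (MulAction.injective k (h7.trans hka.symm))
  have ht := hN k hk s hs
  have e2 : (k * s * k⁻¹) • b = b := by
    rw [mul_smul, mul_smul, ← hka, inv_smul_smul, hsa]
  have e3 : (k * s * k⁻¹) • a = c := by
    have : k⁻¹ • a = b := by rw [← hkb, inv_smul_smul]
    rw [mul_smul, mul_smul, this, e1.1, hkc]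
  have e4 : (k * s * k⁻¹) • c = a := by
    have : k⁻¹ • c = c := inv_fix hkc
    rw [mul_smul, mul_smul, this, e1.2, hkb]
  have h8 := hcon _ (mul_mem hs ht)
  have h9 := Q_fix' h8 ha
  have : (s * (k * s * k⁻¹) * (s * (k * s * k⁻¹))) • a = c := by
    rw [mul_smul (s * (k * s * k⁻¹)) (s * (k * s * k⁻¹)) a, mul_smul s (k * s * k⁻¹) a, e3, e1.2,
      mul_smul s (k * s * k⁻¹) b, e2, e1.1]
  rw [this] at h9
  exact hca h9

/-- if `g²` centralises for all `g` in a normal subgroup not in `Q v`, the centraliser is not in `Q v` -/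
theorem exists_cent_of_sq {N C : Subgroup G} (hNv : ∀ n ∈ N, n • v = v)
    (hN : ∀ g : G, g • v = v → ∀ n ∈ N, g * n * g⁻¹ ∈ N) (hne : ∃ n ∈ N, n ∉ Γ.Q v)
    (hsq : ∀ n ∈ N, ∀ c ∈ C, n * n * c = c * (n * n)) :
    ∃ g : G, g • v = v ∧ (∀ c ∈ C, g * c = c * g) ∧ g ∉ Γ.Q v := by
  obtain ⟨n, hn, hnn⟩ := exists_sq_not_mem hNv hN hne
  exact ⟨n * n, mul_fix (hNv n hn) (hNv n hn), hsq n hn, hnn⟩

namespace NP

variable (H : NP Γ)

include H

/-- **Lemma (L)**: a normal subgroup of `G_v` outside `Q v` meets `Q v` outside `Q a` -/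
theorem normal_Q {N : Subgroup G} (hNv : ∀ n ∈ N, n • v = v)
    (hN : ∀ g : G, g • v = v → ∀ n ∈ N, g * n * g⁻¹ ∈ N) (hne : ∃ n ∈ N, n ∉ Γ.Q v) (ha : Γ.A v a) :
    ∃ n ∈ N, n ∈ Γ.Q v ∧ n ∉ Γ.Q a := by
  by_contra hcon
  push Not at hcon
  have hall : ∀ b, Γ.A v b → ∀ n ∈ N, n ∈ Γ.Q v → n ∈ Γ.Q b := by
    intro b hb n hn hnQ
    obtain ⟨k, hk, hkb⟩ := exists_trans hb ha
    have h1 := hcon (k * n * k⁻¹) (hN k hk n hn) (conj_mem_Q_of_fix hnQ hk)
    rw [← hkb, mem_Q_smul] at h1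
    have : k⁻¹ * (k * n * k⁻¹) * k = n := by group
    rwa [this] at h1
  obtain ⟨b, hb, hba⟩ := exists_ne ha
  obtain ⟨n, hn, hnab⟩ := normal_trans hNv hN hne ha hb
  apply H.npu v a b ha hb hba.symm
  intro x hx
  have hxv : x ∈ Γ.Q v := hx.1
  have hxa : x ∈ Γ.Q a := hx.2
  have h1 : n * x * n⁻¹ ∈ Γ.Q b := conj_mem_Q_of_eq hxa hnab
  have h2 : n * (x⁻¹ * n⁻¹ * x) ∈ N := by
    refine mul_mem hn ?_
    have := hN x⁻¹ (inv_fix hxv.1) n⁻¹ (inv_mem hn)
    rwa [inv_inv] at this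
  have h3 : n * (x⁻¹ * n⁻¹ * x) ∈ Γ.Q v := by
    have h4 := conj_mem_Q_of_fix (inv_mem hxv) (hNv n hn)
    have : n * (x⁻¹ * n⁻¹ * x) = (n * x⁻¹ * n⁻¹) * x := by group
    rw [this]
    exact mul_mem h4 hxv
  have h5 := hall b hb _ h2 h3
  have : x = (n * x * n⁻¹) * (n * (x⁻¹ * n⁻¹ * x)) := by group
  rw [this]
  exact mul_mem h1 h5

omit H in
theorem mv1 (τ : Bool) : MvT Γ 1 τ := by
  intro p i hp _
  obtain ⟨g, hg, hgQ⟩ := exists_T_not_mem_Q (Γ.symm (hp.adj (k := i) le_rfl (by omega)))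
  obtain ⟨h1, h2⟩ := mem_T.1 hg
  refine ⟨g, fun k h3 h4 => ?_, hgQ⟩
  have : k = i ∨ k = i + 1 := by omega
  rcases this with rfl | rfl
  · exact h2
  · exact h1

theorem mv2 (τ : Bool) : MvT Γ 2 τ := by
  intro p i hp _
  have h1 : Γ.A (p i) (p (i + 1)) := hp.adj le_rfl (by omega)
  have h2 : Γ.A (p (i + 1)) (p (i + 2)) := by
    have := hp.adj (k := i + 1) (by omega) (by omega)
    have e : i + 1 + 1 = i + 2 := by ring
    rwa [e] at this
  obtain ⟨g, hg, hgQ⟩ := Set.not_subset.1 (H.nle (p (i + 1)) (p (i + 2)) h2)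
  refine ⟨g, fun k h3 h4 => ?_, hgQ⟩
  have : k = i ∨ k = i + 1 ∨ k = i + 2 := by omega
  rcases this with rfl | rfl | rfl
  · exact Q_fix' hg (Γ.symm h1)
  · exact hg.1
  · exact Q_fix' hg h2

theorem mv3 (τ : Bool) : MvT Γ 3 τ := by
  intro p i hp _
  have h1 : Γ.A (p i) (p (i + 1)) := hp.adj le_rfl (by omega)
  have h2 : Γ.A (p (i + 1)) (p (i + 2)) := by
    have := hp.adj (k := i + 1) (by omega) (by omega)
    have e : i + 1 + 1 = i + 2 := by ring
    rwa [e] at this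
  have h3 : Γ.A (p (i + 2)) (p (i + 3)) := by
    have := hp.adj (k := i + 2) (by omega) (by omega)
    have e : i + 2 + 1 = i + 3 := by ring
    rwa [e] at this
  have h4 : p (i + 1) ≠ p (i + 3) := hp.ne (by omega) (by omega) (by ring)
  obtain ⟨g, hg, hgQ⟩ := Set.not_subset.1 (H.npu (p (i + 2)) (p (i + 1)) (p (i + 3)) (Γ.symm h2) h3 h4)
  refine ⟨g, fun k h5 h6 => ?_, hgQ⟩
  have hg1 : g ∈ Γ.Q (p (i + 2)) := hg.1
  have hg2 : g ∈ Γ.Q (p (i + 1)) := hg.2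
  have : k = i ∨ k = i + 1 ∨ k = i + 2 ∨ k = i + 3 := by omega
  rcases this with rfl | rfl | rfl | rfl
  · exact Q_fix' hg2 (Γ.symm h1)
  · exact hg2.1
  · exact hg1.1
  · exact Q_fix' hg1 h3

theorem mv_le_three (τ : Bool) {k : ℤ} (h1 : 1 ≤ k) (h2 : k ≤ 3) : MvT Γ k τ := by
  have : k = 1 ∨ k = 2 ∨ k = 3 := by omega
  rcases this with rfl | rfl | rfl
  · exact mv1 τ
  · exact H.mv2 τ
  · exact H.mv3 τ

end NP

/-- closure lemma for two vertices at distance two: `N` centralised by normal subgroups `C₁`, `C₃` of `G_v`, `G_w` -/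
theorem two_bot (H : NP Γ) {v a w : V} (hva : Γ.A v a) (haw : Γ.A a w) (hvw : v ≠ w) (N C C' : Subgroup G)
    (hN : ∀ n ∈ N, n • v = v ∧ n • a = a ∧ n • w = w) (hCv : ∀ c ∈ C, c • v = v)
    (hCn : ∀ g : G, g • v = v → ∀ c ∈ C, g * c * g⁻¹ ∈ C) (hCQ : ∃ c ∈ C, c ∉ Γ.Q v)
    (hCw : ∀ c ∈ C', c • w = w)
    (hCn' : ∀ g : G, g • w = w → ∀ c ∈ C', g * c * g⁻¹ ∈ C') (hCQ' : ∃ c ∈ C', c ∉ Γ.Q w)
    (hc : ∀ c ∈ C, ∀ n ∈ N, c * n = n * c) (hc' : ∀ c ∈ C', ∀ n ∈ N, c * n = n * c) : ∀ n ∈ N, n = 1 := by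
  have hcomm : ∀ c : G, (∀ n ∈ N, c * n = n * c) → ∀ n ∈ N, c⁻¹ * n * c ∈ N := by
    intro c hc n hn
    rw [mul_assoc, ← hc n hn, inv_mul_cancel_left]
    exact hn
  apply closure_bot Γ N ({v, a, w} : Set V) ⟨v, Or.inl rfl⟩
  · rintro p (rfl | rfl | rfl) n hn
    · exact (hN n hn).1
    · exact (hN n hn).2.1
    · exact (hN n hn).2.2
  · rintro p (rfl | rfl | hp) x hx
    · obtain ⟨c, hc1, hc2⟩ := normal_trans hCv hCn hCQ hva hx
      exact ⟨c, hcomm c (hc c hc1), a, Or.inr (Or.inl rfl), hc2⟩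
    · by_cases h1 : x = v
      · exact ⟨1, fun n hn => by simpa using hn, v, Or.inl rfl, by rw [one_smul, h1]⟩
      by_cases h2 : x = w
      · exact ⟨1, fun n hn => by simpa using hn, w, Or.inr (Or.inr rfl), by rw [one_smul, h2]⟩
      obtain ⟨c, hc1, hc2, hc3⟩ := H.normal_Q hCv hCn hCQ hva
      have := swap_of_not_mem (Q_fix' hc2 hva) (Γ.symm hva) haw hx hvw (Ne.symm h1) (Ne.symm h2) hc2.1 hc3
      exact ⟨c, hcomm c (hc c hc1), w, Or.inr (Or.inr rfl), this.1⟩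
    · rw [Set.mem_singleton_iff] at hp
      subst hp
      obtain ⟨c, hc1, hc2⟩ := normal_trans hCw hCn' hCQ' (Γ.symm haw) hx
      exact ⟨c, hcomm c (hc' c hc1), a, Or.inr (Or.inl rfl), hc2⟩

/-- the centraliser in `G_v` -/
def CC (v : V) (N : Subgroup G) : Subgroup G := stabilizer G v ⊓ Subgroup.centralizer (N : Set G)

omit Γ in
theorem mem_CC {N : Subgroup G} : g ∈ CC v N ↔ g • v = v ∧ ∀ n ∈ N, g * n = n * g := by
  unfold CC
  rw [Subgroup.mem_inf, mem_stabilizer_iff, Subgroup.mem_centralizer_iff]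
  constructor
  · rintro ⟨h1, h2⟩; exact ⟨h1, fun n hn => (h2 n hn).symm⟩
  · rintro ⟨h1, h2⟩; exact ⟨h1, fun n hn => (h2 n hn).symm⟩

omit Γ in
theorem CC_normal {N : Subgroup G} (hN : ∀ g : G, g • v = v → ∀ n ∈ N, g * n * g⁻¹ ∈ N) (hg : g • v = v)
    {n : G} (hn : n ∈ CC v N) : g * n * g⁻¹ ∈ CC v N := by
  obtain ⟨h1, h2⟩ := mem_CC.1 hn
  refine mem_CC.2 ⟨mul_fix (mul_fix hg h1) (inv_fix hg), fun m hm => ?_⟩
  have h3 := hN g⁻¹ (inv_fix hg) m hm
  rw [inv_inv] at h3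
  have h4 := h2 _ h3
  calc g * n * g⁻¹ * m = g * (n * (g⁻¹ * m * g)) * g⁻¹ := by group
    _ = g * ((g⁻¹ * m * g) * n) * g⁻¹ := by rw [h4]
    _ = m * (g * n * g⁻¹) := by group

end Tri

end Cfsg.Agent.H209
end

-- part: H209/TriBTwo
section
/-!
# Central involutions `r p` at the vertices of one type, and the bound 64 if they do not commute at distance 4
-/

set_option autoImplicit false

namespace Cfsg.Agent.H209

open MulAction

/-- three elements commuting pairwise up to a central involution -/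
theorem three_elts {G : Type*} [Group G] {x y w z : G} (sx : x * x = 1) (sy : y * y = 1) (sw : w * w = 1)
    (sz : z * z = 1) (cx : z * x = x * z) (cy : z * y = y * z) (cw : z * w = w * z) (hyx : y * x = z * (x * y))
    (hwx : w * x = z * (x * w)) (hwy : w * y = z * (y * w)) :
    (x * y * w) * (x * y * w) = z ∧ (x * y * w) * x = x * (x * y * w) ∧ (x * y * w) * y = y * (x * y * w) ∧
      (x * y * w) * w = w * (x * y * w) ∧ w * y * x = z * (x * y * w) := by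
  have e1 : (x * y * w) * x = x * (x * y * w) := by
    calc (x * y * w) * x = x * y * (w * x) := by group
      _ = x * y * (z * (x * w)) := by rw [hwx]
      _ = x * (y * z) * x * w := by group
      _ = x * (z * y) * x * w := by rw [cy]
      _ = (x * z) * (y * x) * w := by group
      _ = (z * x) * (z * (x * y)) * w := by rw [hyx, cx]
      _ = z * (x * z) * (x * y) * w := by group
      _ = z * (z * x) * (x * y) * w := by rw [cx]
      _ = (z * z) * (x * (x * y * w)) := by group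
      _ = x * (x * y * w) := by rw [sz, one_mul]
  have e3 : (x * y * w) * w = w * (x * y * w) := by
    calc (x * y * w) * w = (z * z) * (x * y * w * w) := by rw [sz, one_mul]
      _ = z * (z * (x * y)) * w * w := by group
      _ = z * (z * x * y) * w * w := by group
      _ = z * (x * z * y) * w * w := by rw [cx]
      _ = z * x * (z * (y * w)) * w := by group
      _ = z * x * (w * y) * w := by rw [hwy]
      _ = (z * (x * w)) * y * w := by group
      _ = (w * x) * y * w := by rw [hwx]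
      _ = w * (x * y * w) := by group
  have e2 : (x * y * w) * y = y * (x * y * w) := by
    calc (x * y * w) * y = x * y * (w * y) := by group
      _ = x * y * (z * (y * w)) := by rw [hwy]
      _ = x * (y * z) * y * w := by group
      _ = x * (z * y) * y * w := by rw [cy]
      _ = (x * z) * y * y * w := by group
      _ = (z * x) * y * y * w := by rw [cx]
      _ = (z * (x * y)) * y * w := by group
      _ = (y * x) * y * w := by rw [hyx]
      _ = y * (x * y * w) := by group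
  refine ⟨?_, e1, e2, e3, ?_⟩
  · calc (x * y * w) * (x * y * w) = ((x * y * w) * x) * y * w := by group
      _ = (x * (x * y * w)) * y * w := by rw [e1]
      _ = (x * x) * y * (w * y) * w := by group
      _ = y * (z * (y * w)) * w := by rw [sx, one_mul, hwy]
      _ = (y * z) * y * (w * w) := by group
      _ = (z * y) * y := by rw [sw, cy, mul_one]
      _ = z * (y * y) := by group
      _ = z := by rw [sy, mul_one]
  · calc w * y * x = z * (y * w) * x := by rw [hwy]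
      _ = z * y * (w * x) := by group
      _ = z * y * (z * (x * w)) := by rw [hwx]
      _ = z * (y * z) * (x * w) := by group
      _ = z * (z * y) * (x * w) := by rw [cy]
      _ = (z * z) * (y * x) * w := by group
      _ = z * (x * y) * w := by rw [sz, one_mul, hyx]
      _ = z * (x * y * w) := by group

namespace Tri

variable {G V : Type*} [Group G] [MulAction G V] {Γ : Tri G V}
variable {u v w a b c d p q s l m : V} {g h : G}

/-- central involutions at the vertices of type `τ` -/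
structure Pts (Γ : Tri G V) (τ : Bool) (r : V → G) : Prop where
  ne : ∀ p, Γ.ty p = τ → r p ≠ 1
  sq : ∀ p, Γ.ty p = τ → r p * r p = 1
  fixp : ∀ p, Γ.ty p = τ → r p • p = p
  conj : ∀ (p : V) (g : G), Γ.ty p = τ → g * r p * g⁻¹ = r (g • p)
  mul : ∀ l p q s, Γ.A l p → Γ.A l q → Γ.A l s → p ≠ q → p ≠ s → q ≠ s → Γ.ty p = τ → r p * r q = r s

namespace Pts

variable {τ : Bool} {r : V → G} (R : Pts Γ τ r)

include R

theorem inv (hp : Γ.ty p = τ) : (r p)⁻¹ = r p := inv_eq_of_mul_eq_one_left (R.sq p hp)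

theorem comm (hp : Γ.ty p = τ) (hg : g • p = p) : g * r p = r p * g := by
  have := R.conj p g hp
  rw [hg] at this
  calc g * r p = (g * r p * g⁻¹) * g := by group
    _ = r p * g := by rw [this]

theorem inj (hp : Γ.A l p) (hq : Γ.A l q) (hty : Γ.ty p = τ) (h : r p = r q) : p = q := by
  by_contra hne
  obtain ⟨s, hs, hsp, hsq, -⟩ := exists_third hp hq hne
  have h1 := R.mul l p q s hp hq hs hne hsp.symm hsq.symm hty
  rw [← h, R.sq p hty] at h1
  exact R.ne s (by rw [← hty]; exact (ty_eq_of_adj hs hp)) h1.symm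

theorem fix_of_comm (hgl : g • l = l) (hp : Γ.A l p) (hty : Γ.ty p = τ) (h : g * r p = r p * g) : g • p = p := by
  have h1 := R.conj p g hty
  rw [h, mul_inv_cancel_right] at h1
  exact (R.inj hp (A_of_fix hgl hp) hty h1).symm

theorem comm_nbr (hp : Γ.A l p) (hq : Γ.A l q) (hty : Γ.ty p = τ) : r p * r q = r q * r p := by
  by_cases hpq : p = q
  · rw [hpq]
  obtain ⟨s, hs, hsp, hsq, -⟩ := exists_third hp hq hpq
  have h1 := R.mul l p q s hp hq hs hpq hsp.symm hsq.symm hty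
  have h2 := R.mul l q p s hq hp hs (Ne.symm hpq) hsq.symm hsp.symm (by rw [← hty]; exact ty_eq_of_adj hq hp)
  rw [h1, h2]

/-- `r p ∈ Q p` -/
theorem mem_Q_self (hty : Γ.ty p = τ) : r p ∈ Γ.Q p := by
  refine ⟨R.fixp p hty, fun l hl => ?_⟩
  by_contra hne
  have h1 := A_of_fix (R.fixp p hty) hl
  obtain ⟨c, hc, hcl, hcr, -⟩ := exists_third hl h1 (Ne.symm hne)
  obtain ⟨g, hg1, hg2, hg3, -⟩ := Γ.swap hl h1 hc (Ne.symm hne) hcl.symm hcr.symm
  have h2 := R.comm hty hg1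
  have h3 : g • r p • l = r p • l := by
    rw [← mul_smul, h2, mul_smul, hg2]
  rw [hg3] at h3
  exact hcr h3

/-- `r p ∈ Q l` -/
theorem mem_Q (hp : Γ.A l p) (hty : Γ.ty p = τ) : r p ∈ Γ.Q l := by
  have h1 : r p • l = l := (R.mem_Q_self hty).2 l (Γ.symm hp)
  refine ⟨h1, fun q hq => ?_⟩
  exact R.fix_of_comm h1 hq (by rw [← hty]; exact ty_eq_of_adj hq hp) (R.comm_nbr hp hq hty)

/-- the image of a neighbour under an element fixing `l` and `p` -/
theorem conj_cases (hp : Γ.A l p) (hq : Γ.A l q) (hpq : p ≠ q) (hty : Γ.ty p = τ) (hgl : g • l = l)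
    (hgp : g • p = p) : (g • q = q ∧ g * r q = r q * g) ∨ (g • q ≠ q ∧ g * r q * g⁻¹ = r p * r q) := by
  have htyq : Γ.ty q = τ := by rw [← hty]; exact ty_eq_of_adj hq hp
  by_cases h1 : g • q = q
  · exact Or.inl ⟨h1, R.comm htyq h1⟩
  · right
    refine ⟨h1, ?_⟩
    rw [R.conj q g htyq, R.mul l p q (g • q) hp hq (A_of_fix hgl hq) hpq _ (Ne.symm h1) hty]
    intro h2
    apply hpq
    apply MulAction.injective g
    show g • p = g • q
    rw [hgp]; exact h2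

end Pts

section BTwo

variable {τ : Bool} {r : V → G} (H : NP Γ) (R : Pts Γ τ r)
  (hb : ∀ l p q, Γ.A l p → Γ.A l q → Γ.ty p = τ → r q ∈ Γ.Q p)
  (hc : ∀ p l m q s, Γ.A p l → Γ.A p m → l ≠ m → Γ.A l q → q ≠ p → Γ.A m s → s ≠ p → Γ.ty p = τ →
    r q * r s ≠ r s * r q)

include R hb hc

theorem btwo_rel (hl : Γ.A p l) (hm : Γ.A p m) (hlm : l ≠ m) (hq : Γ.A l q) (hqp : q ≠ p) (hs : Γ.A m s)
    (hsp : s ≠ p) (hty : Γ.ty p = τ) : r s * r q = r p * (r q * r s) := by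
  have htyq : Γ.ty q = τ := by rw [← hty]; exact ty_eq_of_adj hq (Γ.symm hl)
  have h1 : r s ∈ Γ.Q p := hb m p s (Γ.symm hm) hs hty
  rcases R.conj_cases (Γ.symm hl) hq hqp.symm hty (h1.2 l hl) h1.1 with ⟨-, h2⟩ | ⟨-, h2⟩
  · exact absurd h2.symm (hc p l m q s hl hm hlm hq hqp hs hsp hty)
  · calc r s * r q = (r s * r q * (r s)⁻¹) * r s := by group
      _ = r p * (r q * r s) := by rw [h2]; group

/-- facts on the element of order four -/
theorem btwo_y {l1 l2 l3 q1 q2 q3 : V} (h1 : Γ.A p l1) (h2 : Γ.A p l2) (h3 : Γ.A p l3) (h12 : l1 ≠ l2)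
    (h13 : l1 ≠ l3) (h23 : l2 ≠ l3) (k1 : Γ.A l1 q1) (k2 : Γ.A l2 q2) (k3 : Γ.A l3 q3) (n1 : q1 ≠ p)
    (n2 : q2 ≠ p) (n3 : q3 ≠ p) (hty : Γ.ty p = τ) :
    (r q1 * r q2 * r q3) * (r q1 * r q2 * r q3) = r p ∧ (r q1 * r q2 * r q3) ∈ Γ.D p ∧
      r q3 * r q2 * r q1 = r p * (r q1 * r q2 * r q3) := by
  have t1 : Γ.ty q1 = τ := by rw [← hty]; exact ty_eq_of_adj k1 (Γ.symm h1)
  have t2 : Γ.ty q2 = τ := by rw [← hty]; exact ty_eq_of_adj k2 (Γ.symm h2)
  have t3 : Γ.ty q3 = τ := by rw [← hty]; exact ty_eq_of_adj k3 (Γ.symm h3)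
  obtain ⟨e1, e2, e3, e4, e5⟩ := three_elts (R.sq q1 t1) (R.sq q2 t2) (R.sq q3 t3) (R.sq p hty)
    (R.comm_nbr (Γ.symm h1) k1 hty) (R.comm_nbr (Γ.symm h2) k2 hty) (R.comm_nbr (Γ.symm h3) k3 hty)
    (btwo_rel R hb hc h1 h2 h12 k1 n1 k2 n2 hty) (btwo_rel R hb hc h1 h3 h13 k1 n1 k3 n3 hty)
    (btwo_rel R hb hc h2 h3 h23 k2 n2 k3 n3 hty)
  have m1 := hb l1 p q1 (Γ.symm h1) k1 hty
  have m2 := hb l2 p q2 (Γ.symm h2) k2 hty
  have m3 := hb l3 p q3 (Γ.symm h3) k3 hty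
  have m : r q1 * r q2 * r q3 ∈ Γ.Q p := mul_mem (mul_mem m1 m2) m3
  refine ⟨e1, ⟨m, fun x hx => ?_⟩, e5⟩
  rcases eq_or h1 h2 h3 hx h12 h13 h23 with rfl | rfl | rfl
  · exact mem_Q_of_two (m.2 _ hx) (Γ.symm hx) k1 n1.symm m.1 (R.fix_of_comm (m.2 _ hx) k1 t1 e2)
  · exact mem_Q_of_two (m.2 _ hx) (Γ.symm hx) k2 n2.symm m.1 (R.fix_of_comm (m.2 _ hx) k2 t2 e3)
  · exact mem_Q_of_two (m.2 _ hx) (Γ.symm hx) k3 n3.symm m.1 (R.fix_of_comm (m.2 _ hx) k3 t3 e4)

/-- Claim 1 -/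
theorem btwo_not_mem {l1 l2 l3 q1 q2 q3 : V} (h1 : Γ.A p l1) (h2 : Γ.A p l2) (h3 : Γ.A p l3) (h12 : l1 ≠ l2)
    (h13 : l1 ≠ l3) (h23 : l2 ≠ l3) (k1 : Γ.A l1 q1) (k2 : Γ.A l2 q2) (k3 : Γ.A l3 q3) (n1 : q1 ≠ p)
    (n2 : q2 ≠ p) (n3 : q3 ≠ p) (hty : Γ.ty p = τ) : (r q1 * r q2 * r q3) ∉ Γ.Q q2 := by
  intro hy
  obtain ⟨e1, e2, -⟩ := btwo_y R hb hc h1 h2 h3 h12 h13 h23 k1 k2 k3 n1 n2 n3 hty
  set y := r q1 * r q2 * r q3 with hydef
  have t2 : Γ.ty q2 = τ := by rw [← hty]; exact ty_eq_of_adj k2 (Γ.symm h2)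
  obtain ⟨l4, h4, h42⟩ := exists_ne (Γ.symm k2)
  obtain ⟨q4, k4, n4⟩ := exists_ne (Γ.symm h4)
  have t4 : Γ.ty q4 = τ := by rw [← t2]; exact ty_eq_of_adj k4 (Γ.symm h4)
  have m4 : r q4 ∈ Γ.Q q2 := hb l4 q2 q4 (Γ.symm h4) k4 t2
  have hmv : r q4 • p ≠ p := by
    intro h5
    exact hc q2 l2 l4 p q4 (Γ.symm k2) h4 h42.symm (Γ.symm h2) n2.symm k4 n4 t2 (R.comm hty h5).symm
  have hcy : r q2 * y = y * r q2 := (R.comm t2 hy.1).symm
  have hc4 : r q2 * r q4 = r q4 * r q2 := R.comm_nbr (Γ.symm h4) k4 t2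
  have key : r q4 * (y * y) * (r q4)⁻¹ = y * y := by
    rcases R.conj_cases (Γ.symm h4) k4 n4.symm t2 (hy.2 l4 h4) hy.1 with ⟨-, h5⟩ | ⟨-, h5⟩
    · calc r q4 * (y * y) * (r q4)⁻¹ = (r q4 * y) * y * (r q4)⁻¹ := by group
        _ = (y * r q4) * y * (r q4)⁻¹ := by rw [h5]
        _ = y * (r q4 * y) * (r q4)⁻¹ := by group
        _ = y * (y * r q4) * (r q4)⁻¹ := by rw [h5]
        _ = y * y := by group
    · have h6 : y * r q4 = r q2 * r q4 * y := by rw [← h5]; group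
      have h7 : r q4 * y = r q2 * y * r q4 := by
        calc r q4 * y = (r q2 * r q2) * r q4 * y := by rw [R.sq q2 t2, one_mul]
          _ = r q2 * (r q2 * r q4 * y) := by group
          _ = r q2 * y * r q4 := by rw [← h6]; group
      calc r q4 * (y * y) * (r q4)⁻¹ = (r q4 * y) * y * (r q4)⁻¹ := by group
        _ = (r q2 * y * r q4) * y * (r q4)⁻¹ := by rw [h7]
        _ = r q2 * y * (r q4 * y) * (r q4)⁻¹ := by group
        _ = r q2 * y * (r q2 * y * r q4) * (r q4)⁻¹ := by rw [h7]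
        _ = r q2 * (y * r q2) * y := by group
        _ = (r q2 * r q2) * y * y := by rw [← hcy]; group
        _ = y * y := by rw [R.sq q2 t2, one_mul]
  rw [e1, R.conj p _ hty] at key
  exact hmv (R.inj (A_of_fix (m4.2 l2 (Γ.symm k2)) (Γ.symm h2)) (Γ.symm h2) (by rw [Γ.ty_smul]; exact hty) key)

omit hb hc in
/-- the centraliser of `D p` -/
theorem cent_of_mod (hty : Γ.ty p = τ) {y : G} (hy : y • p = p) (hyQ : y ∉ Γ.Q p)
    (h : ∀ d ∈ Γ.D p, y * d * y⁻¹ = d ∨ y * d * y⁻¹ = r p * d) : ∃ g ∈ CC p (Γ.D p), g ∉ Γ.Q p := by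
  have hz : r p * r p = 1 := R.sq p hty
  have hzc : ∀ g : G, g • p = p → g * r p = r p * g := fun g hg => R.comm hty hg
  let N : Subgroup G :=
    { carrier := {g | g • p = p ∧ ∀ d ∈ Γ.D p, g * d * g⁻¹ = d ∨ g * d * g⁻¹ = r p * d}
      one_mem' := ⟨one_smul _ _, fun d _ => Or.inl (by group)⟩
      mul_mem' := by
        rintro g k ⟨hg, hg'⟩ ⟨hk, hk'⟩
        refine ⟨mul_fix hg hk, fun d hd => ?_⟩
        have e : g * k * d * (g * k)⁻¹ = g * (k * d * k⁻¹) * g⁻¹ := by group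
        rw [e]
        rcases hk' d hd with h1 | h1
        · rw [h1]; exact hg' d hd
        · rw [h1]
          have e2 : g * (r p * d) * g⁻¹ = r p * (g * d * g⁻¹) := by
            calc g * (r p * d) * g⁻¹ = (g * r p) * d * g⁻¹ := by group
              _ = (r p * g) * d * g⁻¹ := by rw [hzc g hg]
              _ = r p * (g * d * g⁻¹) := by group
          rw [e2]
          rcases hg' d hd with h2 | h2
          · right; rw [h2]
          · left; rw [h2, ← mul_assoc, hz, one_mul]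
      inv_mem' := by
        rintro g ⟨hg, hg'⟩
        refine ⟨inv_fix hg, fun d hd => ?_⟩
        have h1 : g⁻¹ * d * g⁻¹⁻¹ ∈ Γ.D p := conj_mem_D_of_fix hd (inv_fix hg)
        have e : g * (g⁻¹ * d * g⁻¹⁻¹) * g⁻¹ = d := by group
        rcases hg' _ h1 with h2 | h2
        · left; rw [e] at h2; exact h2.symm
        · right
          rw [e] at h2
          calc g⁻¹ * d * g⁻¹⁻¹ = (r p * r p) * (g⁻¹ * d * g⁻¹⁻¹) := by rw [hz, one_mul]
            _ = r p * (r p * (g⁻¹ * d * g⁻¹⁻¹)) := by group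
            _ = r p * d := by rw [← h2] }
  obtain ⟨g, h1, h2, h3⟩ := exists_cent_of_sq (Γ := Γ) (v := p) (N := N) (C := Γ.D p) (fun n hn => hn.1)
    (fun g hg n hn => by
      refine ⟨mul_fix (mul_fix hg hn.1) (inv_fix hg), fun d hd => ?_⟩
      have h1 : g⁻¹ * d * g⁻¹⁻¹ ∈ Γ.D p := conj_mem_D_of_fix hd (inv_fix hg)
      have e : g * n * g⁻¹ * d * (g * n * g⁻¹)⁻¹ = g * (n * (g⁻¹ * d * g⁻¹⁻¹) * n⁻¹) * g⁻¹ := by group
      rw [e]
      rcases hn.2 _ h1 with h2 | h2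
      · left; rw [h2]; group
      · right
        rw [h2]
        calc g * (r p * (g⁻¹ * d * g⁻¹⁻¹)) * g⁻¹ = (g * r p) * g⁻¹ * d := by group
          _ = (r p * g) * g⁻¹ * d := by rw [hzc g hg]
          _ = r p * d := by group)
    ⟨y, ⟨hy, h⟩, hyQ⟩
    (fun n hn d hd => by
      have e : n * n * d = (n * (n * d * n⁻¹) * n⁻¹) * (n * n) := by group
      rw [e]
      rcases hn.2 d hd with h1 | h1
      · rw [h1, h1]
      · rw [h1]
        have e2 : n * (r p * d) * n⁻¹ = r p * (n * d * n⁻¹) := by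
          calc n * (r p * d) * n⁻¹ = (n * r p) * d * n⁻¹ := by group
            _ = (r p * n) * d * n⁻¹ := by rw [hzc n hn.1]
            _ = r p * (n * d * n⁻¹) := by group
        rw [e2, h1, ← mul_assoc (r p), hz, one_mul])
  exact ⟨g, mem_CC.2 ⟨h1, h2⟩, h3⟩

/-- Claims 2 and 3 -/
theorem btwo_claims (hty : Γ.ty p = τ) (hl : Γ.A p l) {p3 : V} (h3 : Γ.A l p3) (hne : p3 ≠ p) :
    (∃ g ∈ CC p (Γ.D p), g ∉ Γ.Q p) ∧
      ∃ m, Γ.A p3 m ∧ ∀ f ∈ Γ.D p, f ∈ Γ.Q p3 → f ∈ Γ.Q m → f ∈ Γ.D p3 := by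
  have ty3 : Γ.ty p3 = τ := by rw [← hty]; exact ty_eq_of_adj h3 (Γ.symm hl)
  obtain ⟨l1, l3, hl1, hl3, nl1, nl3, nl13, -⟩ := exists_others hl
  obtain ⟨q1, k1, n1⟩ := exists_ne (Γ.symm hl1)
  obtain ⟨q3, k3, n3⟩ := exists_ne (Γ.symm hl3)
  obtain ⟨m1, m3, hm1, hm3, nm1, nm3, nm13, -⟩ := exists_others (Γ.symm h3)
  obtain ⟨s1, j1, i1⟩ := exists_ne (Γ.symm hm1)
  obtain ⟨s3, j3, i3⟩ := exists_ne (Γ.symm hm3)
  have ty1 : Γ.ty q1 = τ := by rw [← hty]; exact ty_eq_of_adj k1 (Γ.symm hl1)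
  have tyq3 : Γ.ty q3 = τ := by rw [← hty]; exact ty_eq_of_adj k3 (Γ.symm hl3)
  have tys1 : Γ.ty s1 = τ := by rw [← ty3]; exact ty_eq_of_adj j1 (Γ.symm hm1)
  have tys3 : Γ.ty s3 = τ := by rw [← ty3]; exact ty_eq_of_adj j3 (Γ.symm hm3)
  obtain ⟨a1, a2, a3⟩ := btwo_y R hb hc hl1 hl hl3 nl1 nl13 nl3.symm k1 h3 k3 n1 hne n3 hty
  obtain ⟨b1, b2, b3⟩ := btwo_y R hb hc hm1 (Γ.symm h3) hm3 nm1 nm13 nm3.symm j1 (Γ.symm hl) j3 i1 hne.symm i3 ty3
  have a4 := btwo_not_mem R hb hc hl1 hl hl3 nl1 nl13 nl3.symm k1 h3 k3 n1 hne n3 hty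
  have b4 := btwo_not_mem R hb hc hm1 (Γ.symm h3) hm3 nm1 nm13 nm3.symm j1 (Γ.symm hl) j3 i1 hne.symm i3 ty3
  set y1 := r q1 * r p3 * r q3 with hy1
  set y3 := r s1 * r p * r s3 with hy3
  have hy3l : y3 ∈ Γ.Q l := b2.2 l (Γ.symm h3)
  have hy3p : y3 • p = p := hy3l.2 p (Γ.symm hl)
  have hcz : y3 * r p3 = r p3 * y3 := R.comm ty3 b2.1.1
  have hcp : r p * r p3 = r p3 * r p := R.comm_nbr (Γ.symm hl) h3 hty
  -- the contradiction
  have hcontra : ∀ f ∈ Γ.D p, f * y3 * f⁻¹ = r p3 * y3 → False := by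
    intro f hf he
    have e1 : f * y3 = r p3 * y3 * f := by rw [← he]; group
    have h4 : y3⁻¹ * f * y3⁻¹⁻¹ ∈ Γ.D p := conj_mem_D_of_fix hf (inv_fix hy3p)
    have e2 : y3⁻¹ * f * y3⁻¹⁻¹ = r p3 * f := by
      calc y3⁻¹ * f * y3⁻¹⁻¹ = y3⁻¹ * (f * y3) := by group
        _ = y3⁻¹ * (r p3 * y3 * f) := by rw [e1]
        _ = y3⁻¹ * (r p3 * y3) * f := by group
        _ = y3⁻¹ * (y3 * r p3) * f := by rw [hcz]
        _ = r p3 * f := by group
    rw [e2] at h4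
    have h5 : r p3 ∈ Γ.D p := (mul_mem_cancel_right hf).1 h4
    have h6 : r p3 • q1 = q1 := (h5.2 l1 hl1).2 q1 k1
    exact hc p l1 l q1 p3 hl1 hl nl1 k1 n1 h3 hne hty (R.comm ty1 h6).symm
  -- claim 2
  have hclaim : ∀ f ∈ Γ.D p, f ∈ Γ.Q p3 → f * y3 = y3 * f ∧ (f ∈ Γ.Q m1 → f ∈ Γ.D p3) := by
    intro f hf hf3
    have c0 : f * r p = r p * f := R.comm hty hf.1.1
    have c1 := R.conj_cases (Γ.symm hm1) j1 i1.symm ty3 (hf3.2 m1 hm1) hf3.1
    have c3 := R.conj_cases (Γ.symm hm3) j3 i3.symm ty3 (hf3.2 m3 hm3) hf3.1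
    have cz1 : r s1 * r p3 = r p3 * r s1 := R.comm_nbr j1 (Γ.symm hm1) tys1
    have cz3 : r s3 * r p3 = r p3 * r s3 := R.comm_nbr j3 (Γ.symm hm3) tys3
    have e0 : f * y3 * f⁻¹ = (f * r s1 * f⁻¹) * (f * r p * f⁻¹) * (f * r s3 * f⁻¹) := by rw [hy3]; group
    have e0' : f * r p * f⁻¹ = r p := by rw [c0, mul_inv_cancel_right]
    rw [e0'] at e0
    rcases c1 with ⟨f1, c1⟩ | ⟨f1, c1⟩ <;> rcases c3 with ⟨f3, c3⟩ | ⟨f3, c3⟩
    · constructor
      · calc f * y3 = (f * r s1) * r p * r s3 := by rw [hy3]; group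
          _ = r s1 * (f * r p) * r s3 := by rw [c1]; group
          _ = r s1 * r p * (f * r s3) := by rw [c0]; group
          _ = y3 * f := by rw [c3, hy3]; group
      · intro _
        refine ⟨hf3, fun x hx => ?_⟩
        rcases eq_or hm1 (Γ.symm h3) hm3 hx nm1 nm13 nm3.symm with rfl | rfl | rfl
        · exact mem_Q_of_two (hf3.2 _ hx) (Γ.symm hx) j1 i1.symm hf3.1 f1
        · exact hf.2 _ hl
        · exact mem_Q_of_two (hf3.2 _ hx) (Γ.symm hx) j3 i3.symm hf3.1 f3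
    · exfalso
      apply hcontra f hf
      have c1' : f * r s1 * f⁻¹ = r s1 := by rw [c1, mul_inv_cancel_right]
      rw [e0, c1', c3]
      calc r s1 * r p * (r p3 * r s3) = r s1 * (r p * r p3) * r s3 := by group
        _ = (r s1 * r p3) * r p * r s3 := by rw [hcp]; group
        _ = r p3 * y3 := by rw [cz1, hy3]; group
    · exfalso
      apply hcontra f hf
      have c3' : f * r s3 * f⁻¹ = r s3 := by rw [c3, mul_inv_cancel_right]
      rw [e0, c3', c1, hy3]; group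
    · constructor
      · have e1 : f * y3 * f⁻¹ = y3 := by
          rw [e0, c1, c3]
          calc r p3 * r s1 * r p * (r p3 * r s3) = r p3 * r s1 * (r p * r p3) * r s3 := by group
            _ = r p3 * (r s1 * r p3) * r p * r s3 := by rw [hcp]; group
            _ = (r p3 * r p3) * r s1 * r p * r s3 := by rw [cz1]; group
            _ = y3 := by rw [R.sq p3 ty3, one_mul]
        calc f * y3 = (f * y3 * f⁻¹) * f := by group
          _ = y3 * f := by rw [e1]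
      · intro h4
        exact absurd (h4.2 s1 j1) f1
  refine ⟨?_, m1, hm1, fun f hf hf3 => (hclaim f hf hf3).2⟩
  -- claim 3
  have hcy : y3 * y1 * y3⁻¹ = y1 ∨ y3 * y1 * y3⁻¹ = r p * y1 := by
    have hsw := swap_of_not_mem hy3p hl hl1 hl3 nl1.symm nl3.symm nl13 hy3l.1 b4
    have hp3 : y3 • p3 = p3 := b2.1.1
    have e0 : y3 * y1 * y3⁻¹ = r (y3 • q1) * r p3 * r (y3 • q3) := by
      have e1 := R.conj q1 y3 ty1
      have e2 := R.conj p3 y3 ty3
      have e3 := R.conj q3 y3 tyq3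
      rw [hp3] at e2
      calc y3 * y1 * y3⁻¹ = (y3 * r q1 * y3⁻¹) * (y3 * r p3 * y3⁻¹) * (y3 * r q3 * y3⁻¹) := by rw [hy1]; group
        _ = _ := by rw [e1, e2, e3]
    have A1 : Γ.A l3 (y3 • q1) := by
      have := Γ.smul y3 k1
      rwa [hsw.1] at this
    have A3 : Γ.A l1 (y3 • q3) := by
      have := Γ.smul y3 k3
      rwa [hsw.2] at this
    have N1 : p ≠ y3 • q1 := by
      intro h; exact n1 (MulAction.injective y3 (h.symm.trans hy3p.symm))
    have N3 : p ≠ y3 • q3 := by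
      intro h; exact n3 (MulAction.injective y3 (h.symm.trans hy3p.symm))
    have B1 : r (y3 • q1) = r q3 ∨ r (y3 • q1) = r p * r q3 := by
      by_cases h : q3 = y3 • q1
      · left; rw [h]
      · right; exact (R.mul l3 p q3 _ (Γ.symm hl3) k3 A1 n3.symm N1 h hty).symm
    have B3 : r (y3 • q3) = r q1 ∨ r (y3 • q3) = r p * r q1 := by
      by_cases h : q1 = y3 • q3
      · left; rw [h]
      · right; exact (R.mul l1 p q1 _ (Γ.symm hl1) k1 A3 n1.symm N3 h hty).symm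
    have cq3 : r q3 * r p = r p * r q3 := R.comm_nbr k3 (Γ.symm hl3) tyq3
    have hzz : r p * r p = 1 := R.sq p hty
    rw [e0]
    rcases B1 with B1 | B1 <;> rcases B3 with B3 | B3
    · right; rw [B1, B3, a3]
    · left
      rw [B1, B3]
      calc r q3 * r p3 * (r p * r q1) = r q3 * (r p3 * r p) * r q1 := by group
        _ = (r q3 * r p) * r p3 * r q1 := by rw [← hcp]; group
        _ = r p * (r q3 * r p3 * r q1) := by rw [cq3]; group
        _ = (r p * r p) * y1 := by rw [a3]; group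
        _ = y1 := by rw [hzz, one_mul]
    · left
      rw [B1, B3]
      calc r p * r q3 * r p3 * r q1 = r p * (r q3 * r p3 * r q1) := by group
        _ = (r p * r p) * y1 := by rw [a3]; group
        _ = y1 := by rw [hzz, one_mul]
    · right
      rw [B1, B3]
      calc r p * r q3 * r p3 * (r p * r q1) = r p * r q3 * (r p3 * r p) * r q1 := by group
        _ = r p * (r q3 * r p) * r p3 * r q1 := by rw [← hcp]; group
        _ = (r p * r p) * (r q3 * r p3 * r q1) := by rw [cq3]; group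
        _ = r p * y1 := by rw [hzz, one_mul, a3]
  apply cent_of_mod R hty hy3p b4
  intro d hd
  by_cases hd3 : d ∈ Γ.Q p3
  · left
    have := (hclaim d hd hd3).1
    calc y3 * d * y3⁻¹ = (d * y3) * y3⁻¹ := by rw [this]
      _ = d := by group
  · have h4 : y1 * d ∈ Γ.Q p3 :=
      mul_mem_Q (Γ.symm h3) (Q_le_T' h3 (a2.2 l hl)) (Q_le_T' h3 (hd.2 l hl)) a4 hd3
    have h5 := (hclaim (y1 * d) (mul_mem a2 hd) h4).1
    have e1 : y3 * d * y3⁻¹ = (y3 * y1 * y3⁻¹)⁻¹ * (y1 * d) := by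
      calc y3 * d * y3⁻¹ = (y3 * y1 * y3⁻¹)⁻¹ * (y3 * (y1 * d)) * y3⁻¹ := by group
        _ = (y3 * y1 * y3⁻¹)⁻¹ * (y1 * d * y3) * y3⁻¹ := by rw [h5]
        _ = _ := by group
    rw [e1]
    rcases hcy with h6 | h6
    · left; rw [h6]; group
    · right
      rw [h6, mul_inv_rev, R.inv hty]
      have h7 : y1 * r p = r p * y1 := R.comm hty a2.1.1
      calc y1⁻¹ * r p * (y1 * d) = y1⁻¹ * (r p * y1) * d := by group
        _ = y1⁻¹ * (y1 * r p) * d := by rw [h7]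
        _ = r p * d := by group

include H

/-- the bound in the case of noncommuting four-groups at distance two -/
theorem btwo_card (hvw : Γ.A v w) : Nat.card (T v w : Subgroup G) ≤ 64 := by
  obtain ⟨p, hp⟩ : ∃ p, Γ.ty p = τ := by
    by_cases h : Γ.ty v = τ
    · exact ⟨v, h⟩
    · refine ⟨w, ?_⟩
      rw [Γ.ty_adj hvw]
      cases hv : Γ.ty v <;> cases τ <;> simp_all
  obtain ⟨l, hl⟩ := ex_adj Γ p
  obtain ⟨p3, h3, hne⟩ := exists_ne (Γ.symm hl)
  have ty3 : Γ.ty p3 = τ := by rw [← hp]; exact ty_eq_of_adj h3 (Γ.symm hl)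
  obtain ⟨hC, m, hm, hmf⟩ := btwo_claims R hb hc hp hl h3 hne
  obtain ⟨hC3, -⟩ := btwo_claims R hb hc ty3 (Γ.symm h3) (Γ.symm hl) hne.symm
  rw [card_T_eq hvw hl]
  let N : Subgroup G := Γ.D p ⊓ Γ.D p3
  have hN : ∀ n ∈ N, n = 1 := by
    apply two_bot H hl h3 hne.symm N (CC p (Γ.D p)) (CC p3 (Γ.D p3))
    · intro n hn
      exact ⟨hn.1.1.1, (hn.1.2 l hl).1, hn.2.1.1⟩
    · intro c hc; exact (mem_CC.1 hc).1
    · intro g hg c hc
      exact CC_normal (fun g hg n hn => conj_mem_D_of_fix hn hg) hg hc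
    · exact hC
    · intro c hc; exact (mem_CC.1 hc).1
    · intro g hg c hc
      exact CC_normal (fun g hg n hn => conj_mem_D_of_fix hn hg) hg hc
    · exact hC3
    · intro c hc n hn; exact (mem_CC.1 hc).2 n hn.1
    · intro c hc n hn; exact (mem_CC.1 hc).2 n hn.2
  let F : Subgroup G := Γ.Q p3 ⊓ Γ.D p
  have c0 : Nat.card ↥(Γ.Q m ⊓ F) ≤ 1 := by
    apply card_le_one_of_forall
    intro x hx
    exact hN x ⟨hx.2.2, hmf x hx.2.2 hx.2.1 hx.1⟩
  have f1 : ∀ L : Subgroup G, L ≤ Γ.Q p → Finite L := fun L hL => finSub Γ p fun x hx => (hL hx).1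
  have half1 : Half (Γ.Q m ⊓ F) F := by
    refine (half_Q' (Γ.symm hm)).inf_left (fun n hn => ?_)
    exact Q_le_T hm hn.1
  have half2 : Half F (Γ.D p) := (half_Q' (Γ.symm h3)).inf_left (fun n hn => Q_le_T h3 (hn.2 l hl))
  have c1 := card_le_two_of_forall _ half1 (f1 _ (fun x hx => hx.2.1)) c0
  have c2 := card_le_two_of_forall _ half2 (f1 _ (fun x hx => hx.1)) c1
  -- `Q p` over `D p`
  obtain ⟨a, b, ha, hb', hal, hbl, hab, hall⟩ := exists_others hl
  let E1 : Subgroup G := Γ.Q l ⊓ Γ.Q p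
  let E2 : Subgroup G := Γ.Q a ⊓ E1
  let E3 : Subgroup G := Γ.Q b ⊓ E2
  have c3 : Nat.card E3 ≤ 2 * (2 * 1) := by
    have hle : E3 ≤ Γ.D p := by
      intro x hx
      refine ⟨hx.2.2.2, fun y hy => ?_⟩
      rcases hall y hy with rfl | rfl | rfl
      · exact hx.2.2.1
      · exact hx.2.1
      · exact hx.1
    have : Finite (Γ.D p) := f1 _ (fun x hx => hx.1)
    exact (Nat.card_le_card_of_injective (Subgroup.inclusion hle) (Subgroup.inclusion_injective _)).trans c2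
  have e1 : Half E1 (Γ.Q p) := (half_Q' (Γ.symm hl)).inf_left (Q_le_T hl)
  have e2 : Half E2 E1 := (half_Q' (Γ.symm ha)).inf_left (fun n hn => Q_le_T ha hn.2)
  have e3 : Half E3 E2 := (half_Q' (Γ.symm hb')).inf_left (fun n hn => Q_le_T hb' hn.2.2)
  have c4 := card_le_two_of_forall _ e3 (f1 _ (fun x hx => hx.2.2)) c3
  have c5 := card_le_two_of_forall _ e2 (f1 _ (fun x hx => hx.2)) c4
  have c6 := card_le_two_of_forall _ e1 (f1 _ le_rfl) c5
  have c7 := card_T_le hl c6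
  omega

end BTwo

end Tri

end Cfsg.Agent.H209
end

-- part: H209/TriCA
section
/-!
# The case where the involutions of `Z(T)` are not central in the vertex stabilizers (Case A)
-/

set_option autoImplicit false

namespace Cfsg.Agent.H209

open MulAction

namespace Tri

variable {G V : Type*} [Group G] [MulAction G V] {Γ : Tri G V}
variable {u v w a b c d : V} {g h : G}

omit Γ in
theorem conj_mem_OZ_T {x : G} (hx : x ∈ OZ (T v a : Subgroup G)) (h : G) :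
    h * x * h⁻¹ ∈ OZ (T (h • v) (h • a) : Subgroup G) := by
  obtain ⟨h1, h2, h3⟩ := hx
  refine ⟨?_, ?_, fun y hy => ?_⟩
  · rw [mem_T_smul]
    have : h⁻¹ * (h * x * h⁻¹) * h = x := by group
    rw [this]; exact h1
  · calc h * x * h⁻¹ * (h * x * h⁻¹) = h * (x * x) * h⁻¹ := by group
      _ = 1 := by rw [h2]; group
  · have h4 := h3 _ (mem_T_smul.1 hy)
    calc h * x * h⁻¹ * y = h * (x * (h⁻¹ * y * h)) * h⁻¹ := by group
      _ = h * ((h⁻¹ * y * h) * x) * h⁻¹ := by rw [h4]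
      _ = y * (h * x * h⁻¹) := by group

/-- `ZZ v = ⟨Ω₁ Z(T v a) | a ~ v⟩` -/
def ZZ (Γ : Tri G V) (v : V) : Subgroup G := Subgroup.closure {x | ∃ a, Γ.A v a ∧ x ∈ OZ (T v a : Subgroup G)}

theorem OZ_le_ZZ (ha : Γ.A v a) : OZ (T v a : Subgroup G) ≤ Γ.ZZ v := fun _ hx => Subgroup.subset_closure ⟨a, ha, hx⟩

theorem conj_mem_ZZ {x : G} (hx : x ∈ Γ.ZZ v) (h : G) : h * x * h⁻¹ ∈ Γ.ZZ (h • v) := by
  refine conj_mem_closure h ?_ hx
  rintro y ⟨a, ha, hy⟩
  exact Subgroup.subset_closure ⟨h • a, Γ.smul h ha, conj_mem_OZ_T hy h⟩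

theorem conj_mem_ZZ_of_eq {x : G} (hx : x ∈ Γ.ZZ v) (hh : h • v = w) : h * x * h⁻¹ ∈ Γ.ZZ w := by
  have := conj_mem_ZZ hx h
  rwa [hh] at this

theorem ZZ_comm {x d : G} (hx : x ∈ Γ.ZZ v) (hd : d ∈ Γ.Q v) : x * d = d * x := by
  unfold ZZ at hx
  induction hx using Subgroup.closure_induction with
  | mem x hx =>
    obtain ⟨a, ha, hx⟩ := hx
    exact hx.2.2 d (Q_le_T ha hd)
  | one => simp
  | mul x y _ _ h1 h2 => rw [mul_assoc, h2, ← mul_assoc, h1, mul_assoc]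
  | inv x _ h1 =>
    calc x⁻¹ * d = x⁻¹ * (d * x) * x⁻¹ := by group
      _ = x⁻¹ * (x * d) * x⁻¹ := by rw [h1]
      _ = d * x⁻¹ := by group

/-- `r` is the generator of `[ZZ v, T v a]` -/
def IsRA (Γ : Tri G V) (v a : V) (r : G) : Prop :=
  r ≠ 1 ∧ r ∈ Γ.ZZ v ∧ (∀ x ∈ Γ.ZZ v, ∀ y ∈ (T v a : Subgroup G), y * x * y⁻¹ = x ∨ y * x * y⁻¹ = x * r) ∧
    ∃ x ∈ Γ.ZZ v, ∃ y ∈ (T v a : Subgroup G), y * x * y⁻¹ = x * r

theorem IsRA.unique {r r' : G} (h1 : IsRA Γ v a r) (h2 : IsRA Γ v a r') : r = r' := by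
  obtain ⟨x, hx, y, hy, e⟩ := h2.2.2.2
  rcases h1.2.2.1 x hx y hy with h | h
  · rw [h] at e
    exact absurd (mul_eq_left.1 e.symm) h2.1
  · rw [h] at e
    exact mul_left_cancel e

theorem IsRA.conj {r : G} (h : IsRA Γ v a r) (g : G) : IsRA Γ (g • v) (g • a) (g * r * g⁻¹) := by
  obtain ⟨h1, h2, h3, x, hx, y, hy, e⟩ := h
  refine ⟨?_, conj_mem_ZZ h2 g, ?_, g * x * g⁻¹, conj_mem_ZZ hx g, g * y * g⁻¹, ?_, ?_⟩
  · intro h4
    apply h1
    have : r = g⁻¹ * (g * r * g⁻¹) * g := by group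
    rw [this, h4]; group
  · intro x hx y hy
    have h5 : g⁻¹ * x * g ∈ Γ.ZZ v := by
      have := conj_mem_ZZ hx g⁻¹
      rwa [inv_inv, inv_smul_smul] at this
    rcases h3 _ h5 _ (mem_T_smul.1 hy) with h6 | h6
    · left
      calc y * x * y⁻¹ = g * ((g⁻¹ * y * g) * (g⁻¹ * x * g) * (g⁻¹ * y * g)⁻¹) * g⁻¹ := by group
        _ = x := by rw [h6]; group
    · right
      calc y * x * y⁻¹ = g * ((g⁻¹ * y * g) * (g⁻¹ * x * g) * (g⁻¹ * y * g)⁻¹) * g⁻¹ := by group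
        _ = x * (g * r * g⁻¹) := by rw [h6]; group
  · rw [mem_T_smul]
    have : g⁻¹ * (g * y * g⁻¹) * g = y := by group
    rw [this]; exact hy
  · calc g * y * g⁻¹ * (g * x * g⁻¹) * (g * y * g⁻¹)⁻¹ = g * (y * x * y⁻¹) * g⁻¹ := by group
      _ = g * x * g⁻¹ * (g * r * g⁻¹) := by rw [e]; group

/-- the hypotheses of Case A -/
structure CA (Γ : Tri G V) : Prop where
  np : NP Γ
  cen : ∀ v, ¬ (∀ a, Γ.A v a → ∀ z ∈ OZ (T v a : Subgroup G), ∀ g : G, g • v = v → g * z = z * g)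

namespace CA

variable (H : CA Γ)

include H

theorem OZ_le_Q (ha : Γ.A v a) : OZ (T v a : Subgroup G) ≤ Γ.Q v := by
  intro x hx
  apply H.np.cent v x (mem_T.1 hx.1).1
  intro d hd
  exact hx.2.2 d (Q_le_T ha hd)

theorem ZZ_le_Q : Γ.ZZ v ≤ Γ.Q v := by
  unfold ZZ
  rw [Subgroup.closure_le]
  rintro x ⟨a, ha, hx⟩
  exact H.OZ_le_Q ha hx

theorem ZZ_sq {x : G} (hx : x ∈ Γ.ZZ v) : x * x = 1 := by
  have hx' := hx
  unfold ZZ at hx
  induction hx using Subgroup.closure_induction with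
  | mem x hx =>
    obtain ⟨a, ha, hx⟩ := hx
    exact hx.2.1
  | one => simp
  | mul x y hx hy h1 h2 =>
    have h3 := ZZ_comm hy (H.ZZ_le_Q hx)
    calc x * y * (x * y) = x * (y * x) * y := by group
      _ = (x * x) * (y * y) := by rw [h3]; group
      _ = 1 := by rw [h1 hx, h2 hy, one_mul]
  | inv x hx h1 =>
    have h1' := h1 hx
    rw [← mul_inv_rev, h1', inv_one]

theorem ZZ_inv {x : G} (hx : x ∈ Γ.ZZ v) : x⁻¹ = x := inv_eq_of_mul_eq_one_left (H.ZZ_sq hx)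

/-- the centraliser of `ZZ v` -/
theorem mem_Q_of_comm (hg : g • v = v) (hc : ∀ x ∈ Γ.ZZ v, g * x = x * g) : g ∈ Γ.Q v := by
  by_contra hgQ
  apply H.cen v
  intro a ha z hz k hk
  obtain ⟨c, hc1, hc2, hc3⟩ := cent_trans (N := Γ.ZZ v) (fun k hk n hn => conj_mem_ZZ_of_eq hn hk)
    ⟨g, hg, hc, hgQ⟩ ha (A_of_fix hk ha)
  have h1 : c⁻¹ * k ∈ (T v a : Subgroup G) := by
    rw [mem_T]
    refine ⟨mul_fix (inv_fix hc1) hk, ?_⟩
    rw [mul_smul, ← hc3, inv_smul_smul]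
  have h2 := hz.2.2 _ h1
  have h3 := hc2 z (OZ_le_ZZ ha hz)
  calc k * z = c * ((c⁻¹ * k) * z) := by group
    _ = c * (z * (c⁻¹ * k)) := by rw [h2]
    _ = (c * z) * c⁻¹ * k := by group
    _ = (z * c) * c⁻¹ * k := by rw [h3]
    _ = z * k := by group

omit H in
theorem conj_r {r y : G} (h1 : IsRA Γ v a r) (hrr : r * r = 1) (hy : y ∈ (T v a : Subgroup G)) : y * r * y⁻¹ = r := by
  rcases h1.2.2.1 r h1.2.1 y hy with h | h
  · exact h
  · rw [hrr] at h
    exact absurd (by calc r = y⁻¹ * (y * r * y⁻¹) * y := by group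
                       _ = 1 := by rw [h]; group) h1.1

/-- `[ZZ v, T v a] ≠ [ZZ v, T v b]` -/
theorem IsRA_ne (ha : Γ.A v a) (hb : Γ.A v b) (hab : a ≠ b) {r : G} (h1 : IsRA Γ v a r)
    (h2 : IsRA Γ v b r) : False := by
  obtain ⟨y, hy, hyv⟩ := exists_T_not_mem_Q ha
  obtain ⟨z, hz, hzv⟩ := exists_T_not_mem_Q hb
  obtain ⟨c, hc, hca, hcb, -⟩ := exists_third ha hb hab
  obtain ⟨hy1, hy2⟩ := mem_T.1 hy
  obtain ⟨hz1, hz2⟩ := mem_T.1 hz
  have ey := swap_of_not_mem hy1 ha hb hc hab hca.symm hcb.symm hy2 hyv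
  have ez := swap_of_not_mem hz1 hb ha hc hab.symm hcb.symm hca.symm hz2 hzv
  have hrr : r * r = 1 := H.ZZ_sq h1.2.1
  have cy : y * r * y⁻¹ = r := conj_r h1 hrr hy
  have cz : z * r * z⁻¹ = r := conj_r h2 hrr hz
  -- `(y z)` acts by `x ↦ x` or `x r`
  have h3 : ∀ x ∈ Γ.ZZ v, (y * z) * x * (y * z)⁻¹ = x ∨ (y * z) * x * (y * z)⁻¹ = x * r := by
    intro x hx
    have e : (y * z) * x * (y * z)⁻¹ = y * (z * x * z⁻¹) * y⁻¹ := by group
    rw [e]
    rcases h2.2.2.1 x hx z hz with h | h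
    · rw [h]; exact h1.2.2.1 x hx y hy
    · rw [h]
      have e2 : y * (x * r) * y⁻¹ = (y * x * y⁻¹) * (y * r * y⁻¹) := by group
      rw [e2, cy]
      rcases h1.2.2.1 x hx y hy with h' | h'
      · right; rw [h']
      · left; rw [h', mul_assoc, hrr, mul_one]
  have h3r : (y * z) * r * (y * z)⁻¹ = r := by
    calc (y * z) * r * (y * z)⁻¹ = y * (z * r * z⁻¹) * y⁻¹ := by group
      _ = r := by rw [cz, cy]
  have h4 : ∀ x ∈ Γ.ZZ v, (y * z * (y * z)) * x = x * (y * z * (y * z)) := by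
    intro x hx
    have e : (y * z * (y * z)) * x * (y * z * (y * z))⁻¹ = (y * z) * ((y * z) * x * (y * z)⁻¹) * (y * z)⁻¹ := by group
    have h5 : (y * z * (y * z)) * x * (y * z * (y * z))⁻¹ = x := by
      rw [e]
      rcases h3 x hx with h | h
      · rw [h, h]
      · rw [h]
        have e2 : (y * z) * (x * r) * (y * z)⁻¹ = ((y * z) * x * (y * z)⁻¹) * ((y * z) * r * (y * z)⁻¹) := by group
        rw [e2, h3r, h, mul_assoc, hrr, mul_one]
    calc (y * z * (y * z)) * x = ((y * z * (y * z)) * x * (y * z * (y * z))⁻¹) * (y * z * (y * z)) := by group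
      _ = x * (y * z * (y * z)) := by rw [h5]
  have h5 := H.mem_Q_of_comm (mul_fix (mul_fix hy1 hz1) (mul_fix hy1 hz1)) h4
  have h6 := Q_fix' h5 ha
  rw [mul_smul, mul_smul, mul_smul, ez.1, ey.2, hz2, ey.1] at h6
  exact hca h6

theorem isRA_of (ha : Γ.A v a) {x0 y0 : G} (hx0 : x0 ∈ Γ.ZZ v) (hy0 : y0 ∈ (T v a : Subgroup G))
    (hne : y0 * x0 ≠ x0 * y0) (hh : ∀ x ∈ Γ.ZZ v, y0 * x = x * y0 ∨ y0 * (x0 * x) = (x0 * x) * y0) :
    IsRA Γ v a (x0⁻¹ * (y0 * x0 * y0⁻¹)) := by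
  have hyv : y0 • v = v := (mem_T.1 hy0).1
  have hcx : y0 * x0 * y0⁻¹ ∈ Γ.ZZ v := conj_mem_ZZ_of_eq hx0 hyv
  have hr : x0⁻¹ * (y0 * x0 * y0⁻¹) ∈ Γ.ZZ v := mul_mem (inv_mem hx0) hcx
  have hy0D : y0 ∉ Γ.Q v := fun h => hne (ZZ_comm hx0 h).symm
  refine ⟨?_, hr, ?_, x0, hx0, y0, hy0, by group⟩
  · intro h1
    apply hne
    calc y0 * x0 = x0 * (x0⁻¹ * (y0 * x0 * y0⁻¹)) * y0 := by group
      _ = x0 * y0 := by rw [h1, mul_one]
  · intro x hx y hy
    have hsq : y0 * y0 ∈ Γ.Q v := mul_mem_Q ha hy0 hy0 hy0D hy0D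
    by_cases hyD : y ∈ Γ.Q v
    · left
      rw [← ZZ_comm hx hyD, mul_inv_cancel_right]
    · have h1 : y0 * y ∈ Γ.Q v := mul_mem_Q ha hy0 hy hy0D hyD
      have h2 : y * x * y⁻¹ = y0 * x * y0⁻¹ := by
        have e1 := ZZ_comm hx h1
        have e2 := ZZ_comm hx hsq
        have e3 : y * x * y⁻¹ = y0⁻¹ * ((y0 * y) * x) * (y0 * y)⁻¹ * y0 := by group
        have e4 : y0 * x * y0⁻¹ = y0⁻¹ * ((y0 * y0) * x) * (y0 * y0)⁻¹ * y0 := by group
        rw [e3, e4, ← e1, ← e2]; group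
      rw [h2]
      rcases hh x hx with h3 | h3
      · left; rw [h3, mul_inv_cancel_right]
      · right
        have e1 : (y0 * x0 * y0⁻¹) * (y0 * x * y0⁻¹) = x0 * x := by
          calc (y0 * x0 * y0⁻¹) * (y0 * x * y0⁻¹) = y0 * (x0 * x) * y0⁻¹ := by group
            _ = x0 * x := by rw [h3, mul_inv_cancel_right]
        have e2 : y0 * x * y0⁻¹ = (x0⁻¹ * (y0 * x0 * y0⁻¹))⁻¹ * x := by
          calc y0 * x * y0⁻¹ = (y0 * x0 * y0⁻¹)⁻¹ * ((y0 * x0 * y0⁻¹) * (y0 * x * y0⁻¹)) := by group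
            _ = (y0 * x0 * y0⁻¹)⁻¹ * (x0 * x) := by rw [e1]
            _ = _ := by group
        rw [e2, H.ZZ_inv hr]
        exact ZZ_comm hr (H.ZZ_le_Q hx)

variable {n : ℤ} (hmin : ∀ (p : ℤ → V) (i j : ℤ), i ≤ j → Γ.Arc p i j → j - i < n → Γ.ZZ (p i) ≤ Γ.Q (p j))

include hmin

/-- commutators in a critical pair -/
theorem crit_comm {p : ℤ → V} {i j : ℤ} (hij : j = i + n) (hn : 1 ≤ n) (hp : Γ.Arc p i j)
    (hc : ¬ Γ.ZZ (p i) ≤ Γ.Q (p j)) :
    ∃ r y, IsRA Γ (p i) (p (i + 1)) r ∧ IsRA Γ (p j) (p (j - 1)) r ∧ y ∈ Γ.ZZ (p j) ∧ y ∉ Γ.Q (p i) ∧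
      y ∈ Γ.Q (p (i + 1)) := by
  obtain ⟨x0, hx0, hx0Q⟩ := Set.not_subset.1 hc
  have hadj : Γ.A (p i) (p (i + 1)) := hp.adj le_rfl (by omega)
  have hadj' : Γ.A (p j) (p (j - 1)) := hp.adj' (by omega) le_rfl
  have h1 : Γ.ZZ (p i) ≤ Γ.Q (p (j - 1)) :=
    hmin p i (j - 1) (by omega) (hp.sub le_rfl (by omega)) (by omega)
  have h2 : Γ.ZZ (p j) ≤ Γ.Q (p (i + 1)) := by
    have := hmin (fun k => p (i + j - k)) i (j - 1) (by omega)
      (((hp.rev (i + j)).sub (by omega) (by omega))) (by omega)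
    have e1 : i + j - i = j := by ring
    have e2 : i + j - (j - 1) = i + 1 := by ring
    simp only [e1, e2] at this
    exact this
  have hx0T : x0 ∈ (T (p j) (p (j - 1)) : Subgroup G) := Q_le_T' (Γ.symm hadj') (h1 hx0)
  obtain ⟨y0, hy0, hne⟩ : ∃ y ∈ Γ.ZZ (p j), x0 * y ≠ y * x0 := by
    by_contra hcon
    push Not at hcon
    exact hx0Q (H.mem_Q_of_comm (mem_T.1 hx0T).1 hcon)
  have hy0T : y0 ∈ (T (p i) (p (i + 1)) : Subgroup G) := Q_le_T' (Γ.symm hadj) (h2 hy0)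
  have hy0D : y0 ∉ Γ.Q (p i) := fun h => hne (ZZ_comm hx0 h)
  have r1 : IsRA Γ (p i) (p (i + 1)) (x0⁻¹ * (y0 * x0 * y0⁻¹)) := by
    apply H.isRA_of hadj hx0 hy0T (Ne.symm hne)
    intro x hx
    by_cases hxD : x ∈ Γ.Q (p j)
    · left; exact ZZ_comm hy0 hxD
    · right
      exact ZZ_comm hy0 (mul_mem_Q hadj' hx0T (Q_le_T' (Γ.symm hadj') (h1 hx)) hx0Q hxD)
  have r2 : IsRA Γ (p j) (p (j - 1)) (y0⁻¹ * (x0 * y0 * x0⁻¹)) := by
    apply H.isRA_of hadj' hy0 hx0T hne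
    intro x hx
    by_cases hxD : x ∈ Γ.Q (p i)
    · left; exact ZZ_comm hx0 hxD
    · right
      exact ZZ_comm hx0 (mul_mem_Q hadj hy0T (Q_le_T' (Γ.symm hadj) (by
        have := hmin (fun k => p (i + j - k)) i (j - 1) (by omega)
          (((hp.rev (i + j)).sub (by omega) (by omega))) (by omega)
        have e1 : i + j - i = j := by ring
        have e2 : i + j - (j - 1) = i + 1 := by ring
        simp only [e1, e2] at this
        exact this hx)) hy0D hxD)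
  have e : y0⁻¹ * (x0 * y0 * x0⁻¹) = x0⁻¹ * (y0 * x0 * y0⁻¹) := by
    have e1 : x0⁻¹ = x0 := H.ZZ_inv hx0
    have e2 : y0⁻¹ = y0 := H.ZZ_inv hy0
    have e3 := H.ZZ_inv r1.2.1
    rw [← e3, mul_inv_rev, mul_inv_rev, mul_inv_rev, inv_inv, inv_inv, e1, e2]
    group
  rw [e] at r2
  exact ⟨_, y0, r1, r2, hy0, hy0D, h2 hy0⟩

/-- the reverse of a critical arc is critical -/
theorem crit_rev {p : ℤ → V} {i j : ℤ} (hij : j = i + n) (hn : 1 ≤ n) (hp : Γ.Arc p i j)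
    (hc : ¬ Γ.ZZ (p i) ≤ Γ.Q (p j)) : ¬ Γ.ZZ (p j) ≤ Γ.Q (p i) := by
  obtain ⟨r, y, -, -, h1, h2, -⟩ := H.crit_comm hmin hij hn hp hc
  exact fun h => h2 (h h1)

/-- left shifts of critical arcs are critical -/
theorem crit_left {p : ℤ → V} {i j : ℤ} (hij : j = i + n) (hn : 1 ≤ n) (hp : Γ.Arc p (i - 1) j)
    (hc : ¬ Γ.ZZ (p i) ≤ Γ.Q (p j)) : ¬ Γ.ZZ (p (i - 1)) ≤ Γ.Q (p (j - 1)) := by
  intro hnc
  obtain ⟨r, y0, r1, r2, hy0, hy0Q, hy1⟩ := H.crit_comm hmin hij hn (hp.sub (by omega) le_rfl) hc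
  have hA1 : Γ.A (p i) (p (i - 1)) := hp.adj' (by omega) (by omega)
  have hA2 : Γ.A (p i) (p (i + 1)) := hp.adj (by omega) (by omega)
  have hne : p (i - 1) ≠ p (i + 1) := hp.ne le_rfl (by omega) (by ring)
  obtain ⟨x, hx, hxa, hxb, -⟩ := exists_third hA1 hA2 hne
  have hyi : y0 • p i = p i := hy1.2 _ (Γ.symm hA2)
  have hsw := swap_of_not_mem hyi hA2 hA1 hx hne.symm hxb.symm hxa.symm hy1.1 hy0Q
  apply H.np.npu (p i) (p (i - 1)) x hA1 hx hxa.symm
  intro q hq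
  have hq0 : q ∈ Γ.Q (p i) := hq.1
  have hq1 : q ∈ Γ.Q (p (i - 1)) := hq.2
  apply H.mem_Q_of_comm (hq0.2 x hx)
  intro z hz
  -- `z = y0 z' y0⁻¹`
  have hz' : y0⁻¹ * z * y0 ∈ Γ.ZZ (p (i - 1)) := by
    have := conj_mem_ZZ_of_eq (h := y0⁻¹) (w := p (i - 1)) hz (by rw [← hsw.1, inv_smul_smul])
    rwa [inv_inv] at this
  have hadj' : Γ.A (p j) (p (j - 1)) := hp.adj' (by omega) le_rfl
  have hzT : y0⁻¹ * z * y0 ∈ (T (p j) (p (j - 1)) : Subgroup G) := Q_le_T' (Γ.symm hadj') (hnc hz')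
  have hqz : q * (y0⁻¹ * z * y0) = (y0⁻¹ * z * y0) * q := (ZZ_comm hz' hq1).symm
  rcases r2.2.2.1 y0 hy0 _ hzT with h1 | h1
  · -- `z'` commutes with `y0`
    have h2 : z = y0⁻¹ * z * y0 := by
      calc z = y0 * (y0⁻¹ * z * y0) * y0⁻¹ := by group
        _ = ((y0⁻¹ * z * y0) * y0 * (y0⁻¹ * z * y0)⁻¹) * (y0⁻¹ * z * y0) * y0⁻¹ := by rw [h1]
        _ = y0⁻¹ * z * y0 := by group
    rw [h2]; exact hqz
  · have hr0 : q * r = r * q := (ZZ_comm r1.2.1 hq0).symm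
    have hrr : r * r = 1 := H.ZZ_sq r1.2.1
    have h2 : z = r * (y0⁻¹ * z * y0) := by
      have h3 : y0 = (y0⁻¹ * z * y0) * y0 * (y0⁻¹ * z * y0)⁻¹ * r := by
        rw [h1, mul_assoc, hrr, mul_one]
      have h4 : y0 * r = r * y0 := (ZZ_comm hy0 (H.ZZ_le_Q r2.2.1))
      have h5 : y0 * r * r = y0 := by rw [mul_assoc, hrr, mul_one]
      calc z = y0 * (y0⁻¹ * z * y0) * y0⁻¹ := by group
        _ = ((y0 * r) * r) * (y0⁻¹ * z * y0) * y0⁻¹ := by rw [h5]
        _ = ((r * y0) * r) * (y0⁻¹ * z * y0) * y0⁻¹ := by rw [h4]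
        _ = r * (y0 * r) * (y0⁻¹ * z * y0) * y0⁻¹ := by group
        _ = r * ((y0⁻¹ * z * y0) * y0 * (y0⁻¹ * z * y0)⁻¹) * (y0⁻¹ * z * y0) * y0⁻¹ := by rw [h1]
        _ = r * (y0⁻¹ * z * y0) := by group
    rw [h2]
    calc q * (r * (y0⁻¹ * z * y0)) = (q * r) * (y0⁻¹ * z * y0) := by group
      _ = r * (q * (y0⁻¹ * z * y0)) := by rw [hr0]; group
      _ = r * (y0⁻¹ * z * y0) * q := by rw [hqz]; group

/-- right shifts of critical arcs are critical -/
theorem crit_right {p : ℤ → V} {i j : ℤ} (hij : j = i + n) (hn : 1 ≤ n) (hp : Γ.Arc p i (j + 1))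
    (hc : ¬ Γ.ZZ (p i) ≤ Γ.Q (p j)) : ¬ Γ.ZZ (p (i + 1)) ≤ Γ.Q (p (j + 1)) := by
  have h1 := H.crit_rev hmin hij hn (hp.sub le_rfl (by omega)) hc
  have h2 := H.crit_left (p := fun k => p (i + j - k)) hmin hij hn (by
    have := hp.rev (i + j)
    have e1 : i + j - (j + 1) = i - 1 := by ring
    have e2 : i + j - i = j := by ring
    rw [e1, e2] at this
    exact this) (by
    have e1 : i + j - i = j := by ring
    have e2 : i + j - j = i := by ring
    simp only [e1, e2]; exact h1)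
  have e1 : i + j - (i - 1) = j + 1 := by ring
  have e2 : i + j - (j - 1) = i + 1 := by ring
  simp only [e1, e2] at h2
  -- reverse again
  have h3 := H.crit_rev hmin (p := fun k => p (i + 1 + (j + 1) - k)) (i := i + 1) (j := j + 1) (by omega) hn (by
    have := (hp.sub (i' := i + 1) (j' := j + 1) (by omega) le_rfl).rev (i + 1 + (j + 1))
    have e1 : i + 1 + (j + 1) - (j + 1) = i + 1 := by ring
    have e2 : i + 1 + (j + 1) - (i + 1) = j + 1 := by ring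
    rw [e1, e2] at this
    exact this) (by
    have e1 : i + 1 + (j + 1) - (i + 1) = j + 1 := by ring
    have e2 : i + 1 + (j + 1) - (j + 1) = i + 1 := by ring
    simp only [e1, e2]; exact h2)
  have e3 : i + 1 + (j + 1) - (i + 1) = j + 1 := by ring
  have e4 : i + 1 + (j + 1) - (j + 1) = i + 1 := by ring
  simp only [e3, e4] at h3
  exact h3

end CA

end Tri

end Cfsg.Agent.H209
end

-- part: H209/TriCATwo
section
/-!
# Case A: the bound
-/

set_option autoImplicit false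

namespace Cfsg.Agent.H209

open MulAction

namespace Tri

variable {G V : Type*} [Group G] [MulAction G V] {Γ : Tri G V}
variable {u v w a b c d : V} {g h : G}

/-- `r` generates `[ZZ c, T c v]` for all neighbours `c` of `v` -/
def Cst (Γ : Tri G V) (v : V) (r : G) : Prop := ∀ c, Γ.A v c → IsRA Γ c v r

theorem Cst.unique {r r' : G} (h1 : Cst Γ v r) (h2 : Cst Γ v r') : r = r' := by
  obtain ⟨c, hc⟩ := ex_adj Γ v
  exact (h1 c hc).unique (h2 c hc)

theorem Cst.conj {r : G} (h : Cst Γ v r) (g : G) : Cst Γ (g • v) (g * r * g⁻¹) := by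
  intro c hc
  have h1 : Γ.A v (g⁻¹ • c) := by
    have := Γ.smul g⁻¹ hc
    rwa [inv_smul_smul] at this
  have := (h _ h1).conj g
  rwa [smul_inv_smul] at this

namespace CA

variable (H : CA Γ)

include H

variable {n : ℤ} (hmin : ∀ (p : ℤ → V) (i j : ℤ), i ≤ j → Γ.Arc p i j → j - i < n → Γ.ZZ (p i) ≤ Γ.Q (p j))

include hmin

theorem exists_rho_end {p : ℤ → V} {i j : ℤ} (hij : j = i + n) (hn : 2 ≤ n) (hp : Γ.Arc p i j)
    (hc : ¬ Γ.ZZ (p i) ≤ Γ.Q (p j)) : ∃ r, Cst Γ (p j) r := by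
  have hA : Γ.A (p j) (p (j - 1)) := hp.adj' (by omega) le_rfl
  obtain ⟨t, t', ht, ht', hta, hta', htt, -⟩ := exists_others hA
  have key : ∀ t, Γ.A (p j) t → t ≠ p (j - 1) → ∃ r, IsRA Γ (p (i + 1)) (p (i + 2)) r ∧ IsRA Γ t (p j) r := by
    intro t ht hta
    obtain ⟨q, hq, hqt, hqk⟩ := hp.exists_snoc ht (fun _ => hta)
    have h1 := H.crit_right hmin hij (by omega) hq (by rw [hqk i (by omega), hqk j le_rfl]; exact hc)
    obtain ⟨r, -, r1, r2, -⟩ := H.crit_comm hmin (i := i + 1) (j := j + 1) (by omega) (by omega)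
      (hq.sub (by omega) le_rfl) h1
    have e1 : i + 1 + 1 = i + 2 := by ring
    have e2 : j + 1 - 1 = j := by ring
    rw [e1, hqk (i + 1) (by omega), hqk (i + 2) (by omega)] at r1
    rw [e2, hqt, hqk j le_rfl] at r2
    exact ⟨r, r1, r2⟩
  obtain ⟨r, r1, r2⟩ := key t ht hta
  obtain ⟨r', r1', r2'⟩ := key t' ht' hta'
  have e := r1.unique r1'
  subst e
  refine ⟨r, fun c hc => ?_⟩
  by_cases hct : c = t
  · rw [hct]; exact r2
  obtain ⟨g, hg, hgt, hgt'⟩ := exists_two_trans ht ht' ht hc htt (Ne.symm hct)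
  have h1 := r2.conj g
  have h2 := r2'.conj g
  rw [hgt, hg] at h1
  rw [hgt', hg] at h2
  rw [r2.unique h1]
  exact h2

theorem exists_rho {p : ℤ → V} {i j : ℤ} (hij : j = i + n) (hn : 2 ≤ n) (hp : Γ.Arc p i j)
    (hc : ¬ Γ.ZZ (p i) ≤ Γ.Q (p j)) (v : V) : ∃ r, Cst Γ v r := by
  have key : ∀ w, (∃ r, Cst Γ w r) → Γ.ty w = Γ.ty v → ∃ r, Cst Γ v r := by
    rintro w ⟨r, hr⟩ hty
    obtain ⟨a, ha⟩ := ex_adj Γ w
    obtain ⟨b, hb⟩ := ex_adj Γ v
    obtain ⟨g, hg, -⟩ := Γ.trans ha hb hty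
    have := hr.conj g
    rw [hg] at this
    exact ⟨_, this⟩
  by_cases hty : Γ.ty (p j) = Γ.ty v
  · exact key _ (H.exists_rho_end hmin hij hn hp hc) hty
  · have hA : Γ.A (p j) (p (j - 1)) := hp.adj' (by omega) le_rfl
    obtain ⟨t, ht, hta⟩ := exists_ne hA
    obtain ⟨q, hq, hqt, hqk⟩ := hp.exists_snoc ht (fun _ => hta)
    have h1 := H.crit_right hmin hij (by omega) hq (by rw [hqk i (by omega), hqk j le_rfl]; exact hc)
    refine key _ (H.exists_rho_end hmin (i := i + 1) (j := j + 1) (by omega) hn (hq.sub (by omega) le_rfl) h1) ?_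
    rw [hqt, Γ.ty_adj ht]
    cases h1 : Γ.ty (p j) <;> cases h2 : Γ.ty v <;> simp_all

/-- a critical arc in length at least three: contradiction -/
theorem le_two {p : ℤ → V} (hn : 3 ≤ n) (hp : Γ.Arc p 0 n) (hc : ¬ Γ.ZZ (p 0) ≤ Γ.Q (p n)) : False := by
  have hex := H.exists_rho hmin (i := 0) (j := n) (by ring) (by omega) hp hc
  choose ρ hρ using hex
  have crit_rho : ∀ (p : ℤ → V) (i j : ℤ), j = i + n → Γ.Arc p i j → ¬ Γ.ZZ (p i) ≤ Γ.Q (p j) →
      ρ (p (i + 1)) = ρ (p (j - 1)) := by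
    intro p i j hij hp hc
    obtain ⟨r, -, r1, r2, -⟩ := H.crit_comm hmin hij (by omega) hp hc
    have h1 : Γ.A (p i) (p (i + 1)) := hp.adj le_rfl (by omega)
    have h2 : Γ.A (p j) (p (j - 1)) := hp.adj' (by omega) le_rfl
    rw [(hρ _ _ (Γ.symm h1)).unique r1, (hρ _ _ (Γ.symm h2)).unique r2]
  -- extend to the left by two
  obtain ⟨x1, hx1, hx1n⟩ := exists_ne (hp.adj (k := 0) le_rfl (by omega))
  obtain ⟨q1, hq1, hq1x, hq1k⟩ := hp.exists_cons hx1 (fun _ => hx1n)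
  obtain ⟨x2, hx2, hx2n⟩ := exists_ne (hq1.adj (k := 0 - 1) le_rfl (by omega))
  obtain ⟨q, hq, hqx, hqk⟩ := hq1.exists_cons hx2 (fun _ => hx2n)
  have e2 : (0 : ℤ) - 1 - 1 = -2 := by ring
  have hq0 : ∀ k ≥ 0, q k = p k := fun k hk => by rw [hqk k (by omega), hq1k k hk]
  rw [e2] at hq
  have c0 : ¬ Γ.ZZ (q 0) ≤ Γ.Q (q n) := by rw [hq0 0 le_rfl, hq0 n (by omega)]; exact hc
  have c1 : ¬ Γ.ZZ (q (-1)) ≤ Γ.Q (q (n - 1)) := by
    have := H.crit_left hmin (i := 0) (j := n) (by ring) (by omega) (hq.sub (by omega) le_rfl) c0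
    exact this
  have c2 : ¬ Γ.ZZ (q (-2)) ≤ Γ.Q (q (n - 2)) := by
    have := H.crit_left hmin (i := -1) (j := n - 1) (by ring) (by omega) (hq.sub (by omega) (by omega)) c1
    have e1 : (-1 : ℤ) - 1 = -2 := by ring
    have e2 : n - 1 - 1 = n - 2 := by ring
    rwa [e1, e2] at this
  -- change the end
  have hA : Γ.A (q (n - 2)) (q (n - 1)) := by
    have := hq.adj (k := n - 2) (by omega) (by omega)
    have e1 : n - 2 + 1 = n - 1 := by ring
    rwa [e1] at this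
  have hB : Γ.A (q (n - 2)) (q (n - 3)) := by
    have := hq.adj' (k := n - 2) (by omega) (by omega)
    have e1 : n - 2 - 1 = n - 3 := by ring
    rwa [e1] at this
  have hAB : q (n - 3) ≠ q (n - 1) := hq.ne (by omega) (by omega) (by ring)
  obtain ⟨x, hx, hxA, hxB, -⟩ := exists_third hA hB hAB.symm
  obtain ⟨y, hy, hyx⟩ := exists_ne (Γ.symm hx)
  obtain ⟨q3, hq3, hq3x, hq3k⟩ := (hq.sub (i' := -2) (j' := n - 2) le_rfl (by omega)).exists_snoc hx (fun _ => by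
    have e1 : n - 2 - 1 = n - 3 := by ring
    rw [e1]; exact hxB)
  obtain ⟨q4, hq4, hq4x, hq4k⟩ := hq3.exists_snoc (x := y) (by rw [hq3x]; exact hy) (fun _ => by
    have e1 : n - 2 + 1 - 1 = n - 2 := by ring
    rw [e1, hq3k _ le_rfl]; exact hyx)
  have e3 : n - 2 + 1 + 1 = n := by ring
  have e4 : n - 2 + 1 = n - 1 := by ring
  rw [e3] at hq4 hq4x
  rw [e4] at hq3x hq4k
  have hq4q : ∀ k ≤ n - 2, q4 k = q k := fun k hk => by rw [hq4k k (by omega), hq3k k hk]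
  have d2 : ¬ Γ.ZZ (q4 (-2)) ≤ Γ.Q (q4 (n - 2)) := by
    rw [hq4q _ (by omega), hq4q _ le_rfl]; exact c2
  have d1 : ¬ Γ.ZZ (q4 (-1)) ≤ Γ.Q (q4 (n - 1)) := by
    have := H.crit_right hmin (i := -2) (j := n - 2) (by ring) (by omega) (hq4.sub (by omega) (by omega)) d2
    have e1 : (-2 : ℤ) + 1 = -1 := by ring
    rwa [e1, e4] at this
  have d0 : ¬ Γ.ZZ (q4 0) ≤ Γ.Q (q4 n) := by
    have := H.crit_right hmin (i := -1) (j := n - 1) (by ring) (by omega) (hq4.sub (by omega) (by omega)) d1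
    have e1 : (-1 : ℤ) + 1 = 0 := by ring
    have e2 : n - 1 + 1 = n := by ring
    rwa [e1, e2] at this
  have f1 := crit_rho q 0 n (by ring) (hq.sub (by omega) le_rfl) c0
  have f2 := crit_rho q4 0 n (by ring) (hq4.sub (by omega) le_rfl) d0
  have e5 : (0 : ℤ) + 1 = 1 := by ring
  rw [e5] at f1 f2
  rw [hq4q 1 (by omega), f1, hq4k (n - 1) le_rfl, hq3x] at f2
  exact H.IsRA_ne hx hA hxA (hρ x _ (Γ.symm hx)) (by rw [← f2]; exact hρ _ _ (Γ.symm hA))

omit hmin in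
/-- the first noncommuting pair at distance two -/
theorem card_le_of_two
    (hmin : ∀ (p : ℤ → V) (i j : ℤ), i ≤ j → Γ.Arc p i j → j - i < 2 → Γ.ZZ (p i) ≤ Γ.Q (p j))
    {p : ℤ → V} (hp : Γ.Arc p 0 2) (hc : ¬ Γ.ZZ (p 0) ≤ Γ.Q (p 2)) (hvw : Γ.A v w) :
    Nat.card (T v w : Subgroup G) ≤ 64 := by
  have hex := H.exists_rho hmin (i := 0) (j := 2) (by ring) (by omega) hp hc
  choose ρ hρ using hex
  have hone : ∀ l p, Γ.A l p → Γ.ZZ l ≤ Γ.Q p := by
    intro l p hlp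
    have := hmin (fun k => if k = 0 then l else p) 0 1 (by omega) ⟨fun k h1 h2 => ?_, fun k h1 h2 => by omega⟩ (by omega)
    · simpa using this
    · have : k = 0 := by omega
      subst this
      simpa using hlp
  have hconj : ∀ (v : V) (g : G), g * ρ v * g⁻¹ = ρ (g • v) := fun v g => ((hρ v).conj g).unique (hρ (g • v))
  have hmem : ∀ l p, Γ.A l p → ρ p ∈ Γ.ZZ l := fun l p hlp => (hρ p l (Γ.symm hlp)).2.1
  have hsq : ∀ p, ρ p * ρ p = 1 := by
    intro p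
    obtain ⟨l, hl⟩ := ex_adj Γ p
    exact H.ZZ_sq (hmem l p (Γ.symm hl))
  have hfix : ∀ p, ρ p • p = p := by
    intro p
    obtain ⟨l, hl⟩ := ex_adj Γ p
    exact (hone l p (Γ.symm hl) (hmem l p (Γ.symm hl))).1
  have R : Pts Γ (Γ.ty (p 1)) ρ := by
    refine ⟨?_, fun p _ => hsq p, fun p _ => hfix p, fun p g _ => hconj p g, ?_⟩
    · intro p _
      obtain ⟨l, hl⟩ := ex_adj Γ p
      exact (hρ p l hl).1
    · intro l p q s hp hq hs hpq hps hqs _
      obtain ⟨y, hy, hyQ⟩ := exists_T_not_mem_Q hp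
      obtain ⟨hy1, hy2⟩ := mem_T.1 hy
      have hsw := swap_of_not_mem hy1 hp hq hs hpq hps hqs hy2 hyQ
      have h1 := hconj q y
      rw [hsw.1] at h1
      rcases (hρ p l (Γ.symm hp)).2.2.1 (ρ q) (hmem l q hq) y hy with h2 | h2
      · exfalso
        rw [h1] at h2
        exact H.IsRA_ne hq hs hqs (hρ q l (Γ.symm hq)) (by rw [← h2]; exact hρ s l (Γ.symm hs))
      · rw [← h1, h2]
        exact ZZ_comm (hmem l p hp) (H.ZZ_le_Q (hmem l q hq))
  have hb : ∀ l p' q, Γ.A l p' → Γ.A l q → Γ.ty p' = Γ.ty (p 1) → ρ q ∈ Γ.Q p' :=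
    fun l p' q hp' hq _ => hone l p' hp' (hmem l q hq)
  apply btwo_card H.np R hb _ hvw
  intro p' l m q s hl hm hlm hq hqp hs hsp hty hcomm
  have h01 : Γ.A (p 1) (p 0) := hp.adj' (k := 1) (by omega) (by omega)
  have h12 : Γ.A (p 1) (p 2) := hp.adj (k := 1) (by omega) (by omega)
  have hne : p 0 ≠ p 2 := hp.ne le_rfl le_rfl (by ring)
  obtain ⟨g, hg, hgl, hgm⟩ := exists_two_trans' hm hl h01 h12 hlm.symm hne hty
  -- `ZZ m` is not in `Q l`
  have hcr : ¬ Γ.ZZ m ≤ Γ.Q l := by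
    intro hle
    apply hc
    intro x hx
    have h1 : g⁻¹ * x * g ∈ Γ.ZZ m := by
      have := conj_mem_ZZ_of_eq (h := g⁻¹) (w := m) hx (by rw [← hgl, inv_smul_smul])
      rwa [inv_inv] at this
    have h2 := conj_mem_Q_of_eq (hle h1) hgm
    have e : g * (g⁻¹ * x * g) * g⁻¹ = x := by group
    rwa [e] at h2
  have tyq : Γ.ty q = Γ.ty (p 1) := by rw [← hty]; exact ty_eq_of_adj hq (Γ.symm hl)
  have tys : Γ.ty s = Γ.ty (p 1) := by rw [← hty]; exact ty_eq_of_adj hs (Γ.symm hm)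
  have m1 : ρ q ∈ Γ.Q p' := hone l p' (Γ.symm hl) (hmem l q hq)
  have m2 : ρ q • s = s := R.fix_of_comm (m1.2 m hm) hs tys hcomm
  have m3 : ρ q ∈ Γ.Q m := mem_Q_of_two (m1.2 m hm) (Γ.symm hm) hs hsp.symm m1.1 m2
  apply hcr
  intro x hx
  have x1 : x ∈ Γ.Q p' := hone m p' (Γ.symm hm) hx
  have x2 : x * ρ q = ρ q * x := ZZ_comm hx m3
  have x3 : x • q = q := R.fix_of_comm (x1.2 l hl) hq tyq x2
  exact mem_Q_of_two (x1.2 l hl) (Γ.symm hl) hq hqp.symm x1.1 x3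

omit hmin in
/-- the first noncommuting pair is an edge -/
theorem card_le_of_one (hvw : Γ.A v w) (hc : ¬ Γ.ZZ v ≤ Γ.Q w) (hc' : ¬ Γ.ZZ w ≤ Γ.Q v) :
    Nat.card (T v w : Subgroup G) ≤ 16 := by
  obtain ⟨x0, hx0, hx0w⟩ := Set.not_subset.1 hc
  obtain ⟨y0, hy0, hy0v⟩ := Set.not_subset.1 hc'
  let E : Subgroup G := Γ.Q v ⊓ Γ.Q w
  have hE1 : ∀ q ∈ Γ.Q v, ∃ e ∈ E, q * q = e * e := by
    intro q hq
    by_cases hqw : q ∈ Γ.Q w
    · exact ⟨q, ⟨hq, hqw⟩, rfl⟩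
    · refine ⟨x0 * q, ⟨mul_mem (H.ZZ_le_Q hx0) hq, ?_⟩, ?_⟩
      · exact mul_mem_Q (Γ.symm hvw) (Q_le_T' hvw (H.ZZ_le_Q hx0)) (Q_le_T' hvw hq) hx0w hqw
      · have h1 := ZZ_comm hx0 hq
        calc q * q = (x0 * x0) * q * q := by rw [H.ZZ_sq hx0, one_mul]
          _ = x0 * (x0 * q) * q := by group
          _ = x0 * (q * x0) * q := by rw [h1]
          _ = x0 * q * (x0 * q) := by group
  have hE2 : ∀ q ∈ Γ.Q w, ∃ e ∈ E, q * q = e * e := by
    intro q hq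
    by_cases hqv : q ∈ Γ.Q v
    · exact ⟨q, ⟨hqv, hq⟩, rfl⟩
    · refine ⟨y0 * q, ⟨?_, mul_mem (H.ZZ_le_Q hy0) hq⟩, ?_⟩
      · exact mul_mem_Q hvw (Q_le_T' (Γ.symm hvw) (H.ZZ_le_Q hy0)) (Q_le_T' (Γ.symm hvw) hq) hy0v hqv
      · have h1 := ZZ_comm hy0 hq
        calc q * q = (y0 * y0) * q * q := by rw [H.ZZ_sq hy0, one_mul]
          _ = y0 * (y0 * q) * q := by group
          _ = y0 * (q * y0) * q := by rw [h1]
          _ = y0 * q * (y0 * q) := by group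
  let S : Subgroup G := Subgroup.closure {x | ∃ e ∈ E, x = e * e}
  have hSv : ∀ g : G, g • v = v → ∀ x ∈ S, g * x * g⁻¹ ∈ S := by
    intro g hg x hx
    refine conj_mem_closure g ?_ hx
    rintro y ⟨e, he, rfl⟩
    obtain ⟨e', he', h1⟩ := hE1 (g * e * g⁻¹) (conj_mem_Q_of_fix he.1 hg)
    refine Subgroup.subset_closure ⟨e', he', ?_⟩
    rw [← h1]; group
  have hSw : ∀ g : G, g • w = w → ∀ x ∈ S, g * x * g⁻¹ ∈ S := by
    intro g hg x hx
    refine conj_mem_closure g ?_ hx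
    rintro y ⟨e, he, rfl⟩
    obtain ⟨e', he', h1⟩ := hE2 (g * e * g⁻¹) (conj_mem_Q_of_fix he.2 hg)
    refine Subgroup.subset_closure ⟨e', he', ?_⟩
    rw [← h1]; group
  have hSE : S ≤ E := by
    refine (Subgroup.closure_le _).2 ?_
    rintro y ⟨e, he, rfl⟩
    exact mul_mem he he
  have hS : ∀ x ∈ S, x = 1 := by
    apply edge_bot Γ hvw S (fun n hn => ⟨(hSE hn).1.1, (hSE hn).2.1⟩)
    · intro a ha
      obtain ⟨g, hg, hga⟩ := exists_trans hvw ha
      refine ⟨g, fun n hn => ?_, hga⟩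
      have := hSv g⁻¹ (inv_fix hg) n hn
      rwa [inv_inv] at this
    · intro a ha
      obtain ⟨g, hg, hga⟩ := exists_trans (Γ.symm hvw) ha
      refine ⟨g, fun n hn => ?_, hga⟩
      have := hSw g⁻¹ (inv_fix hg) n hn
      rwa [inv_inv] at this
  have hsqv : ∀ q ∈ Γ.Q v, q * q = 1 := by
    intro q hq
    obtain ⟨e, he, h1⟩ := hE1 q hq
    rw [h1]
    exact hS _ (Subgroup.subset_closure ⟨e, he, rfl⟩)
  have hsqw : ∀ q ∈ Γ.Q w, q * q = 1 := by
    intro q hq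
    obtain ⟨e, he, h1⟩ := hE2 q hq
    rw [h1]
    exact hS _ (Subgroup.subset_closure ⟨e, he, rfl⟩)
  have habel : ∀ L : Subgroup G, (∀ q ∈ L, q * q = 1) → ∀ x ∈ L, ∀ y ∈ L, x * y = y * x := by
    intro L hL x hx y hy
    have h1 : x⁻¹ = x := inv_eq_of_mul_eq_one_left (hL x hx)
    have h2 : y⁻¹ = y := inv_eq_of_mul_eq_one_left (hL y hy)
    have h3 : (x * y)⁻¹ = x * y := inv_eq_of_mul_eq_one_left (hL _ (mul_mem hx hy))
    rw [mul_inv_rev, h1, h2] at h3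
    exact h3.symm
  -- `E` is centralised by `T`
  have hET : ∀ e ∈ E, ∀ t ∈ (T v w : Subgroup G), t * e = e * t := by
    intro e he t ht
    by_cases htw : t ∈ Γ.Q w
    · exact habel _ hsqw t htw e he.2
    · have h1 : x0 * t ∈ Γ.Q w := by
        rw [T_comm] at ht
        exact mul_mem_Q (Γ.symm hvw) (Q_le_T' hvw (H.ZZ_le_Q hx0)) ht hx0w htw
      have h2 := habel _ hsqw _ h1 e he.2
      have h3 := ZZ_comm hx0 he.1
      calc t * e = x0⁻¹ * ((x0 * t) * e) := by group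
        _ = x0⁻¹ * (e * (x0 * t)) := by rw [h2]
        _ = x0⁻¹ * (e * x0) * t := by group
        _ = x0⁻¹ * (x0 * e) * t := by rw [h3]
        _ = e * t := by group
  obtain ⟨a, c, ha, hc1, haw, hcw, hac, -⟩ := exists_others hvw
  obtain ⟨b, d, hb, hd, hbv, hdv, hbd, -⟩ := exists_others (Γ.symm hvw)
  let F : Subgroup G := Γ.Q b ⊓ (Γ.Q a ⊓ E)
  -- transport of `hET` to the edge `v a`
  have hETv : ∀ e ∈ F, ∀ t ∈ (T v a : Subgroup G), t * e = e * t := by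
    intro e he t ht
    obtain ⟨g, hg, hgw⟩ := exists_trans hvw ha
    have h1 : g⁻¹ * e * g ∈ E := by
      refine ⟨?_, ?_⟩
      · show g⁻¹ * e * g ∈ Γ.Q v
        rw [← mem_Q_smul, hg]; exact he.2.2.1
      · show g⁻¹ * e * g ∈ Γ.Q w
        rw [← mem_Q_smul, hgw]; exact he.2.1
    have h2 : g⁻¹ * t * g ∈ (T v w : Subgroup G) := by
      rw [← mem_T_smul, hg, hgw]; exact ht
    have h3 := hET _ h1 _ h2
    calc t * e = g * ((g⁻¹ * t * g) * (g⁻¹ * e * g)) * g⁻¹ := by group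
      _ = g * ((g⁻¹ * e * g) * (g⁻¹ * t * g)) * g⁻¹ := by rw [h3]
      _ = e * t := by group
  have hETw : ∀ e ∈ F, ∀ t ∈ (T w b : Subgroup G), t * e = e * t := by
    intro e he t ht
    obtain ⟨g, hg, hgw⟩ := exists_trans (Γ.symm hvw) hb
    have h1 : g⁻¹ * e * g ∈ E := by
      refine ⟨?_, ?_⟩
      · show g⁻¹ * e * g ∈ Γ.Q v
        rw [← mem_Q_smul, hgw]; exact he.1
      · show g⁻¹ * e * g ∈ Γ.Q w
        rw [← mem_Q_smul, hg]; exact he.2.2.2
    have h2 : g⁻¹ * t * g ∈ (T v w : Subgroup G) := by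
      rw [T_comm, ← mem_T_smul, hg, hgw]; exact ht
    have h3 := hET _ h1 _ h2
    calc t * e = g * ((g⁻¹ * t * g) * (g⁻¹ * e * g)) * g⁻¹ := by group
      _ = g * ((g⁻¹ * e * g) * (g⁻¹ * t * g)) * g⁻¹ := by rw [h3]
      _ = e * t := by group
  have hF : ∀ x ∈ F, x = 1 := by
    have hcomm : ∀ g : G, (∀ n ∈ F, g * n = n * g) → ∀ n ∈ F, g⁻¹ * n * g ∈ F := by
      intro g hg n hn
      rw [mul_assoc, ← hg n hn, inv_mul_cancel_left]
      exact hn
    apply edge_bot Γ hvw F (fun n hn => ⟨hn.2.2.1.1, hn.2.2.2.1⟩)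
    · intro x hx
      obtain ⟨y, hy, hyQ⟩ := exists_T_not_mem_Q ha
      obtain ⟨hy1, hy2⟩ := mem_T.1 hy
      have sy := swap_of_not_mem hy1 ha hvw hc1 haw hac hcw.symm hy2 hyQ
      obtain ⟨z, hz, hzQ⟩ := exists_T_not_mem_Q hvw
      obtain ⟨hz1, hz2⟩ := mem_T.1 hz
      have sz := swap_of_not_mem hz1 hvw ha hc1 haw.symm hcw.symm hac hz2 hzQ
      have cy : ∀ n ∈ F, y * n = n * y := fun n hn => hETv n hn y hy
      have cz : ∀ n ∈ F, z * n = n * z := fun n hn => hET n hn.2.2 z hz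
      rcases eq_or hvw ha hc1 hx haw.symm hcw.symm hac with rfl | rfl | rfl
      · exact ⟨1, hcomm 1 (fun n _ => by simp), one_smul _ _⟩
      · refine ⟨z * y, hcomm _ (fun n hn => ?_), by rw [mul_smul, sy.1, sz.2]⟩
        rw [mul_assoc, cy n hn, ← mul_assoc, cz n hn, mul_assoc]
      · exact ⟨y, hcomm _ cy, sy.1⟩
    · intro x hx
      have hwv := Γ.symm hvw
      obtain ⟨y, hy, hyQ⟩ := exists_T_not_mem_Q hb
      obtain ⟨hy1, hy2⟩ := mem_T.1 hy
      have sy := swap_of_not_mem hy1 hb hwv hd hbv hbd hdv.symm hy2 hyQ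
      obtain ⟨z, hz, hzQ⟩ := exists_T_not_mem_Q hwv
      obtain ⟨hz1, hz2⟩ := mem_T.1 hz
      have sz := swap_of_not_mem hz1 hwv hb hd hbv.symm hdv.symm hbd hz2 hzQ
      have cy : ∀ n ∈ F, y * n = n * y := fun n hn => hETw n hn y hy
      have cz : ∀ n ∈ F, z * n = n * z := fun n hn => hET n hn.2.2 z (by rw [T_comm]; exact hz)
      rcases eq_or hwv hb hd hx hbv.symm hdv.symm hbd with rfl | rfl | rfl
      · exact ⟨1, hcomm 1 (fun n _ => by simp), one_smul _ _⟩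
      · refine ⟨z * y, hcomm _ (fun n hn => ?_), by rw [mul_smul, sy.1, sz.2]⟩
        rw [mul_assoc, cy n hn, ← mul_assoc, cz n hn, mul_assoc]
      · exact ⟨y, hcomm _ cy, sy.1⟩
  have c0 := card_le_one_of_forall hF
  have f1 : ∀ L : Subgroup G, L ≤ Γ.Q v → Finite L := fun L hL => finSub Γ v fun x hx => (hL hx).1
  have half1 : Half F (Γ.Q a ⊓ E) := (half_Q' (Γ.symm hb)).inf_left (fun n hn => Q_le_T hb hn.2.2)
  have half2 : Half (Γ.Q a ⊓ E) E := (half_Q' (Γ.symm ha)).inf_left (fun n hn => Q_le_T ha hn.1)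
  have half3 : Half E (Γ.Q v) := by
    have : Half (Γ.Q w ⊓ Γ.Q v) (Γ.Q v) := (half_Q' (Γ.symm hvw)).inf_left (Q_le_T hvw)
    rw [inf_comm] at this
    exact this
  have c1 := card_le_two_of_forall _ half1 (f1 _ (fun x hx => hx.2.1)) c0
  have c2 := card_le_two_of_forall _ half2 (f1 _ (fun x hx => hx.1)) c1
  have c3 := card_le_two_of_forall _ half3 (f1 _ le_rfl) c2
  have c4 := card_T_le hvw c3
  omega

omit hmin in
/-- **Case A**. -/
theorem card_le (hvw : Γ.A v w) : Nat.card (T v w : Subgroup G) ≤ 64 := by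
  obtain ⟨n, hn0, ⟨p, hp, -, hc⟩, hmin⟩ := exists_min (Γ := Γ) (fun v => Γ.ZZ v) (fun _ => True) v trivial (by
    by_contra hcon
    push Not at hcon
    apply H.cen v
    intro a ha z hz g hg
    rw [hcon z (OZ_le_ZZ ha hz)]; simp)
  have hmin' : ∀ (p : ℤ → V) (i j : ℤ), i ≤ j → Γ.Arc p i j → j - i < n → Γ.ZZ (p i) ≤ Γ.Q (p j) :=
    fun p i j h1 h2 h3 => hmin p i j h1 h2 trivial h3
  have hn1 : 1 ≤ n := by
    by_contra h
    have : n = 0 := by omega
    subst this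
    exact hc H.ZZ_le_Q
  by_cases h3 : 3 ≤ n
  · exact absurd (H.le_two hmin' h3 hp hc) id
  by_cases h2 : n = 2
  · subst h2
    exact H.card_le_of_two hmin' hp hc hvw
  · have h1 : n = 1 := by omega
    subst h1
    have := H.card_le_of_one (hp.adj (k := 0) le_rfl (by omega)) (by simpa using hc) (by
      have := H.crit_rev hmin' (i := 0) (j := 1) (by ring) le_rfl hp hc
      simpa using this)
    rw [card_T_eq hvw (hp.adj (k := 0) le_rfl (by omega))]
    omega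

end CA

end Tri

end Cfsg.Agent.H209
end

-- part: H209/TriCB
section
/-!
# Case B: the involutions of `Z(T)` are central in the stabilizers of the vertices of type `τ`, not central in the
others
-/

set_option autoImplicit false

namespace Cfsg.Agent.H209

open MulAction

namespace Tri

variable {G V : Type*} [Group G] [MulAction G V] {Γ : Tri G V}
variable {u v w a b c d l m p q s : V} {g h t x y z : G} {τ : Bool}

namespace NP

variable (H : NP Γ)

include H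

theorem OZT_le_Q (ha : Γ.A v a) : OZ (T v a : Subgroup G) ≤ Γ.Q v := by
  intro x hx
  apply H.cent v x (mem_T.1 hx.1).1
  intro d hd
  exact hx.2.2 d (Q_le_T ha hd)

theorem ZZ_le_Q : Γ.ZZ v ≤ Γ.Q v := by
  unfold ZZ
  rw [Subgroup.closure_le]
  rintro x ⟨a, ha, hx⟩
  exact H.OZT_le_Q ha hx

theorem ZZ_comm' (hx : x ∈ Γ.ZZ v) (hy : y ∈ Γ.ZZ v) : x * y = y * x := ZZ_comm hx (H.ZZ_le_Q hy)

theorem ZZ_sq {x : G} (hx : x ∈ Γ.ZZ v) : x * x = 1 := by
  have hx' := hx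
  unfold ZZ at hx
  induction hx using Subgroup.closure_induction with
  | mem x hx =>
    obtain ⟨a, ha, hx⟩ := hx
    exact hx.2.1
  | one => simp
  | mul x y hx hy h1 h2 =>
    have h3 := ZZ_comm hy (H.ZZ_le_Q hx)
    calc x * y * (x * y) = x * (y * x) * y := by group
      _ = (x * x) * (y * y) := by rw [h3]; group
      _ = 1 := by rw [h1 hx, h2 hy, one_mul]
  | inv x hx h1 =>
    have h1' := h1 hx
    rw [← mul_inv_rev, h1', inv_one]

theorem ZZ_inv {x : G} (hx : x ∈ Γ.ZZ v) : x⁻¹ = x := inv_eq_of_mul_eq_one_left (H.ZZ_sq hx)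

end NP

/-- the central involutions of the stabilizer of `p` -/
def ZB (G : Type*) {V : Type*} [Group G] [MulAction G V] (p : V) : Subgroup G := OZ (stabilizer G p)

omit Γ in
theorem mem_ZB : x ∈ ZB G p ↔ x • p = p ∧ x * x = 1 ∧ ∀ g : G, g • p = p → g * x = x * g := by
  unfold ZB
  rw [mem_OZ, mem_stabilizer_iff]
  constructor
  · rintro ⟨h1, h2, h3⟩
    exact ⟨h1, h2, fun g hg => (h3 g (mem_stabilizer_iff.2 hg)).symm⟩
  · rintro ⟨h1, h2, h3⟩
    exact ⟨h1, h2, fun g hg => (h3 g (mem_stabilizer_iff.1 hg)).symm⟩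

omit Γ in
theorem ZB_comm (hx : x ∈ ZB G p) (hg : g • p = p) : g * x = x * g := (mem_ZB.1 hx).2.2 g hg

omit Γ in
theorem ZB_sq (hx : x ∈ ZB G p) : x * x = 1 := (mem_ZB.1 hx).2.1

omit Γ in
theorem ZB_inv (hx : x ∈ ZB G p) : x⁻¹ = x := inv_eq_of_mul_eq_one_left (ZB_sq hx)

omit Γ in
theorem conj_mem_ZB (hx : x ∈ ZB G p) (h : G) : h * x * h⁻¹ ∈ ZB G (h • p) := by
  obtain ⟨h1, h2, h3⟩ := mem_ZB.1 hx
  refine mem_ZB.2 ⟨conj_fix h1 h, ?_, fun g hg => ?_⟩
  · calc h * x * h⁻¹ * (h * x * h⁻¹) = h * (x * x) * h⁻¹ := by group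
      _ = 1 := by rw [h2]; group
  · have h4 : (h⁻¹ * g * h) • p = p := by
      rw [mul_smul, mul_smul, inv_smul_eq_iff]; exact hg
    have h5 := h3 _ h4
    calc g * (h * x * h⁻¹) = h * ((h⁻¹ * g * h) * x) * h⁻¹ := by group
      _ = h * (x * (h⁻¹ * g * h)) * h⁻¹ := by rw [h5]
      _ = h * x * h⁻¹ * g := by group

omit Γ in
theorem conj_mem_ZB_of_eq (hx : x ∈ ZB G p) (hh : h • p = q) : h * x * h⁻¹ ∈ ZB G q := by
  rw [← hh]; exact conj_mem_ZB hx h

omit Γ in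
theorem conj_ZB (hx : x ∈ ZB G p) (hh : h • p = p) : h * x * h⁻¹ = x := by
  rw [ZB_comm hx hh, mul_inv_cancel_right]

omit Γ in
/-- conjugates depend only on the image of the vertex -/
theorem conj_ZB_eq (hx : x ∈ ZB G p) (hh : h • p = g • p) : h * x * h⁻¹ = g * x * g⁻¹ := by
  have h1 : (g⁻¹ * h) • p = p := by rw [mul_smul, hh, inv_smul_smul]
  have h2 := conj_ZB hx h1
  calc h * x * h⁻¹ = g * ((g⁻¹ * h) * x * (g⁻¹ * h)⁻¹) * g⁻¹ := by group
    _ = g * x * g⁻¹ := by rw [h2]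

/-- the hypotheses of Case B -/
structure CB (Γ : Tri G V) (τ : Bool) : Prop where
  np : NP Γ
  cenb : ∀ p a, Γ.ty p = τ → Γ.A p a → ∀ z ∈ OZ (T p a : Subgroup G), ∀ g : G, g • p = p → g * z = z * g
  cena : ∀ l, Γ.ty l = !τ → ¬ (∀ a, Γ.A l a → ∀ z ∈ OZ (T l a : Subgroup G), ∀ g : G, g • l = l → g * z = z * g)

namespace CB

variable (H : CB Γ τ)

include H

omit H in
theorem ty_nbr (hl : Γ.ty l = !τ) (hp : Γ.A l p) : Γ.ty p = τ := by rw [Γ.ty_adj hp, hl, Bool.not_not]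

omit H in
theorem ty_nbr' (hp : Γ.ty p = τ) (hl : Γ.A p l) : Γ.ty l = !τ := by rw [Γ.ty_adj hl, hp]

theorem ZB_le_Q : ZB G p ≤ Γ.Q p := by
  intro x hx
  obtain ⟨h1, h2, h3⟩ := mem_ZB.1 hx
  exact H.np.cent p x h1 (fun q hq => (h3 q hq.1).symm)

theorem OZ_T_eq (hp : Γ.ty p = τ) (ha : Γ.A p a) : OZ (T p a : Subgroup G) = ZB G p := by
  apply le_antisymm
  · intro x hx
    exact mem_ZB.2 ⟨(mem_T.1 hx.1).1, hx.2.1, H.cenb p a hp ha x hx⟩
  · intro x hx
    obtain ⟨h1, h2, h3⟩ := mem_ZB.1 hx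
    exact ⟨Q_le_T ha (H.ZB_le_Q hx), h2, fun g hg => (h3 g (mem_T.1 hg).1).symm⟩

theorem ZB_le_ZZ (hp : Γ.ty p = τ) (hl : Γ.A l p) : ZB G p ≤ Γ.ZZ l := by
  rw [← H.OZ_T_eq hp (Γ.symm hl), T_comm]
  exact OZ_le_ZZ hl

theorem ZB_ne (hp : Γ.ty p = τ) : ∃ x ∈ ZB G p, x ≠ 1 := by
  obtain ⟨a, ha⟩ := ex_adj Γ p
  rw [← H.OZ_T_eq hp ha]
  obtain ⟨g, hg, hgQ⟩ := exists_T_not_mem_Q ha
  exact exists_OZ (finT Γ p a) (isPGroup_T ha) ⟨g, hg, fun h => hgQ (by rw [h]; exact one_mem _)⟩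

/-- F2 -/
theorem ZB_inf (hp : Γ.A l p) (hq : Γ.A l q) (hpq : p ≠ q) (hty : Γ.ty p = τ) (h1 : x ∈ ZB G p)
    (h2 : x ∈ ZB G q) : x = 1 := by
  obtain ⟨s, hs, hsp, hsq, -⟩ := exists_third hp hq hpq
  have hcomm : ∀ g : G, (∀ n ∈ ZB G p ⊓ ZB G q, g * n = n * g) → ∀ n ∈ ZB G p ⊓ ZB G q, g⁻¹ * n * g ∈ ZB G p ⊓ ZB G q := by
    intro g hg n hn
    rw [mul_assoc, ← hg n hn, inv_mul_cancel_left]
    exact hn
  apply edge_bot Γ hp (ZB G p ⊓ ZB G q) _ _ _ x ⟨h1, h2⟩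
  · intro n hn
    have := H.ZB_le_Q hn.1
    exact ⟨this.2 l (Γ.symm hp), this.1⟩
  · intro y hy
    obtain ⟨f, hf, hfQ⟩ := exists_T_not_mem_Q hq
    obtain ⟨hf1, hf2⟩ := mem_T.1 hf
    have sf := swap_of_not_mem hf1 hq hp hs hpq.symm hsq.symm hsp.symm hf2 hfQ
    obtain ⟨e, he, heQ⟩ := exists_T_not_mem_Q hp
    obtain ⟨he1, he2⟩ := mem_T.1 he
    have se := swap_of_not_mem he1 hp hq hs hpq hsp.symm hsq.symm he2 heQ
    have cf : ∀ n ∈ ZB G p ⊓ ZB G q, f * n = n * f := fun n hn => ZB_comm hn.2 hf2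
    have ce : ∀ n ∈ ZB G p ⊓ ZB G q, e * n = n * e := fun n hn => ZB_comm hn.1 he2
    rcases eq_or hp hq hs hy hpq hsp.symm hsq.symm with rfl | rfl | rfl
    · exact ⟨1, hcomm 1 (fun n _ => by simp), one_smul _ _⟩
    · refine ⟨e * f, hcomm _ (fun n hn => ?_), by rw [mul_smul, sf.1, se.2]⟩
      rw [mul_assoc, cf n hn, ← mul_assoc, ce n hn, mul_assoc]
    · exact ⟨f, hcomm f cf, sf.1⟩
  · intro y hy
    obtain ⟨g, hg, hgy⟩ := exists_trans (Γ.symm hp) hy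
    exact ⟨g, hcomm g (fun n hn => ZB_comm hn.1 hg), hgy⟩

/-- F3 -/
theorem prod_eq_one (hp : Γ.A l p) (hq : Γ.A l q) (hs : Γ.A l s) (hpq : p ≠ q) (hps : p ≠ s) (hqs : q ≠ s)
    (hty : Γ.ty p = τ) (hx : x ∈ ZB G p) (hg : g • l = l) (hgp : g • p = q) (hh : h • l = l) (hhp : h • p = s) :
    x * (g * x * g⁻¹) * (h * x * h⁻¹) = 1 := by
  have hyq : g * x * g⁻¹ ∈ ZB G q := conj_mem_ZB_of_eq hx hgp
  have hzs : h * x * h⁻¹ ∈ ZB G s := conj_mem_ZB_of_eq hx hhp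
  have tyq : Γ.ty q = τ := by rw [← hty]; exact ty_eq_of_adj hq hp
  have tys : Γ.ty s = τ := by rw [← hty]; exact ty_eq_of_adj hs hp
  -- a symmetric statement
  have key : ∀ (p q s : V) (x y z : G), Γ.A l p → Γ.A l q → Γ.A l s → p ≠ q → p ≠ s → q ≠ s → Γ.ty p = τ →
      x ∈ ZB G p → y ∈ ZB G q → z ∈ ZB G s → (∀ k : G, k • l = l → k • q = s → k * y * k⁻¹ = z) →
      (∀ k : G, k • l = l → k • s = q → k * z * k⁻¹ = y) → x * y * z ∈ ZB G p := by
    intro p q s x y z hp hq hs hpq hps hqs hty hx hy hz h1 h2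
    have tyq : Γ.ty q = τ := by rw [← hty]; exact ty_eq_of_adj hq hp
    have tys : Γ.ty s = τ := by rw [← hty]; exact ty_eq_of_adj hs hp
    have zx := H.ZB_le_ZZ hty hp hx
    have zy := H.ZB_le_ZZ tyq hq hy
    have zz := H.ZB_le_ZZ tys hs hz
    rw [← H.OZ_T_eq hty (Γ.symm hp), T_comm]
    have hmem : x * y * z ∈ Γ.ZZ l := mul_mem (mul_mem zx zy) zz
    refine ⟨Q_le_T hp (H.np.ZZ_le_Q hmem), H.np.ZZ_sq hmem, fun k hk => ?_⟩
    obtain ⟨hk1, hk2⟩ := mem_T.1 hk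
    by_cases hkQ : k ∈ Γ.Q l
    · exact ZZ_comm hmem hkQ
    · have sk := swap_of_not_mem hk1 hp hq hs hpq hps hqs hk2 hkQ
      have e1 := h1 k hk1 sk.1
      have e2 := h2 k hk1 sk.2
      have e3 := conj_ZB hx hk2
      have e4 := H.np.ZZ_comm' zy zz
      have e5 : k * (x * y * z) * k⁻¹ = x * y * z := by
        calc k * (x * y * z) * k⁻¹ = (k * x * k⁻¹) * (k * y * k⁻¹) * (k * z * k⁻¹) := by group
          _ = x * z * y := by rw [e1, e2, e3]
          _ = x * (y * z) := by rw [mul_assoc, e4]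
          _ = x * y * z := by group
      calc x * y * z * k = (k * (x * y * z) * k⁻¹) * k := by rw [e5]
        _ = k * (x * y * z) := by group
  have cxy : ∀ k : G, k • l = l → k • q = s → k * (g * x * g⁻¹) * k⁻¹ = h * x * h⁻¹ := by
    intro k hk hkq
    have := conj_ZB_eq (h := k * g) (g := h) hx (by rw [mul_smul, hgp, hkq, hhp])
    rw [← this]; group
  have cyx : ∀ k : G, k • l = l → k • s = q → k * (h * x * h⁻¹) * k⁻¹ = g * x * g⁻¹ := by
    intro k hk hks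
    have := conj_ZB_eq (h := k * h) (g := g) hx (by rw [mul_smul, hhp, hks, hgp])
    rw [← this]; group
  have cps : ∀ k : G, k • l = l → k • p = s → k * x * k⁻¹ = h * x * h⁻¹ := by
    intro k hk hkp
    exact conj_ZB_eq hx (by rw [hkp, hhp])
  have csp : ∀ k : G, k • l = l → k • s = p → k * (h * x * h⁻¹) * k⁻¹ = x := by
    intro k hk hks
    have := conj_ZB_eq (h := k * h) (g := 1) hx (by rw [mul_smul, hhp, hks, one_smul])
    rw [inv_one, mul_one, one_mul] at this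
    calc k * (h * x * h⁻¹) * k⁻¹ = (k * h) * x * (k * h)⁻¹ := by group
      _ = x := this
  have m1 : x * (g * x * g⁻¹) * (h * x * h⁻¹) ∈ ZB G p :=
    key p q s x _ _ hp hq hs hpq hps hqs hty hx hyq hzs cxy cyx
  have m2 : (g * x * g⁻¹) * x * (h * x * h⁻¹) ∈ ZB G q :=
    key q p s _ x _ hq hp hs hpq.symm hqs hps tyq hyq hx hzs cps csp
  have e : (g * x * g⁻¹) * x = x * (g * x * g⁻¹) :=
    H.np.ZZ_comm' (H.ZB_le_ZZ tyq hq hyq) (H.ZB_le_ZZ hty hp hx)
  rw [e] at m2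
  exact H.ZB_inf hp hq hpq hty m1 m2

/-- `ZZ l = ZB p * ZB q` -/
theorem ZZ_decomp (hl : Γ.ty l = !τ) (hp : Γ.A l p) (hq : Γ.A l q) (hpq : p ≠ q) (hx : x ∈ Γ.ZZ l) :
    ∃ a ∈ ZB G p, ∃ b ∈ ZB G q, x = a * b := by
  have typ := ty_nbr hl hp
  have tyq := ty_nbr hl hq
  obtain ⟨s, hs, hsp, hsq, -⟩ := exists_third hp hq hpq
  have tys := ty_nbr hl hs
  unfold ZZ at hx
  induction hx using Subgroup.closure_induction with
  | mem x hx =>
    obtain ⟨c, hc, hx⟩ := hx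
    rw [T_comm, H.OZ_T_eq (ty_nbr hl hc) (Γ.symm hc)] at hx
    rcases eq_or hp hq hs hc hpq hsp.symm hsq.symm with rfl | rfl | rfl
    · exact ⟨x, hx, 1, one_mem _, by rw [mul_one]⟩
    · exact ⟨1, one_mem _, x, hx, by rw [one_mul]⟩
    · obtain ⟨g, hg, hgp⟩ := exists_trans hc hp
      obtain ⟨h, hh, hhq⟩ := exists_trans hc hq
      have h1 := H.prod_eq_one hc hp hq hsp hsq hpq tys hx hg hgp hh hhq
      refine ⟨_, conj_mem_ZB_of_eq hx hgp, _, conj_mem_ZB_of_eq hx hhq, ?_⟩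
      calc x = x⁻¹ := (ZB_inv hx).symm
        _ = x⁻¹ * (x * (g * x * g⁻¹) * (h * x * h⁻¹)) := by rw [h1, mul_one]
        _ = g * x * g⁻¹ * (h * x * h⁻¹) := by group
  | one => exact ⟨1, one_mem _, 1, one_mem _, by rw [one_mul]⟩
  | mul x y _ _ h1 h2 =>
    obtain ⟨a, ha, b, hb, rfl⟩ := h1
    obtain ⟨a', ha', b', hb', rfl⟩ := h2
    refine ⟨a * a', mul_mem ha ha', b * b', mul_mem hb hb', ?_⟩
    have := H.np.ZZ_comm' (H.ZB_le_ZZ tyq hq hb) (H.ZB_le_ZZ typ hp ha')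
    calc a * b * (a' * b') = a * (b * a') * b' := by group
      _ = a * (a' * b) * b' := by rw [this]
      _ = a * a' * (b * b') := by group
  | inv x _ h1 =>
    obtain ⟨a, ha, b, hb, rfl⟩ := h1
    refine ⟨a⁻¹, inv_mem ha, b⁻¹, inv_mem hb, ?_⟩
    have := H.np.ZZ_comm' (H.ZB_le_ZZ typ hp ha) (H.ZB_le_ZZ tyq hq hb)
    rw [this, mul_inv_rev]

/-- F4, first part: `T l p` acts on `ZZ l` trivially modulo `ZB p` -/
theorem ZZ_act (hl : Γ.ty l = !τ) (hp : Γ.A l p) (ht : t ∈ (T l p : Subgroup G)) (hx : x ∈ Γ.ZZ l) :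
    ∃ c ∈ ZB G p, t * x * t⁻¹ = x * c := by
  obtain ⟨ht1, ht2⟩ := mem_T.1 ht
  obtain ⟨q, s, hq, hs, hqp, hsp, hqs, -⟩ := exists_others hp
  have typ := ty_nbr hl hp
  have tyq := ty_nbr hl hq
  obtain ⟨a, ha, b, hb, rfl⟩ := H.ZZ_decomp hl hp hq hqp.symm hx
  by_cases htQ : t ∈ Γ.Q l
  · refine ⟨1, one_mem _, ?_⟩
    rw [← ZZ_comm hx htQ]; group
  · have st := swap_of_not_mem ht1 hp hq hs hqp.symm hsp.symm hqs ht2 htQ
    obtain ⟨k, hk, hkq⟩ := exists_trans hq hp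
    have h1 := H.prod_eq_one hq hp hs hqp hqs hsp.symm tyq hb hk hkq ht1 st.1
    refine ⟨k * b * k⁻¹, conj_mem_ZB_of_eq hb hkq, ?_⟩
    have e1 := conj_ZB ha ht2
    have e2 : t * b * t⁻¹ = b * (k * b * k⁻¹) := by
      have h2 : (b * (k * b * k⁻¹))⁻¹ = t * b * t⁻¹ := inv_eq_of_mul_eq_one_right h1
      have h3 : b * (k * b * k⁻¹) ∈ Γ.ZZ l :=
        mul_mem (H.ZB_le_ZZ tyq hq hb) (H.ZB_le_ZZ typ hp (conj_mem_ZB_of_eq hb hkq))
      rw [← h2, H.np.ZZ_inv h3]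
    calc t * (a * b) * t⁻¹ = (t * a * t⁻¹) * (t * b * t⁻¹) := by group
      _ = a * b * (k * b * k⁻¹) := by rw [e1, e2]; group

/-- F4, second part -/
theorem ZZ_cent (hl : Γ.ty l = !τ) (hp : Γ.A l p) (ht : t ∈ (T l p : Subgroup G)) (htQ : t ∉ Γ.Q l)
    (hx : x ∈ Γ.ZZ l) (hc : t * x = x * t) : x ∈ ZB G p := by
  obtain ⟨ht1, ht2⟩ := mem_T.1 ht
  obtain ⟨q, s, hq, hs, hqp, hsp, hqs, -⟩ := exists_others hp
  obtain ⟨a, ha, b, hb, rfl⟩ := H.ZZ_decomp hl hp hq hqp.symm hx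
  have st := swap_of_not_mem ht1 hp hq hs hqp.symm hsp.symm hqs ht2 htQ
  have e1 := ZB_comm ha ht2
  have e2 : t * b * t⁻¹ = b := by
    have : a * (t * b * t⁻¹) = a * b := by
      calc a * (t * b * t⁻¹) = (a * t) * b * t⁻¹ := by group
        _ = (t * (a * b)) * t⁻¹ := by rw [← e1]; group
        _ = a * b := by rw [hc]; group
    exact mul_left_cancel this
  have h1 : t * b * t⁻¹ ∈ ZB G s := conj_mem_ZB_of_eq hb st.1
  rw [e2] at h1
  rw [H.ZB_inf hq hs hqs (ty_nbr hl hq) hb h1, mul_one]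
  exact ha

/-- F5 -/
theorem mem_Q_of_comm (hl : Γ.ty l = !τ) (hg : g • l = l) (hc : ∀ x ∈ Γ.ZZ l, g * x = x * g) : g ∈ Γ.Q l := by
  by_contra hgQ
  apply H.cena l hl
  intro a ha z hz k hk
  obtain ⟨c, hc1, hc2, hc3⟩ := cent_trans (N := Γ.ZZ l) (fun k hk n hn => conj_mem_ZZ_of_eq hn hk)
    ⟨g, hg, hc, hgQ⟩ ha (A_of_fix hk ha)
  have h1 : c⁻¹ * k ∈ (T l a : Subgroup G) := by
    rw [mem_T]
    refine ⟨mul_fix (inv_fix hc1) hk, ?_⟩
    rw [mul_smul, ← hc3, inv_smul_smul]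
  have h2 := hz.2.2 _ h1
  have h3 := hc2 z (OZ_le_ZZ ha hz)
  calc k * z = c * ((c⁻¹ * k) * z) := by group
    _ = c * (z * (c⁻¹ * k)) := by rw [h2]
    _ = (c * z) * c⁻¹ * k := by group
    _ = (z * c) * c⁻¹ * k := by rw [h3]
    _ = z * k := by group

/-- F6 -/
theorem ZZ_inter (hp : Γ.ty p = τ) (hl : Γ.A p l) (hm : Γ.A p m) (hlm : l ≠ m) (hxl : x ∈ Γ.ZZ l)
    (hxm : x ∈ Γ.ZZ m) : x ∈ ZB G p := by
  obtain ⟨q, hq, hql⟩ := Set.not_subset.1 (H.np.npu p m l hm hl hlm.symm)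
  have hq1 : q ∈ Γ.Q p := hq.1
  have hq2 : q ∈ Γ.Q m := hq.2
  exact H.ZZ_cent (ty_nbr' hp hl) (Γ.symm hl) (Q_le_T' hl hq1) hql hxl (ZZ_comm hxm hq2).symm

/-- an element centralising `ZZ l` and fixing a neighbour of `l` fixes `l` -/
theorem mem_Q_of_comm' (hp : Γ.ty p = τ) (hl : Γ.A p l) (hg : g • p = p) (hc : ∀ x ∈ Γ.ZZ l, g * x = x * g) :
    g ∈ Γ.Q l := by
  have tyl := ty_nbr' hp hl
  apply H.mem_Q_of_comm tyl _ hc
  by_contra hne
  obtain ⟨q, hq, hqp⟩ := exists_ne (Γ.symm hl)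
  obtain ⟨x, hx, hx1⟩ := H.ZB_ne (ty_nbr tyl hq)
  have h1 : x ∈ Γ.ZZ l := H.ZB_le_ZZ (ty_nbr tyl hq) hq hx
  have h2 : x ∈ Γ.ZZ (g • l) := by
    have := conj_mem_ZZ h1 g
    rwa [hc x h1, mul_inv_cancel_right] at this
  have h3 := H.ZZ_inter hp hl (A_of_fix hg hl) (Ne.symm hne) h1 h2
  exact hx1 (H.ZB_inf hq (Γ.symm hl) hqp (ty_nbr tyl hq) hx h3)

/-- B1 -/
theorem ZZ_le_Q_nbr (hl : Γ.ty l = !τ) (hp : Γ.A l p) : Γ.ZZ l ≤ Γ.Q p := by
  intro z hz
  by_contra hzp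
  have typ := ty_nbr hl hp
  have hzl := H.np.ZZ_le_Q hz
  have hzp1 : z • p = p := hzl.2 p hp
  obtain ⟨m, m', hm, hm', hml, hm'l, hmm, -⟩ := exists_others (Γ.symm hp)
  have sz := swap_of_not_mem hzp1 (Γ.symm hp) hm hm' hml.symm hm'l.symm hmm hzl.1 hzp
  apply H.np.npu p m m' hm hm' hmm
  intro q hq
  have hqp : q ∈ Γ.Q p := hq.1
  have hqm : q ∈ Γ.Q m := hq.2
  obtain ⟨c, hc, e⟩ := H.ZZ_act hl hp (Q_le_T' (Γ.symm hp) hqp) hz
  have h1 : z⁻¹ * q * z⁻¹⁻¹ ∈ Γ.Q m' := conj_mem_Q_of_eq hqm (by rw [← sz.2, inv_smul_smul])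
  have h2 : c ∈ Γ.Q m' := H.np.ZZ_le_Q (H.ZB_le_ZZ typ (Γ.symm hm') hc)
  have e2 : z⁻¹ * q * z⁻¹⁻¹ = c * q := by
    calc z⁻¹ * q * z⁻¹⁻¹ = z⁻¹ * (q * z * q⁻¹) * q := by group
      _ = z⁻¹ * (z * c) * q := by rw [e]
      _ = c * q := by group
  rw [e2] at h1
  exact (mul_mem_cancel_left h2).1 h1

/-- all involutions of `ZB p` are equal -/
theorem K1_of (hl : Γ.ty l = !τ) (hp : Γ.A l p) (h1 : ∀ x ∈ Γ.ZZ l, x ∈ Γ.Q w → x ∈ ZB G p)
    (h2 : ∀ x ∈ Γ.ZZ l, ∀ y ∈ Γ.ZZ l, x ∉ Γ.Q w → y ∉ Γ.Q w → x * y ∈ Γ.Q w) :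
    ∀ q, Γ.ty q = τ → ∀ x ∈ ZB G q, ∀ y ∈ ZB G q, x ≠ 1 → y ≠ 1 → x = y := by
  obtain ⟨s, hs, hsp⟩ := exists_ne hp
  have tys := ty_nbr hl hs
  intro q hq x hx y hy hx1 hy1
  obtain ⟨a, ha⟩ := ex_adj Γ q
  obtain ⟨g, hg, -⟩ := Γ.trans ha (Γ.symm hs) (by rw [hq, tys])
  have hx' := conj_mem_ZB_of_eq hx hg
  have hy' := conj_mem_ZB_of_eq hy hg
  have key : ∀ x, x ∈ ZB G q → x ≠ 1 → g * x * g⁻¹ ∉ Γ.Q w := by
    intro x hx hx1 hxQ
    have hx' := conj_mem_ZB_of_eq hx hg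
    have h3 := h1 _ (H.ZB_le_ZZ tys hs hx') hxQ
    have h4 := H.ZB_inf hs hp hsp tys hx' h3
    apply hx1
    calc x = g⁻¹ * (g * x * g⁻¹) * g := by group
      _ = 1 := by rw [h4]; group
  have h3 := h2 _ (H.ZB_le_ZZ tys hs hx') _ (H.ZB_le_ZZ tys hs hy') (key x hx hx1) (key y hy hy1)
  have hxy := mul_mem hx' hy'
  have h4 := h1 _ (H.ZB_le_ZZ tys hs hxy) h3
  have h5 := H.ZB_inf hs hp hsp tys hxy h4
  have h6 : x * y = 1 := by
    calc x * y = g⁻¹ * (g * x * g⁻¹ * (g * y * g⁻¹)) * g := by group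
      _ = 1 := by rw [h5]; group
  rw [← ZB_inv hx]
  exact inv_eq_of_mul_eq_one_right h6

/-- the central involutions -/
theorem exists_Pts (h : ∀ q, Γ.ty q = τ → ∀ x ∈ ZB G q, ∀ y ∈ ZB G q, x ≠ 1 → y ≠ 1 → x = y) :
    ∃ r : V → G, Pts Γ τ r ∧ ∀ p, Γ.ty p = τ → r p ∈ ZB G p ∧ ∀ x ∈ ZB G p, x = 1 ∨ x = r p := by
  classical
  have hex : ∀ p, ∃ z : G, Γ.ty p = τ → z ∈ ZB G p ∧ z ≠ 1 := by
    intro p
    by_cases hp : Γ.ty p = τ
    · obtain ⟨z, hz, hz1⟩ := H.ZB_ne hp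
      exact ⟨z, fun _ => ⟨hz, hz1⟩⟩
    · exact ⟨1, fun h => absurd h hp⟩
  choose r hr using hex
  have hconj : ∀ (p : V) (g : G), Γ.ty p = τ → g * r p * g⁻¹ = r (g • p) := by
    intro p g hp
    have hgp : Γ.ty (g • p) = τ := by rw [Γ.ty_smul, hp]
    apply h _ hgp _ (conj_mem_ZB (hr p hp).1 g) _ (hr _ hgp).1 _ (hr _ hgp).2
    intro h1
    apply (hr p hp).2
    calc r p = g⁻¹ * (g * r p * g⁻¹) * g := by group
      _ = 1 := by rw [h1]; group
  refine ⟨r, ⟨fun p hp => (hr p hp).2, fun p hp => ZB_sq (hr p hp).1, fun p hp => (mem_ZB.1 (hr p hp).1).1,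
    hconj, ?_⟩, fun p hp => ⟨(hr p hp).1, fun x hx => ?_⟩⟩
  · intro l p q s hp hq hs hpq hps hqs hty
    obtain ⟨g, hg, hgp⟩ := exists_trans hp hq
    obtain ⟨k, hk, hkp⟩ := exists_trans hp hs
    have h1 := H.prod_eq_one hp hq hs hpq hps hqs hty (hr p hty).1 hg hgp hk hkp
    rw [hconj p g hty, hconj p k hty, hgp, hkp] at h1
    have tys : Γ.ty s = τ := by rw [← hty]; exact ty_eq_of_adj hs hp
    have h2 : (r s)⁻¹ = r s := ZB_inv (hr s tys).1
    rw [← h2]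
    exact eq_inv_of_mul_eq_one_left h1
  · by_cases h1 : x = 1
    · exact Or.inl h1
    · exact Or.inr (h p hp x hx _ (hr p hp).1 h1 (hr p hp).2)

end CB

end Tri

end Cfsg.Agent.H209
end

-- part: H209/TriCBEven
section
/-!
# Case B, even critical distance
-/

set_option autoImplicit false

namespace Cfsg.Agent.H209

open MulAction

namespace Tri

variable {G V : Type*} [Group G] [MulAction G V] {Γ : Tri G V}
variable {u v w a b c d l m s : V} {g h t x y z : G} {τ : Bool}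

/-- an involution central in the stabilizers of both ends of an arc of length `2 m` -/
theorem Pts.mid_bot {r : V → G} (R : Pts Γ τ r) {p : ℤ → V} {i m : ℤ} (hm : 1 ≤ m) (hp : Γ.Arc p i (i + 2 * m))
    (hty : Γ.ty (p i) = τ) (heq : r (p i) = r (p (i + 2 * m))) (hfix : Fixes (r (p i)) p i (i + m))
    (hM : ∀ k : ℤ, 1 ≤ k → k < m → ∀ τ', MvT Γ k τ') (hMm : MvT Γ m (Γ.ty (p (i + m)))) : False := by
  have hty2 : Γ.ty (p (i + 2 * m)) = τ := by
    rw [← hty]; exact hp.ty_even (by omega) (by omega) (by omega) (by omega) (by omega)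
  apply R.ne _ hty
  apply arc_bot_elt Γ (r (p i)) (i := i) (j := i + m) (by omega) (hp.sub le_rfl (by omega)) hfix
  · intro x hx
    obtain ⟨g, hg, hgx⟩ := exists_trans (hp.adj (k := i) le_rfl (by omega)) hx
    exact ⟨g, R.comm hty hg, i + 1, by omega, by omega, hgx⟩
  · intro x hx
    have hA : Γ.A (p (i + m)) (p (i + m - 1)) := hp.adj' (by omega) (by omega)
    have hB : Γ.A (p (i + m)) (p (i + m + 1)) := hp.adj (by omega) (by omega)
    have hAB : p (i + m - 1) ≠ p (i + m + 1) := hp.ne (by omega) (by omega) (by ring)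
    obtain ⟨s, hs, hsA, hsB, -⟩ := exists_third hA hB hAB
    obtain ⟨g1, hg1, hg1Q⟩ := hMm p i (hp.sub le_rfl (by omega)) rfl
    have s1 := swap_of_not_mem (hg1 (i + m) (by omega) le_rfl) hA hB hs hAB hsA.symm hsB.symm
      (hg1 (i + m - 1) (by omega) (by omega)) hg1Q
    have e0 : i + (i + 2 * m) - (i + m) = i + m := by ring
    have e1 : i + (i + 2 * m) - i = i + 2 * m := by ring
    obtain ⟨g2, hg2, hg2Q⟩ := hMm (fun k => p (i + (i + 2 * m) - k)) i (by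
      have := hp.rev (i + (i + 2 * m))
      exact this.sub (by omega) (by omega)) (by simp only [e0])
    simp only [e0] at hg2Q
    have hg2' : ∀ k, i + m ≤ k → k ≤ i + 2 * m → g2 • p k = p k := by
      intro k h1 h2
      have := hg2 (i + (i + 2 * m) - k) (by omega) (by omega)
      have e2 : i + (i + 2 * m) - (i + (i + 2 * m) - k) = k := by ring
      simp only [e2] at this
      exact this
    have s2 := swap_of_not_mem (hg2' (i + m) le_rfl (by omega)) hB hA hs hAB.symm hsB.symm hsA.symm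
      (hg2' (i + m + 1) (by omega) (by omega)) hg2Q
    have c1 := R.comm hty (hg1 i le_rfl (by omega))
    have c2 : g2 * r (p i) = r (p i) * g2 := by
      rw [heq]; exact R.comm hty2 (hg2' (i + 2 * m) (by omega) le_rfl)
    rcases eq_or hA hB hs hx hAB hsA.symm hsB.symm with rfl | rfl | rfl
    · exact ⟨1, by simp, i + m - 1, by omega, by omega, one_smul _ _⟩
    · refine ⟨g1 * g2, ?_, i + m - 1, by omega, by omega, by rw [mul_smul, s2.1, s1.2]⟩
      rw [mul_assoc, c2, ← mul_assoc, c1, mul_assoc]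
    · exact ⟨g2, c2, i + m - 1, by omega, by omega, s2.1⟩
  · intro k h1 h2
    have e : i + (k - i) = k := by ring
    obtain ⟨g, hg, hgQ⟩ := hM (k - i) (by omega) (by omega) (Γ.ty (p k)) p i (hp.sub le_rfl (by omega)) (by rw [e])
    rw [e] at hg hgQ
    exact ⟨g, R.comm hty (hg i le_rfl (by omega)), hg k (by omega) le_rfl, Or.inl (hg (k - 1) (by omega) (by omega)), hgQ⟩

/-- `VB p = ⟨ZZ l | l ~ p⟩` -/
def VB (Γ : Tri G V) (v : V) : Subgroup G := Subgroup.closure {x | ∃ l, Γ.A v l ∧ x ∈ Γ.ZZ l}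

theorem ZZ_le_VB (hl : Γ.A v l) : Γ.ZZ l ≤ Γ.VB v := fun _ hx => Subgroup.subset_closure ⟨l, hl, hx⟩

theorem conj_mem_VB {x : G} (hx : x ∈ Γ.VB v) (h : G) : h * x * h⁻¹ ∈ Γ.VB (h • v) := by
  refine conj_mem_closure h ?_ hx
  rintro y ⟨a, ha, hy⟩
  exact Subgroup.subset_closure ⟨h • a, Γ.smul h ha, conj_mem_ZZ hy h⟩

theorem conj_mem_VB_of_eq {x : G} (hx : x ∈ Γ.VB v) (hh : h • v = w) : h * x * h⁻¹ ∈ Γ.VB w := by
  have := conj_mem_VB hx h
  rwa [hh] at this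

namespace CB

variable (H : CB Γ τ)

include H

theorem VB_le_Q {p : V} (hp : Γ.ty p = τ) : Γ.VB p ≤ Γ.Q p := by
  unfold VB
  rw [Subgroup.closure_le]
  rintro x ⟨l, hl, hx⟩
  exact H.ZZ_le_Q_nbr (ty_nbr' hp hl) (Γ.symm hl) hx

variable {n : ℤ} (hmin : ∀ (p : ℤ → V) (i j : ℤ), i ≤ j → Γ.Arc p i j → Γ.ty (p i) = !τ → j - i < n →
    Γ.ZZ (p i) ≤ Γ.Q (p j))

include hmin

omit H in
/-- `ZZ (p i)` fixes the vertices at distance at most `n` -/
theorem ZZ_fix {p : ℤ → V} {i j : ℤ} (hp : Γ.Arc p i j) (hty : Γ.ty (p i) = !τ) {k : ℤ} (h1 : i < k) (h2 : k ≤ j)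
    (h3 : k - i ≤ n) {x : G} (hx : x ∈ Γ.ZZ (p i)) : x • p k = p k := by
  have h4 := hmin p i (k - 1) (by omega) (hp.sub le_rfl (by omega)) hty (by omega) hx
  exact h4.2 _ (Γ.symm (hp.adj' h1 h2))

omit H in
theorem ZZ_fix_rev {p : ℤ → V} {i j : ℤ} (hp : Γ.Arc p i j) (hty : Γ.ty (p j) = !τ) {k : ℤ} (h1 : i ≤ k)
    (h2 : k < j) (h3 : j - k ≤ n) {x : G} (hx : x ∈ Γ.ZZ (p j)) : x • p k = p k := by
  have h4 := ZZ_fix (Γ := Γ) hmin (p := fun l => p (i + j - l)) (i := i) (j := j) (k := i + j - k) (by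
    have := hp.rev (i + j)
    have e1 : i + j - j = i := by ring
    have e2 : i + j - i = j := by ring
    rwa [e1, e2] at this) (by simpa using hty) (by omega) (by omega) (by omega) (x := x) (by simpa using hx)
  simpa using h4

omit H in
theorem ZZ_le_rev {p : ℤ → V} {i j : ℤ} (hij : i ≤ j) (hp : Γ.Arc p i j) (hty : Γ.ty (p j) = !τ) (hlt : j - i < n) :
    Γ.ZZ (p j) ≤ Γ.Q (p i) := by
  have := hmin (fun k => p (i + j - k)) i j hij (by
    have := hp.rev (i + j)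
    have e1 : i + j - j = i := by ring
    have e2 : i + j - i = j := by ring
    rwa [e1, e2] at this) (by simpa using hty) hlt
  simpa using this

/-- critical arcs of even length -/
theorem even_crit {p : ℤ → V} {i j : ℤ} (hij : j = i + n) (hn : 2 ≤ n) (hev : n % 2 = 0) (hp : Γ.Arc p i j)
    (hty : Γ.ty (p i) = !τ) (hc : ¬ Γ.ZZ (p i) ≤ Γ.Q (p j)) :
    (∀ x ∈ Γ.ZZ (p i), x ∈ Γ.Q (p j) → x ∈ ZB G (p (i + 1))) ∧
      (∃ c ∈ ZB G (p (i + 1)), c ∈ ZB G (p (j - 1)) ∧ c ≠ 1) ∧ ∃ y ∈ Γ.ZZ (p j), y ∉ Γ.Q (p i) := by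
  have htyj : Γ.ty (p j) = !τ := by
    rw [← hty]; exact hp.ty_even le_rfl (by omega) (by omega) le_rfl (by omega)
  obtain ⟨x0, hx0, hx0Q⟩ := Set.not_subset.1 hc
  have hadj : Γ.A (p i) (p (i + 1)) := hp.adj le_rfl (by omega)
  have hadj' : Γ.A (p j) (p (j - 1)) := hp.adj' (by omega) le_rfl
  have h1 : Γ.ZZ (p i) ≤ Γ.Q (p (j - 1)) :=
    hmin p i (j - 1) (by omega) (hp.sub le_rfl (by omega)) hty (by omega)
  have h2 : Γ.ZZ (p j) ≤ Γ.Q (p (i + 1)) :=
    ZZ_le_rev hmin (p := p) (i := i + 1) (j := j) (by omega) (hp.sub (by omega) le_rfl) htyj (by omega)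
  have hx0T : x0 ∈ (T (p j) (p (j - 1)) : Subgroup G) := Q_le_T' (Γ.symm hadj') (h1 hx0)
  obtain ⟨y0, hy0, hne⟩ : ∃ y ∈ Γ.ZZ (p j), x0 * y ≠ y * x0 := by
    by_contra hcon
    push Not at hcon
    exact hx0Q (H.mem_Q_of_comm htyj (mem_T.1 hx0T).1 hcon)
  have hy0T : y0 ∈ (T (p i) (p (i + 1)) : Subgroup G) := Q_le_T' (Γ.symm hadj) (h2 hy0)
  have hy0D : y0 ∉ Γ.Q (p i) := fun h => hne (ZZ_comm hx0 h)
  refine ⟨fun x hx hxQ => H.ZZ_cent hty hadj hy0T hy0D hx (ZZ_comm hy0 hxQ), ?_, y0, hy0, hy0D⟩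
  obtain ⟨c, hc, e⟩ := H.ZZ_act hty hadj hy0T hx0
  obtain ⟨c', hc', e'⟩ := H.ZZ_act htyj hadj' hx0T hy0
  have ex : x0⁻¹ = x0 := H.np.ZZ_inv hx0
  have ey : y0⁻¹ = y0 := H.np.ZZ_inv hy0
  have e1 : c = x0⁻¹ * (y0 * x0 * y0⁻¹) := by rw [e]; group
  have e2 : c' = y0⁻¹ * (x0 * y0 * x0⁻¹) := by rw [e']; group
  have e3 : c = c'⁻¹ := by
    rw [e1, e2, mul_inv_rev, mul_inv_rev, mul_inv_rev, inv_inv, inv_inv, ex, ey]; group
  refine ⟨c, hc, by rw [e3]; exact inv_mem hc', ?_⟩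
  intro h3
  apply hne
  rw [h3, mul_one] at e
  calc x0 * y0 = (y0 * x0 * y0⁻¹) * y0 := by rw [e]
    _ = y0 * x0 := by group

/-- the even case: bound -/
theorem even_card {p : ℤ → V} (hn : 2 ≤ n) (hev : n % 2 = 0) (hp : Γ.Arc p 0 n) (hty : Γ.ty (p 0) = !τ)
    (hc : ¬ Γ.ZZ (p 0) ≤ Γ.Q (p n)) (hvw : Γ.A v w) : Nat.card (T v w : Subgroup G) ≤ 64 := by
  have h01 : Γ.A (p 0) (p 1) := hp.adj (k := 0) le_rfl (by omega)
  obtain ⟨hcQ, -, y0, hy0, hy0Q⟩ := H.even_crit hmin (i := 0) (j := n) (by ring) hn hev hp hty hc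
  have e01 : (0 : ℤ) + 1 = 1 := by ring
  rw [e01] at hcQ
  have hZle : Γ.ZZ (p 0) ≤ Γ.Q (p (n - 1)) := hmin p 0 (n - 1) (by omega) (hp.sub le_rfl (by omega)) hty (by omega)
  have hA' : Γ.A (p n) (p (n - 1)) := hp.adj' (by omega) le_rfl
  obtain ⟨r, R, hr⟩ := H.exists_Pts (H.K1_of (w := p n) hty h01 hcQ (fun x hx y hy hxQ hyQ =>
    mul_mem_Q hA' (Q_le_T' (Γ.symm hA') (hZle hx)) (Q_le_T' (Γ.symm hA') (hZle hy)) hxQ hyQ))
  have crit_r : ∀ (p : ℤ → V) (i j : ℤ), j = i + n → Γ.Arc p i j → Γ.ty (p i) = !τ → ¬ Γ.ZZ (p i) ≤ Γ.Q (p j) →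
      r (p (i + 1)) = r (p (j - 1)) := by
    intro p i j hij hp hty hc
    obtain ⟨-, ⟨c, hc1, hc2, hc3⟩, -⟩ := H.even_crit hmin hij hn hev hp hty hc
    have t1 : Γ.ty (p (i + 1)) = τ := ty_nbr hty (hp.adj le_rfl (by omega))
    have t2 : Γ.ty (p (j - 1)) = τ := by
      rw [← t1]; exact hp.ty_even (by omega) (by omega) (by omega) (by omega) (by omega)
    rcases (hr _ t1).2 c hc1 with h | h
    · exact absurd h hc3
    rcases (hr _ t2).2 c hc2 with h' | h'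
    · exact absurd h' hc3
    rw [← h, ← h']
  have t1 : Γ.ty (p 1) = τ := ty_nbr hty h01
  by_cases hn2 : n = 2
  · -- distance two
    subst hn2
    have hone : ∀ l p, Γ.A l p → Γ.ty p = τ → Γ.ZZ l ≤ Γ.Q p := by
      intro l p hlp hp
      exact H.ZZ_le_Q_nbr (ty_nbr' hp (Γ.symm hlp)) hlp
    have hb : ∀ l p' q, Γ.A l p' → Γ.A l q → Γ.ty p' = τ → r q ∈ Γ.Q p' := by
      intro l p' q hp' hq hty'
      have tyq : Γ.ty q = τ := by rw [← hty']; exact ty_eq_of_adj hq hp'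
      exact hone l p' hp' hty' (H.ZB_le_ZZ tyq hq (hr q tyq).1)
    apply btwo_card H.np R hb _ hvw
    intro p' l m q s hl hm hlm hq hqp hs hsp hty' hcomm
    have h10 : Γ.A (p 1) (p 0) := hp.adj' (k := 1) (by omega) (by omega)
    have h12 : Γ.A (p 1) (p 2) := hp.adj (k := 1) (by omega) (by omega)
    have hne : p 0 ≠ p 2 := hp.ne le_rfl le_rfl (by ring)
    obtain ⟨g, hg, hgl, hgm⟩ := exists_two_trans' hm hl h10 h12 hlm.symm hne (by rw [hty', t1])
    have hcr : ¬ Γ.ZZ m ≤ Γ.Q l := by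
      intro hle
      apply hc
      intro x hx
      have h1 : g⁻¹ * x * g ∈ Γ.ZZ m := by
        have := conj_mem_ZZ_of_eq (h := g⁻¹) (w := m) hx (by rw [← hgl, inv_smul_smul])
        rwa [inv_inv] at this
      have h2 := conj_mem_Q_of_eq (hle h1) hgm
      have e : g * (g⁻¹ * x * g) * g⁻¹ = x := by group
      rwa [e] at h2
    have tyq : Γ.ty q = τ := by rw [← hty']; exact ty_eq_of_adj hq (Γ.symm hl)
    have tys : Γ.ty s = τ := by rw [← hty']; exact ty_eq_of_adj hs (Γ.symm hm)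
    have m1 : r q ∈ Γ.Q p' := hone l p' (Γ.symm hl) hty' (H.ZB_le_ZZ tyq hq (hr q tyq).1)
    have m2 : r q • s = s := R.fix_of_comm (m1.2 m hm) hs tys hcomm
    have m3 : r q ∈ Γ.Q m := mem_Q_of_two (m1.2 m hm) (Γ.symm hm) hs hsp.symm m1.1 m2
    apply hcr
    intro x hx
    have x1 : x ∈ Γ.Q p' := hone m p' (Γ.symm hm) hty' hx
    have x2 : x * r q = r q * x := ZZ_comm hx m3
    have x3 : x • q = q := R.fix_of_comm (x1.2 l hl) hq tyq x2
    exact mem_Q_of_two (x1.2 l hl) (Γ.symm hl) hq hqp.symm x1.1 x3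
  exfalso
  have hn4 : 4 ≤ n := by omega
  have hr1 := crit_r p 0 n (by ring) hp hty hc
  rw [e01] at hr1
  obtain ⟨m, hm⟩ : ∃ m : ℤ, n = 2 * m + 2 := ⟨n / 2 - 1, by omega⟩
  have hfixr : ∀ k, 0 < k → k ≤ n → r (p 1) • p k = p k := fun k h1 h2 =>
    ZZ_fix hmin hp hty h1 h2 (by omega) (H.ZB_le_ZZ t1 h01 (hr _ t1).1)
  rcases dichotomy Γ m with hM | ⟨j, hj1, hjm, -, τ', hFx⟩
  · -- local arc transitivity
    refine R.mid_bot (p := p) (i := 1) (m := m) (by omega) (hp.sub (by omega) (by omega)) t1 ?_ ?_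
      (fun k h1 h2 => hM k h1 (by omega)) (hM m (by omega) le_rfl _)
    · rw [hr1]; congr 2; omega
    · intro k h1 h2
      exact hfixr k (by omega) (by omega)
  · by_cases hτ' : τ' = !τ
    · -- type of `p 0`
      subst hτ'
      apply hc
      intro x hx
      have tyn : Γ.ty (p (0 + n)) = !τ := by
        rw [zero_add, ← hty]; exact hp.ty_even le_rfl (by omega) (by omega) le_rfl (by omega)
      have := (hFx.mono (j' := n) (by omega)) p 0 (by rw [zero_add]; exact hp) tyn x (by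
        intro k h1 h2
        rw [zero_add] at h2
        rcases eq_or_lt_of_le h1 with h3 | h3
        · rw [← h3]; exact (H.np.ZZ_le_Q hx).1
        · exact ZZ_fix hmin hp hty h3 h2 (by omega) hx)
      rwa [zero_add] at this
    · have hτ : τ' = τ := by cases τ <;> cases τ' <;> simp_all
      subst hτ
      -- extend to the left
      obtain ⟨a1, ha1, ha1n⟩ := exists_ne h01
      obtain ⟨q, hq, hqa, hqk⟩ := hp.exists_cons ha1 (fun _ => by rw [e01]; exact ha1n)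
      have e00 : (0 : ℤ) - 1 = -1 := by ring
      rw [e00] at hq hqa
      have tq0 : Γ.ty (q 0) = !τ' := by rw [hqk 0 le_rfl]; exact hty
      have tqm : Γ.ty (q (-1)) = τ' := ty_nbr tq0 (by
        have := hq.adj' (k := 0) (by omega) (by omega)
        exact this)
      have hqc : ¬ Γ.ZZ (q 0) ≤ Γ.Q (q n) := by rw [hqk 0 le_rfl, hqk n (by omega)]; exact hc
      have hqcQ : ∀ x ∈ Γ.ZZ (q 0), x ∈ Γ.Q (q n) → x ∈ ZB G (q 1) := by
        rw [hqk 0 le_rfl, hqk n (by omega), hqk 1 (by omega)]; exact hcQ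
      have hA0m : Γ.A (q 0) (q (-1)) := hq.adj' (k := 0) (by omega) (by omega)
      have hA01 : Γ.A (q 0) (q 1) := hq.adj (k := 0) (by omega) (by omega)
      have hnem : q (-1) ≠ q 1 := hq.ne le_rfl (by omega) (by ring)
      have tq1 : Γ.ty (q 1) = τ' := ty_nbr tq0 hA01
      have claim1 : ∀ l, Γ.A (q (-1)) l → ∀ y ∈ Γ.ZZ l, ∀ k, -1 ≤ k → k ≤ n - 1 → y • q k = q k := by
        intro l hl y hy k h1 h2
        by_cases hl0 : l = q 0
        · subst hl0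
          rcases lt_trichotomy k 0 with h3 | h3 | h3
          · have : k = -1 := by omega
            subst this
            exact (H.np.ZZ_le_Q hy).2 _ hA0m
          · subst h3; exact (H.np.ZZ_le_Q hy).1
          · exact ZZ_fix hmin (hq.sub (i' := 0) (by omega) le_rfl) tq0 h3 (by omega) (by omega) hy
        · obtain ⟨q', hq', hq'l, hq'k⟩ := hq.exists_cons hl (fun _ => by
            have e : (-1 : ℤ) + 1 = 0 := by ring
            rw [e]; exact hl0)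
          have e11 : (-1 : ℤ) - 1 = -2 := by ring
          rw [e11] at hq' hq'l
          have tl : Γ.ty (q' (-2)) = !τ' := by rw [hq'l]; exact ty_nbr' tqm hl
          have hyq : y ∈ Γ.ZZ (q' (-2)) := by rw [hq'l]; exact hy
          have hle : Γ.ZZ (q' (-2)) ≤ Γ.Q (q' (n - 2)) := by
            by_contra hcr
            have h3 := crit_r q' (-2) (n - 2) (by ring) (hq'.sub le_rfl (by omega)) tl hcr
            have e2 : (-2 : ℤ) + 1 = -1 := by ring
            have e3 : n - 2 - 1 = n - 3 := by ring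
            rw [e2, e3, hq'k (-1) le_rfl, hq'k (n - 3) (by omega)] at h3
            have tn3 : Γ.ty (q (n - 3)) = τ' := by
              rw [← tqm]; exact hq.ty_even (by omega) (by omega) (by omega) (by omega) (by omega)
            have hA3 : Γ.A (q (n - 2)) (q (n - 3)) := by
              have := hq.adj' (k := n - 2) (by omega) (by omega)
              rwa [e3] at this
            have h4 : r (q (n - 3)) ∈ Γ.ZZ (q (n - 2)) := H.ZB_le_ZZ tn3 hA3 (hr _ tn3).1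
            have h5 : r (q (n - 3)) ∈ Γ.Q (q n) :=
              hmin q (n - 2) n (by omega) (hq.sub (by omega) le_rfl) (ty_nbr' tn3 (Γ.symm hA3)) (by omega) h4
            rw [← h3] at h5
            have h6 := hqcQ _ (H.ZB_le_ZZ tqm hA0m (hr _ tqm).1) h5
            exact R.ne _ tqm (H.ZB_inf hA0m hA01 hnem tqm (hr _ tqm).1 h6)
          rcases lt_or_ge k (n - 1) with h3 | h3
          · have := ZZ_fix hmin hq' tl (k := k) (by omega) (by omega) (by omega) hyq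
            rwa [hq'k k h1] at this
          · have hk : k = n - 1 := by omega
            subst hk
            have h4 := (hle hyq).2 (q' (n - 1)) (by
              have := hq'.adj (k := n - 2) (by omega) (by omega)
              have e : n - 2 + 1 = n - 1 := by ring
              rwa [e] at this)
            rwa [hq'k (n - 1) h1] at h4
      have claim2 : ∀ y ∈ Γ.VB (q (-1)), y ∈ Γ.Q (q (n - 1)) := by
        have : ∀ y ∈ Γ.VB (q (-1)), ∀ k, -1 ≤ k → k ≤ n - 1 → y • q k = q k := by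
          intro y hy k h1 h2
          unfold VB at hy
          induction hy using Subgroup.closure_induction with
          | mem y hy =>
            obtain ⟨l, hl, hy⟩ := hy
            exact claim1 l hl y hy k h1 h2
          | one => exact one_smul _ _
          | mul x y _ _ hx hy => exact mul_fix hx hy
          | inv x _ hx => exact inv_fix hx
        intro y hy
        have tn1 : Γ.ty (q (n - 1)) = τ' := by
          rw [← tqm]; exact hq.ty_even (by omega) (by omega) (by omega) (by omega) (by omega)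
        have e : -1 + n = n - 1 := by ring
        have := (hFx.mono (j' := n) (by omega)) q (-1) (by rw [e]; exact hq.sub le_rfl (by omega))
          (by rw [e]; exact tn1) y (by
            intro k h1 h2
            rw [e] at h2
            exact this y hy k h1 h2)
        rwa [e] at this
      -- the contradiction
      have hy0' : y0 ∈ Γ.ZZ (q n) := by rw [hqk n (by omega)]; exact hy0
      have hy0Q' : y0 ∉ Γ.Q (q 0) := by rw [hqk 0 le_rfl]; exact hy0Q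
      have tn : Γ.ty (q n) = !τ' := by
        rw [← tq0]; exact hq.ty_even (by omega) (by omega) (by omega) (by omega) (by omega)
      have hAn : Γ.A (q n) (q (n - 1)) := hq.adj' (by omega) le_rfl
      have f0 : y0 • q 0 = q 0 := ZZ_fix_rev hmin hq tn (by omega) (by omega) (by omega) hy0'
      have f1 : y0 • q 1 = q 1 := ZZ_fix_rev hmin hq tn (by omega) (by omega) (by omega) hy0'
      obtain ⟨a, ha, ha1, ha2, -⟩ := exists_third hA0m hA01 hnem
      have sw := swap_of_not_mem f0 hA01 hA0m ha hnem.symm ha2.symm ha1.symm f1 hy0Q'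
      have tya : Γ.ty a = τ' := ty_nbr tq0 ha
      have hrq : r (q (n - 1)) = r (q 1) := by
        rw [hqk 1 (by omega), hqk (n - 1) (by omega)]; exact hr1.symm
      have tn1 : Γ.ty (q (n - 1)) = τ' := ty_nbr tn hAn
      have claim3 : ∀ y ∈ Γ.VB (q (-1)), y0⁻¹ * y * y0 ∈ Γ.VB (q (-1)) := by
        intro y hy
        obtain ⟨c, hc, e⟩ := H.ZZ_act tn hAn (Q_le_T' (Γ.symm hAn) (claim2 y hy)) hy0'
        have hcV : c ∈ Γ.VB (q (-1)) := by
          rcases (hr _ tn1).2 c hc with h | h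
          · rw [h]; exact one_mem _
          · rw [h, hrq]
            exact ZZ_le_VB (Γ.symm hA0m) (H.ZB_le_ZZ tq1 hA01 (hr _ tq1).1)
        have e2 : y0⁻¹ * y * y0 = c * y := by
          calc y0⁻¹ * y * y0 = y0⁻¹ * (y * y0 * y⁻¹) * y := by group
            _ = y0⁻¹ * (y0 * c) * y := by rw [e]
            _ = c * y := by group
        rw [e2]
        exact mul_mem hcV hy
      have hbot : ∀ x ∈ Γ.VB a, x = 1 := by
        apply fam_bot Γ (F := fun v => Γ.VB v) (fun g v x hx => conj_mem_VB hx g) ha hA0m ha1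
        · intro x hx
          have h1 := conj_mem_VB_of_eq hx sw.2
          have h2 := claim3 _ h1
          have e : y0⁻¹ * (y0 * x * y0⁻¹) * y0 = x := by group
          rwa [e] at h2
        · intro x hx
          have h1 := H.VB_le_Q tya hx
          exact ⟨h1.2 _ (Γ.symm ha), h1.1⟩
      obtain ⟨l', hl'⟩ := ex_adj Γ a
      exact R.ne a tya (hbot _ (ZZ_le_VB hl' (H.ZB_le_ZZ tya (Γ.symm hl') (hr a tya).1)))

end CB

end Tri

end Cfsg.Agent.H209
end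

-- part: H209/TriCBOdd
section
/-!
# Case B, odd critical distance at least three: general facts
-/

set_option autoImplicit false

namespace Cfsg.Agent.H209

open MulAction

theorem prod2_mod {G : Type*} [Group G] {A1 A2 B1 B2 z : G} (hz : z * z = 1) (c2 : z * B2 = B2 * z)
    (h1 : A1 = B1 ∨ A1 = B1 * z) (h2 : A2 = B2 ∨ A2 = B2 * z) :
    A1 * A2 = B1 * B2 ∨ A1 * A2 = B1 * B2 * z := by
  rcases h1 with rfl | rfl <;> rcases h2 with rfl | rfl
  · exact Or.inl rfl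
  · right; group
  · right
    calc B1 * z * A2 = B1 * (z * A2) := by group
      _ = B1 * A2 * z := by rw [c2]; group
  · left
    calc B1 * z * (B2 * z) = B1 * (z * B2) * z := by group
      _ = B1 * B2 * (z * z) := by rw [c2]; group
      _ = B1 * B2 := by rw [hz, mul_one]

theorem prod3_mod {G : Type*} [Group G] {A1 A2 A3 B1 B2 B3 z : G} (hz : z * z = 1) (c2 : z * B2 = B2 * z)
    (c3 : z * B3 = B3 * z) (h1 : A1 = B1 ∨ A1 = B1 * z) (h2 : A2 = B2 ∨ A2 = B2 * z) (h3 : A3 = B3 ∨ A3 = B3 * z) :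
    A1 * A2 * A3 = B1 * B2 * B3 ∨ A1 * A2 * A3 = B1 * B2 * B3 * z :=
  prod2_mod hz c3 (prod2_mod hz c2 h1 h2) h3

/-- two elements commute if the commutator is in two subgroups with trivial intersection -/
theorem comm_of {G : Type*} [Group G] {x y c c' : G} (h1 : y * x * y⁻¹ = x * c) (h2 : x * y * x⁻¹ = y * c')
    (hx : x * x = 1) (hy : y * y = 1) (h : c = c'⁻¹ → c = 1) : x * y = y * x := by
  have ex : x⁻¹ = x := inv_eq_of_mul_eq_one_left hx
  have ey : y⁻¹ = y := inv_eq_of_mul_eq_one_left hy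
  have e1 : c = x⁻¹ * (y * x * y⁻¹) := by rw [h1]; group
  have e2 : c' = y⁻¹ * (x * y * x⁻¹) := by rw [h2]; group
  have e3 : c = c'⁻¹ := by
    rw [e1, e2, mul_inv_rev, mul_inv_rev, mul_inv_rev, inv_inv, inv_inv, ex, ey]; group
  have e4 := h e3
  rw [e4, mul_one] at h1
  calc x * y = (y * x * y⁻¹) * y := by rw [h1]
    _ = y * x := by group

namespace Tri

variable {G V : Type*} [Group G] [MulAction G V] {Γ : Tri G V}
variable {u v w a b c d l m s : V} {g h t x y z : G} {τ : Bool}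

theorem perm_cases (ha : Γ.A v a) (hb : Γ.A v b) (hc : Γ.A v c) (hab : a ≠ b) (hac : a ≠ c) (hbc : b ≠ c)
    (hg : g • v = v) :
    (g • a = a ∧ g • b = b ∧ g • c = c) ∨ (g • a = a ∧ g • b = c ∧ g • c = b) ∨
    (g • a = b ∧ g • b = a ∧ g • c = c) ∨ (g • a = b ∧ g • b = c ∧ g • c = a) ∨
    (g • a = c ∧ g • b = a ∧ g • c = b) ∨ (g • a = c ∧ g • b = b ∧ g • c = a) := by
  have i1 : g • a ≠ g • b := fun h => hab (MulAction.injective g h)
  have i2 : g • a ≠ g • c := fun h => hac (MulAction.injective g h)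
  have i3 : g • b ≠ g • c := fun h => hbc (MulAction.injective g h)
  rcases eq_or ha hb hc (A_of_fix hg ha) hab hac hbc with h1 | h1 | h1 <;>
  rcases eq_or ha hb hc (A_of_fix hg hb) hab hac hbc with h2 | h2 | h2 <;>
  rcases eq_or ha hb hc (A_of_fix hg hc) hab hac hbc with h3 | h3 | h3 <;>
  rw [h1, h2] at i1 <;> rw [h1, h3] at i2 <;> rw [h2, h3] at i3 <;>
  first
    | exact absurd rfl i1
    | exact absurd rfl i2
    | exact absurd rfl i3
    | exact Or.inl ⟨h1, h2, h3⟩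
    | exact Or.inr (Or.inl ⟨h1, h2, h3⟩)
    | exact Or.inr (Or.inr (Or.inl ⟨h1, h2, h3⟩))
    | exact Or.inr (Or.inr (Or.inr (Or.inl ⟨h1, h2, h3⟩)))
    | exact Or.inr (Or.inr (Or.inr (Or.inr (Or.inl ⟨h1, h2, h3⟩))))
    | exact Or.inr (Or.inr (Or.inr (Or.inr (Or.inr ⟨h1, h2, h3⟩))))

/-- an arc of length two -/
theorem exists_arc2 {p : V} (hl : Γ.A p l) (hm : Γ.A p m) (hlm : l ≠ m) :
    ∃ q : ℤ → V, Γ.Arc q (-1) 1 ∧ q (-1) = l ∧ q 0 = p ∧ q 1 = m := by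
  obtain ⟨q, hq, hqm, hqk⟩ := (Arc.single (Γ := Γ) p 0).exists_snoc (x := m) hm (fun h => absurd h (by omega))
  have hq0 : q 0 = p := hqk 0 le_rfl
  obtain ⟨q', hq', hq'l, hq'k⟩ := hq.exists_cons (x := l) (by rw [hq0]; exact hl) (fun _ => by rw [hqm]; exact hlm)
  refine ⟨q', hq', hq'l, ?_, ?_⟩
  · rw [hq'k 0 le_rfl, hq0]
  · rw [hq'k 1 (by omega)]; exact hqm

/-- `y` is normalised modulo `r p` -/
def YC (r : V → G) (p : V) (y : G) : Prop := ∀ g : G, g • p = p → g * y * g⁻¹ = y ∨ g * y * g⁻¹ = y * r p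

namespace Pts

variable {r : V → G} (R : Pts Γ τ r)

include R

theorem branch {p q q' : V} (hp : Γ.A l p) (hq : Γ.A l q) (hq' : Γ.A l q') (hqp : q ≠ p) (hqp' : q' ≠ p)
    (hty : Γ.ty p = τ) : r q' = r q ∨ r q' = r q * r p := by
  by_cases h : q' = q
  · left; rw [h]
  · right
    have tyq : Γ.ty q = τ := by rw [← hty]; exact ty_eq_of_adj hq hp
    exact (R.mul l q p q' hq hp hq' hqp (Ne.symm h) hqp'.symm tyq).symm

theorem YC_prod {p l1 l2 l3 q1 q2 q3 : V} (hty : Γ.ty p = τ) (h1 : Γ.A p l1) (h2 : Γ.A p l2) (h3 : Γ.A p l3)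
    (h12 : l1 ≠ l2) (h13 : l1 ≠ l3) (h23 : l2 ≠ l3) (k1 : Γ.A l1 q1) (k2 : Γ.A l2 q2) (k3 : Γ.A l3 q3)
    (n1 : q1 ≠ p) (n2 : q2 ≠ p) (n3 : q3 ≠ p) (c12 : r q1 * r q2 = r q2 * r q1) (c13 : r q1 * r q3 = r q3 * r q1)
    (c23 : r q2 * r q3 = r q3 * r q2) : YC r p (r q1 * r q2 * r q3) := by
  intro g hg
  have t1 : Γ.ty q1 = τ := by rw [← hty]; exact ty_eq_of_adj k1 (Γ.symm h1)
  have t2 : Γ.ty q2 = τ := by rw [← hty]; exact ty_eq_of_adj k2 (Γ.symm h2)
  have t3 : Γ.ty q3 = τ := by rw [← hty]; exact ty_eq_of_adj k3 (Γ.symm h3)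
  have e : g * (r q1 * r q2 * r q3) * g⁻¹ = r (g • q1) * r (g • q2) * r (g • q3) := by
    rw [← R.conj q1 g t1, ← R.conj q2 g t2, ← R.conj q3 g t3]; group
  have z1 : r p * r q1 = r q1 * r p := R.comm_nbr (Γ.symm h1) k1 hty
  have z2 : r p * r q2 = r q2 * r p := R.comm_nbr (Γ.symm h2) k2 hty
  have z3 : r p * r q3 = r q3 * r p := R.comm_nbr (Γ.symm h3) k3 hty
  have hzz := R.sq p hty
  have br : ∀ l l' q q', Γ.A p l' → Γ.A l q → Γ.A l' q' → q ≠ p → q' ≠ p → g • l = l' →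
      r (g • q) = r q' ∨ r (g • q) = r q' * r p := by
    intro l l' q q' hl' hq hq' hqp hqp' hgl
    have hA : Γ.A l' (g • q) := by
      have := Γ.smul g hq
      rwa [hgl] at this
    refine R.branch (Γ.symm hl') hq' hA hqp' ?_ hty
    intro h
    apply hqp
    apply MulAction.injective g
    show g • q = g • p
    rw [h, hg]
  rw [e]
  rcases perm_cases h1 h2 h3 h12 h13 h23 hg with ⟨g1, g2, g3⟩ | ⟨g1, g2, g3⟩ | ⟨g1, g2, g3⟩ | ⟨g1, g2, g3⟩ |
    ⟨g1, g2, g3⟩ | ⟨g1, g2, g3⟩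
  · exact prod3_mod hzz z2 z3 (br l1 l1 q1 q1 h1 k1 k1 n1 n1 g1) (br l2 l2 q2 q2 h2 k2 k2 n2 n2 g2)
      (br l3 l3 q3 q3 h3 k3 k3 n3 n3 g3)
  · have e1 : r q1 * r q2 * r q3 = r q1 * r q3 * r q2 := by rw [mul_assoc, c23, ← mul_assoc]
    rw [e1]
    exact prod3_mod hzz z3 z2 (br l1 l1 q1 q1 h1 k1 k1 n1 n1 g1) (br l2 l3 q2 q3 h3 k2 k3 n2 n3 g2)
      (br l3 l2 q3 q2 h2 k3 k2 n3 n2 g3)
  · have e1 : r q1 * r q2 * r q3 = r q2 * r q1 * r q3 := by rw [c12]
    rw [e1]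
    exact prod3_mod hzz z1 z3 (br l1 l2 q1 q2 h2 k1 k2 n1 n2 g1) (br l2 l1 q2 q1 h1 k2 k1 n2 n1 g2)
      (br l3 l3 q3 q3 h3 k3 k3 n3 n3 g3)
  · have e1 : r q1 * r q2 * r q3 = r q2 * r q3 * r q1 := by
      rw [c12, mul_assoc, c13, ← mul_assoc]
    rw [e1]
    exact prod3_mod hzz z3 z1 (br l1 l2 q1 q2 h2 k1 k2 n1 n2 g1) (br l2 l3 q2 q3 h3 k2 k3 n2 n3 g2)
      (br l3 l1 q3 q1 h1 k3 k1 n3 n1 g3)
  · have e1 : r q1 * r q2 * r q3 = r q3 * r q1 * r q2 := by
      rw [mul_assoc, c23, ← mul_assoc, c13]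
    rw [e1]
    exact prod3_mod hzz z1 z2 (br l1 l3 q1 q3 h3 k1 k3 n1 n3 g1) (br l2 l1 q2 q1 h1 k2 k1 n2 n1 g2)
      (br l3 l2 q3 q2 h2 k3 k2 n3 n2 g3)
  · have e1 : r q1 * r q2 * r q3 = r q3 * r q2 * r q1 := by
      rw [mul_assoc, c23, ← mul_assoc, c13, mul_assoc, c12, ← mul_assoc]
    rw [e1]
    exact prod3_mod hzz z2 z1 (br l1 l3 q1 q3 h3 k1 k3 n1 n3 g1) (br l2 l2 q2 q2 h2 k2 k2 n2 n2 g2)
      (br l3 l1 q3 q1 h1 k3 k1 n3 n1 g3)

end Pts

/-- the hypotheses of Case B, odd -/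
structure CO (Γ : Tri G V) (τ : Bool) (n : ℤ) : Prop where
  cb : CB Γ τ
  hmin : ∀ (p : ℤ → V) (i j : ℤ), i ≤ j → Γ.Arc p i j → Γ.ty (p i) = !τ → j - i < n → Γ.ZZ (p i) ≤ Γ.Q (p j)
  hn : 3 ≤ n
  odd : n % 2 = 1

namespace CO

variable {n : ℤ} (H : CO Γ τ n)

include H

theorem VB_le {p : ℤ → V} {i j : ℤ} (hij : i ≤ j) (hp : Γ.Arc p i j) (hty : Γ.ty (p i) = τ) (hlt : j - i ≤ n - 2) :
    Γ.VB (p i) ≤ Γ.Q (p j) := by
  by_cases hij' : i = j
  · subst hij'; exact H.cb.VB_le_Q hty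
  unfold VB
  rw [Subgroup.closure_le]
  rintro x ⟨l, hl, hx⟩
  by_cases hli : l = p (i + 1)
  · subst hli
    exact H.hmin p (i + 1) j (by omega) (hp.sub (by omega) le_rfl) (CB.ty_nbr' hty hl) (by omega) hx
  · obtain ⟨q, hq, hql, hqk⟩ := hp.exists_cons hl (fun _ => hli)
    have := H.hmin q (i - 1) j (by omega) hq (by rw [hql]; exact CB.ty_nbr' hty hl) (by omega)
      (by rw [hql]; exact hx)
    rwa [hqk j (by omega)] at this

theorem VB_le_rev {p : ℤ → V} {i j : ℤ} (hij : i ≤ j) (hp : Γ.Arc p i j) (hty : Γ.ty (p j) = τ)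
    (hlt : j - i ≤ n - 2) : Γ.VB (p j) ≤ Γ.Q (p i) := by
  have := H.VB_le (p := fun k => p (i + j - k)) hij (by
    have := hp.rev (i + j)
    have e1 : i + j - j = i := by ring
    have e2 : i + j - i = j := by ring
    rwa [e1, e2] at this) (by simpa using hty) hlt
  simpa using this

theorem VB_fix {p : ℤ → V} {i j : ℤ} (hp : Γ.Arc p i j) (hty : Γ.ty (p i) = τ) {k : ℤ} (h1 : i ≤ k) (h2 : k ≤ j)
    (h3 : k - i ≤ n - 1) {x : G} (hx : x ∈ Γ.VB (p i)) : x • p k = p k := by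
  rcases eq_or_lt_of_le h1 with h4 | h4
  · rw [← h4]; exact (H.cb.VB_le_Q hty hx).1
  · have h5 := H.VB_le (p := p) (i := i) (j := k - 1) (by omega) (hp.sub le_rfl (by omega)) hty (by omega) hx
    exact h5.2 _ (Γ.symm (hp.adj' h4 h2))

theorem VB_fix_rev {p : ℤ → V} {i j : ℤ} (hp : Γ.Arc p i j) (hty : Γ.ty (p j) = τ) {k : ℤ} (h1 : i ≤ k)
    (h2 : k ≤ j) (h3 : j - k ≤ n - 1) {x : G} (hx : x ∈ Γ.VB (p j)) : x • p k = p k := by
  have h4 := H.VB_fix (p := fun l => p (i + j - l)) (i := i) (j := j) (k := i + j - k) (by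
    have := hp.rev (i + j)
    have e1 : i + j - j = i := by ring
    have e2 : i + j - i = j := by ring
    rwa [e1, e2] at this) (by simpa using hty) (by omega) (by omega) (by omega) (x := x) (by simpa using hx)
  simpa using h4

theorem ZZ_le_Q_two {p : V} (hty : Γ.ty p = τ) (hl : Γ.A p l) (hm : Γ.A p m) : Γ.ZZ l ≤ Γ.Q m := by
  by_cases hlm : l = m
  · rw [hlm]; exact H.cb.np.ZZ_le_Q
  · obtain ⟨q, hq, h1, h2, h3⟩ := exists_arc2 hl hm hlm
    have hn := H.hn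
    have := H.hmin q (-1) 1 (by omega) hq (by rw [h1]; exact CB.ty_nbr' hty hl) (by omega)
    rwa [h1, h3] at this

theorem VB_le_Q_nbr {p : V} (hty : Γ.ty p = τ) (hl : Γ.A p l) : Γ.VB p ≤ Γ.Q l := by
  unfold VB
  rw [Subgroup.closure_le]
  rintro x ⟨m, hm, hx⟩
  exact H.ZZ_le_Q_two hty hm hl hx

theorem ZZ_VB_comm {p : V} (hty : Γ.ty p = τ) (hl : Γ.A p l) (hx : x ∈ Γ.ZZ l) (hy : y ∈ Γ.VB p) :
    x * y = y * x := ZZ_comm hx (H.VB_le_Q_nbr hty hl hy)

theorem VB_comm {p : V} (hty : Γ.ty p = τ) (hx : x ∈ Γ.VB p) (hy : y ∈ Γ.VB p) : x * y = y * x := by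
  unfold VB at hx
  induction hx using Subgroup.closure_induction with
  | mem x hx =>
    obtain ⟨l, hl, hx⟩ := hx
    exact H.ZZ_VB_comm hty hl hx hy
  | one => simp
  | mul x z _ _ h1 h2 => rw [mul_assoc, h2, ← mul_assoc, h1, mul_assoc]
  | inv x _ h1 =>
    calc x⁻¹ * y = x⁻¹ * (y * x) * x⁻¹ := by group
      _ = x⁻¹ * (x * y) * x⁻¹ := by rw [h1]
      _ = y * x⁻¹ := by group

theorem VB_sq {p : V} (hty : Γ.ty p = τ) (hx : x ∈ Γ.VB p) : x * x = 1 := by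
  have hx' := hx
  unfold VB at hx
  induction hx using Subgroup.closure_induction with
  | mem x hx =>
    obtain ⟨l, hl, hx⟩ := hx
    exact H.cb.np.ZZ_sq hx
  | one => simp
  | mul x y hx hy h1 h2 =>
    have h3 := H.VB_comm hty hy hx
    calc x * y * (x * y) = x * (y * x) * y := by group
      _ = (x * x) * (y * y) := by rw [h3]; group
      _ = 1 := by rw [h1 hx, h2 hy, one_mul]
  | inv x hx h1 =>
    have h1' := h1 hx
    rw [← mul_inv_rev, h1', inv_one]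

theorem VB_inv {p : V} (hty : Γ.ty p = τ) (hx : x ∈ Γ.VB p) : x⁻¹ = x :=
  inv_eq_of_mul_eq_one_left (H.VB_sq hty hx)

/-- `[VB p, Q p] ≤ ZB p` -/
theorem VB_act {p : V} (hty : Γ.ty p = τ) (hg : g ∈ Γ.Q p) (hx : x ∈ Γ.VB p) : ∃ c ∈ ZB G p, g * x * g⁻¹ = x * c := by
  unfold VB at hx
  induction hx using Subgroup.closure_induction with
  | mem x hx =>
    obtain ⟨l, hl, hx⟩ := hx
    exact H.cb.ZZ_act (CB.ty_nbr' hty hl) (Γ.symm hl) (Q_le_T' hl hg) hx
  | one => exact ⟨1, one_mem _, by group⟩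
  | mul x y _ hy h1 h2 =>
    obtain ⟨c, hc, e⟩ := h1
    obtain ⟨c', hc', e'⟩ := h2
    refine ⟨c * c', mul_mem hc hc', ?_⟩
    have h3 : y * c = c * y := ZB_comm hc (H.cb.VB_le_Q hty hy).1
    calc g * (x * y) * g⁻¹ = (g * x * g⁻¹) * (g * y * g⁻¹) := by group
      _ = x * (c * y) * c' := by rw [e, e']; group
      _ = x * y * (c * c') := by rw [← h3]; group
  | inv x hx h1 =>
    obtain ⟨c, hc, e⟩ := h1
    refine ⟨c⁻¹, inv_mem hc, ?_⟩
    have h3 : x⁻¹ * c⁻¹ = c⁻¹ * x⁻¹ := ZB_comm (inv_mem hc) (inv_fix (H.cb.VB_le_Q hty hx).1)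
    calc g * x⁻¹ * g⁻¹ = (g * x * g⁻¹)⁻¹ := by group
      _ = c⁻¹ * x⁻¹ := by rw [e, mul_inv_rev]
      _ = x⁻¹ * c⁻¹ := h3.symm

/-- decomposition of `VB p` -/
theorem VB_decomp {p l0 l1 l2 q1 q2 : V} (hty : Γ.ty p = τ) (h0 : Γ.A p l0) (h1 : Γ.A p l1) (h2 : Γ.A p l2)
    (h01 : l0 ≠ l1) (h02 : l0 ≠ l2) (h12 : l1 ≠ l2) (k1 : Γ.A l1 q1) (k2 : Γ.A l2 q2) (n1 : q1 ≠ p) (n2 : q2 ≠ p)
    (hx : x ∈ Γ.VB p) : ∃ a ∈ Γ.ZZ l0, ∃ b ∈ ZB G q1, ∃ c ∈ ZB G q2, x = a * b * c := by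
  have t1 : Γ.ty q1 = τ := by rw [← hty]; exact ty_eq_of_adj k1 (Γ.symm h1)
  have t2 : Γ.ty q2 = τ := by rw [← hty]; exact ty_eq_of_adj k2 (Γ.symm h2)
  have m0 : ∀ a ∈ Γ.ZZ l0, a ∈ Γ.VB p := fun a ha => ZZ_le_VB h0 ha
  have m1 : ∀ a ∈ ZB G q1, a ∈ Γ.VB p := fun a ha => ZZ_le_VB h1 (H.cb.ZB_le_ZZ t1 k1 ha)
  have m2 : ∀ a ∈ ZB G q2, a ∈ Γ.VB p := fun a ha => ZZ_le_VB h2 (H.cb.ZB_le_ZZ t2 k2 ha)
  unfold VB at hx
  induction hx using Subgroup.closure_induction with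
  | mem x hx =>
    obtain ⟨l, hl, hx⟩ := hx
    rcases eq_or h0 h1 h2 hl h01 h02 h12 with rfl | rfl | rfl
    · exact ⟨x, hx, 1, one_mem _, 1, one_mem _, by group⟩
    · obtain ⟨a, ha, b, hb, e⟩ := H.cb.ZZ_decomp (CB.ty_nbr' hty hl) (Γ.symm hl) k1 n1.symm hx
      exact ⟨a, H.cb.ZB_le_ZZ hty (Γ.symm h0) ha, b, hb, 1, one_mem _, by rw [e]; group⟩
    · obtain ⟨a, ha, b, hb, e⟩ := H.cb.ZZ_decomp (CB.ty_nbr' hty hl) (Γ.symm hl) k2 n2.symm hx
      exact ⟨a, H.cb.ZB_le_ZZ hty (Γ.symm h0) ha, 1, one_mem _, b, hb, by rw [e]; group⟩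
  | one => exact ⟨1, one_mem _, 1, one_mem _, 1, one_mem _, by group⟩
  | mul x y _ _ h1 h2 =>
    obtain ⟨a, ha, b, hb, c, hc, rfl⟩ := h1
    obtain ⟨a', ha', b', hb', c', hc', rfl⟩ := h2
    refine ⟨a * a', mul_mem ha ha', b * b', mul_mem hb hb', c * c', mul_mem hc hc', ?_⟩
    have e1 : c * (a' * b') = (a' * b') * c := H.VB_comm hty (m2 c hc) (mul_mem (m0 a' ha') (m1 b' hb'))
    have e2 : b * a' = a' * b := H.VB_comm hty (m1 b hb) (m0 a' ha')
    calc a * b * c * (a' * b' * c') = a * b * (c * (a' * b')) * c' := by group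
      _ = a * (b * a') * b' * c * c' := by rw [e1]; group
      _ = a * a' * (b * b') * (c * c') := by rw [e2]; group
  | inv x _ h1 =>
    obtain ⟨a, ha, b, hb, c, hc, rfl⟩ := h1
    refine ⟨a⁻¹, inv_mem ha, b⁻¹, inv_mem hb, c⁻¹, inv_mem hc, ?_⟩
    have e1 : c * (a * b) = (a * b) * c := H.VB_comm hty (m2 c hc) (mul_mem (m0 a ha) (m1 b hb))
    have e2 : b * a = a * b := H.VB_comm hty (m1 b hb) (m0 a ha)
    rw [← e1, ← e2]; group

/-- an element centralising `VB p` is in `Q p` and in `Q l` for `l ~ p` -/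
theorem mem_Q_of_VB {p : V} (hty : Γ.ty p = τ) (hg : g • p = p) (hc : ∀ x ∈ Γ.VB p, g * x = x * g) :
    g ∈ Γ.Q p ∧ ∀ l, Γ.A p l → g ∈ Γ.Q l := by
  have h1 : ∀ l, Γ.A p l → g ∈ Γ.Q l := fun l hl =>
    H.cb.mem_Q_of_comm' hty hl hg (fun x hx => hc x (ZZ_le_VB hl hx))
  exact ⟨⟨hg, fun l hl => (h1 l hl).1⟩, h1⟩

end CO

end Tri

end Cfsg.Agent.H209
end

-- part: H209/TriCBOddTwo
section
/-!
# Case B, odd critical distance: `VB p ∩ Q q` centralises `VB q` at distance `n - 1`, and `|ZB p| = 2`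
-/

set_option autoImplicit false

namespace Cfsg.Agent.H209

open MulAction

namespace Tri

variable {G V : Type*} [Group G] [MulAction G V] {Γ : Tri G V}
variable {u v w a b c d l m s : V} {g h t x y z : G} {τ : Bool}

theorem arc_trans' {m : ℤ} (hm : 1 ≤ m) (hM : ∀ k : ℤ, 1 ≤ k → k < m → ∀ τ, MvT Γ k τ) {p q : ℤ → V} {i i' : ℤ}
    (hp : Γ.Arc p i (i + m)) (hq : Γ.Arc q i' (i' + m)) (hty : Γ.ty (p i) = Γ.ty (q i')) :
    ∃ g : G, ∀ k, 0 ≤ k → k ≤ m → g • p (i + k) = q (i' + k) := by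
  have e3 : ((m.toNat : ℕ) : ℤ) = m := by omega
  have hq' := hq.shift (i' - i)
  have e1 : i' - (i' - i) = i := by ring
  have e2 : i' + m - (i' - i) = i + m := by ring
  rw [e1, e2] at hq'
  obtain ⟨g, hg⟩ := arc_trans (Γ := Γ) m.toNat (by omega) (by rw [e3]; exact hM) (p := p)
    (q := fun k => q (k + (i' - i))) (i := i) (by rw [e3]; exact hp) (by rw [e3]; exact hq') (by
      have : i + (i' - i) = i' := by ring
      simp only [this]; exact hty)
  rw [e3] at hg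
  refine ⟨g, fun k h1 h2 => ?_⟩
  have := hg (i + k) (by omega) (by omega)
  have e : i + k + (i' - i) = i' + k := by ring
  simp only [e] at this
  exact this

/-- `VB p ∩ Q q` centralises `VB q` at distance `n - 1` -/
def G4 (Γ : Tri G V) (τ : Bool) (n : ℤ) : Prop := ∀ (p : ℤ → V) (i j : ℤ), j = i + (n - 1) → Γ.Arc p i j →
  Γ.ty (p i) = τ → ∀ x ∈ Γ.VB (p i), x ∈ Γ.Q (p j) → ∀ y ∈ Γ.VB (p j), x * y = y * x

namespace CO

variable {n : ℤ} (H : CO Γ τ n)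

include H

theorem G4_of_Fx {j0 : ℤ} (hj0 : j0 ≤ n) (hFx : Fx Γ j0 (!τ)) : G4 Γ τ n := by
  have hn := H.hn
  intro p i j hij hp hty x hx hxQ y hy
  have tj : Γ.ty (p j) = τ := by
    rw [← hty]; exact hp.ty_even le_rfl (by omega) (by omega) le_rfl (by have := H.odd; omega)
  have hA : Γ.A (p j) (p (j - 1)) := hp.adj' (by omega) le_rfl
  have key : ∀ m, Γ.A (p j) m → x ∈ Γ.Q m := by
    intro m hm
    by_cases hmj : m = p (j - 1)
    · subst hmj
      exact H.VB_le (by omega) (hp.sub le_rfl (by omega)) hty (by omega) hx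
    · obtain ⟨q, hq, hqm, hqk⟩ := hp.exists_snoc hm (fun _ => hmj)
      have e : i + n = j + 1 := by omega
      have := (hFx.mono (j' := n) hj0) q i (by rw [e]; exact hq) (by rw [e, hqm]; exact CB.ty_nbr' tj hm) x (by
        intro k h1 h2
        rw [e] at h2
        rcases eq_or_lt_of_le h2 with h3 | h3
        · rw [h3, hqm]; exact hxQ.2 m hm
        · rw [hqk k (by omega)]
          exact H.VB_fix hp hty h1 (by omega) (by omega) hx)
      rwa [e, hqm] at this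
  unfold VB at hy
  induction hy using Subgroup.closure_induction with
  | mem y hy =>
    obtain ⟨m, hm, hy⟩ := hy
    exact (ZZ_comm hy (key m hm)).symm
  | one => simp
  | mul y z _ _ h1 h2 => rw [← mul_assoc, h1, mul_assoc, h2, mul_assoc]
  | inv y _ h1 =>
    calc x * y⁻¹ = y⁻¹ * (y * x) * y⁻¹ := by group
      _ = y⁻¹ * (x * y) * y⁻¹ := by rw [h1]
      _ = y⁻¹ * x := by group

section Mv

variable (hM : ∀ k : ℤ, 1 ≤ k → k ≤ n → ∀ τ', MvT Γ k τ')

include hM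

/-- the ends of an arc of length `n - 1` -/
theorem ZB_ends {p : ℤ → V} {i j : ℤ} (hij : j = i + (n - 1)) (hp : Γ.Arc p i j) (hty : Γ.ty (p i) = τ)
    (hx : x ∈ ZB G (p i)) (hx' : x ∈ ZB G (p j)) : x = 1 := by
  have hn := H.hn
  have hA : Γ.A (p i) (p (i + 1)) := hp.adj le_rfl (by omega)
  have hA' : Γ.A (p j) (p (j - 1)) := hp.adj' (by omega) le_rfl
  have hxV : x ∈ Γ.VB (p i) := ZZ_le_VB hA (H.cb.ZB_le_ZZ hty (Γ.symm hA) hx)
  apply arc_bot_elt Γ x (i := i) (j := j) (by omega) hp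
  · intro k h1 h2
    exact H.VB_fix hp hty h1 h2 (by omega) hxV
  · intro y hy
    obtain ⟨g, hg, hgy⟩ := exists_trans hA hy
    exact ⟨g, ZB_comm hx hg, i + 1, by omega, by omega, hgy⟩
  · intro y hy
    obtain ⟨g, hg, hgy⟩ := exists_trans hA' hy
    exact ⟨g, ZB_comm hx' hg, j - 1, by omega, by omega, hgy⟩
  · intro k h1 h2
    have e : i + (k - i) = k := by ring
    obtain ⟨g, hg, hgQ⟩ := hM (k - i) (by omega) (by omega) (Γ.ty (p k)) p i (hp.sub le_rfl (by omega)) (by rw [e])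
    rw [e] at hg hgQ
    exact ⟨g, ZB_comm hx (hg i le_rfl (by omega)), hg k (by omega) le_rfl,
      Or.inl (hg (k - 1) (by omega) (by omega)), hgQ⟩

theorem X1 {p : ℤ → V} (hp : Γ.Arc p 0 n) (hty : Γ.ty (p 0) = !τ) (hx : x ∈ Γ.VB (p n)) (hx1 : x ∈ Γ.Q (p 1))
    (hx0 : x ∉ Γ.Q (p 0)) (u : G) (hu : u ∈ Γ.ZZ (p 0)) (huQ : u ∈ Γ.Q (p n)) : u ∈ ZB G (p 1) := by
  have hn := H.hn
  have hA : Γ.A (p 0) (p 1) := hp.adj (k := 0) le_rfl (by omega)
  have t1 := CB.ty_nbr hty hA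
  have tn : Γ.ty (p n) = τ := by
    rw [← t1]; exact hp.ty_even (by omega) (by omega) (by omega) le_rfl (by have := H.odd; omega)
  have hxT : x ∈ (T (p 0) (p 1) : Subgroup G) := Q_le_T' (Γ.symm hA) hx1
  obtain ⟨c, hc, e⟩ := H.cb.ZZ_act hty hA hxT hu
  obtain ⟨c', hc', e'⟩ := H.VB_act tn huQ hx
  have hcomm : u * x = x * u := by
    apply comm_of e e' (H.cb.np.ZZ_sq hu) (H.VB_sq tn hx)
    intro h
    apply H.ZB_ends hM (i := 1) (j := n) (by ring) (hp.sub (by omega) le_rfl) t1 hc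
    rw [h]; exact inv_mem hc'
  exact H.cb.ZZ_cent hty hA hxT hx0 hu hcomm.symm

theorem X2 {p : ℤ → V} (hp : Γ.Arc p 0 n) (hty : Γ.ty (p 0) = !τ)
    (h : ∀ u ∈ Γ.ZZ (p 0), u ∈ Γ.Q (p n) → u ∈ ZB G (p 1)) {q : ℤ → V} (hq : Γ.Arc q 0 n) (hty' : Γ.ty (q 0) = !τ)
    (u : G) (hu : u ∈ Γ.ZZ (q 0)) (huQ : u ∈ Γ.Q (q n)) : u ∈ ZB G (q 1) := by
  have hn := H.hn
  obtain ⟨g, hg⟩ := arc_trans' (Γ := Γ) (m := n) (by omega) (fun k h1 h2 => hM k h1 (by omega)) (p := q) (q := p)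
    (i := 0) (i' := 0) (by rw [zero_add]; exact hq) (by rw [zero_add]; exact hp) (by rw [hty, hty'])
  simp only [zero_add] at hg
  have h1 := h _ (conj_mem_ZZ_of_eq hu (hg 0 le_rfl (by omega))) (conj_mem_Q_of_eq huQ (hg n (by omega) le_rfl))
  have h2 := conj_mem_ZB_of_eq (h := g⁻¹) (q := q 1) h1 (by rw [← hg 1 (by omega) (by omega), inv_smul_smul])
  have e : g⁻¹ * (g * u * g⁻¹) * g⁻¹⁻¹ = u := by group
  rwa [e] at h2

theorem X3 {r : V → G} (R : Pts Γ τ r) (hr : ∀ p, Γ.ty p = τ → r p ∈ ZB G p ∧ ∀ x ∈ ZB G p, x = 1 ∨ x = r p)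
    (hcrit : ∀ q : ℤ → V, Γ.Arc q 0 n → Γ.ty (q 0) = !τ → ∀ u ∈ Γ.ZZ (q 0), u ∈ Γ.Q (q n) → u ∈ ZB G (q 1))
    {q : ℤ → V} (hq : Γ.Arc q 0 n) (hty : Γ.ty (q 0) = !τ) {s v : G} (hs : s ∈ Γ.VB (q 1)) (hsQ : s ∈ Γ.Q (q n))
    (hv : v ∈ Γ.VB (q n)) : s * v = v * s := by
  have hn := H.hn
  have h01 : Γ.A (q 0) (q 1) := hq.adj (k := 0) le_rfl (by omega)
  have h12 : Γ.A (q 1) (q 2) := hq.adj (k := 1) (by omega) (by omega)
  have h23 : Γ.A (q 2) (q 3) := hq.adj (k := 2) (by omega) (by omega)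
  have h02 : q 0 ≠ q 2 := hq.ne le_rfl (by omega) (by ring)
  have h13 : q 1 ≠ q 3 := hq.ne (by omega) (by omega) (by ring)
  have hAn : Γ.A (q n) (q (n - 1)) := hq.adj' (by omega) le_rfl
  have t1 := CB.ty_nbr hty h01
  have t2 := CB.ty_nbr' t1 h12
  have t3 := CB.ty_nbr t2 h23
  have tn : Γ.ty (q n) = τ := by
    rw [← t1]; exact hq.ty_even (by omega) (by omega) (by omega) le_rfl (by have := H.odd; omega)
  obtain ⟨m', hm', hm0, hm2, -⟩ := exists_third (Γ.symm h01) h12 h02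
  have tm' := CB.ty_nbr' t1 hm'
  obtain ⟨f, hf, hf1⟩ := exists_ne h01
  obtain ⟨f', hf', hf'1⟩ := exists_ne (Γ.symm hm')
  have tf := CB.ty_nbr hty hf
  have tf' := CB.ty_nbr tm' hf'
  -- the arc starting with `m'`
  obtain ⟨q', hq', hq'm, hq'k⟩ := (hq.sub (i' := 1) (j' := n) (by omega) le_rfl).exists_cons hm' (fun _ => hm2)
  have e10 : (1 : ℤ) - 1 = 0 := by ring
  rw [e10] at hq' hq'm
  have hfn : r f ∉ Γ.Q (q n) := by
    intro h
    have h1 := hcrit q hq hty _ (H.cb.ZB_le_ZZ tf hf (hr f tf).1) h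
    exact R.ne f tf (H.cb.ZB_inf hf h01 hf1 tf (hr f tf).1 h1)
  have hf'n : r f' ∉ Γ.Q (q n) := by
    intro h
    have h1 := hcrit q' hq' (by rw [hq'm]; exact tm') (r f')
      (by rw [hq'm]; exact H.cb.ZB_le_ZZ tf' hf' (hr f' tf').1) (by rw [hq'k n (by omega)]; exact h)
    rw [hq'k 1 le_rfl] at h1
    exact R.ne f' tf' (H.cb.ZB_inf hf' (Γ.symm hm') hf'1 tf' (hr f' tf').1 h1)
  have hfT : r f ∈ (T (q n) (q (n - 1)) : Subgroup G) :=
    Q_le_T' (Γ.symm hAn) (H.hmin q 0 (n - 1) (by omega) (hq.sub le_rfl (by omega)) hty (by omega)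
      (H.cb.ZB_le_ZZ tf hf (hr f tf).1))
  have hf'T : r f' ∈ (T (q n) (q (n - 1)) : Subgroup G) := by
    have := H.hmin q' 0 (n - 1) (by omega) (hq'.sub le_rfl (by omega)) (by rw [hq'm]; exact tm') (by omega)
      (by rw [hq'm]; exact H.cb.ZB_le_ZZ tf' hf' (hr f' tf').1)
    rw [hq'k (n - 1) (by omega)] at this
    exact Q_le_T' (Γ.symm hAn) this
  have hZ2 : Γ.ZZ (q 2) ≤ Γ.Q (q n) := H.hmin q 2 n (by omega) (hq.sub (by omega) le_rfl) t2 (by omega)
  have v1 : v • q 1 = q 1 := H.VB_fix_rev hq tn (by omega) (by omega) (by omega) hv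
  have v2 : v • q 2 = q 2 := H.VB_fix_rev hq tn (by omega) (by omega) (by omega) hv
  have hends : ∀ c c' : G, c ∈ ZB G (q 1) → c' ∈ ZB G (q n) → c = c'⁻¹ → c = 1 := by
    intro c c' hc hc' h
    apply H.ZB_ends hM (i := 1) (j := n) (by ring) (hq.sub (by omega) le_rfl) t1 hc
    rw [h]; exact inv_mem hc'
  have aux1 : ∀ a ∈ Γ.ZZ (q 2), a * v = v * a := by
    intro a ha
    obtain ⟨c, hc, e⟩ := H.cb.ZZ_act t2 (Γ.symm h12) (mem_T.2 ⟨v2, v1⟩) ha
    obtain ⟨c', hc', e'⟩ := H.VB_act tn (hZ2 ha) hv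
    exact comm_of e e' (H.cb.np.ZZ_sq ha) (H.VB_sq tn hv) (hends c c' hc hc')
  have mf : r f ∈ Γ.VB (q 1) := ZZ_le_VB (Γ.symm h01) (H.cb.ZB_le_ZZ tf hf (hr f tf).1)
  have mf' : r f' ∈ Γ.VB (q 1) := ZZ_le_VB hm' (H.cb.ZB_le_ZZ tf' hf' (hr f' tf').1)
  have m3' : r (q 3) ∈ Γ.ZZ (q 2) := H.cb.ZB_le_ZZ t3 h23 (hr _ t3).1
  have m3 : r (q 3) ∈ Γ.VB (q 1) := ZZ_le_VB h12 m3'
  have aux2 : (r f * r f' * r (q 3)) * v = v * (r f * r f' * r (q 3)) := by
    have hYC : YC r (q 1) (r f * r f' * r (q 3)) :=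
      R.YC_prod t1 (Γ.symm h01) hm' h12 hm0.symm h02 hm2 hf hf' h23 hf1 hf'1 h13.symm
        (H.VB_comm t1 mf mf') (H.VB_comm t1 mf m3) (H.VB_comm t1 mf' m3)
    have hyQ : r f * r f' * r (q 3) ∈ Γ.Q (q n) :=
      mul_mem (mul_mem_Q hAn hfT hf'T hfn hf'n) (hZ2 m3')
    have hyV : r f * r f' * r (q 3) ∈ Γ.VB (q 1) := mul_mem (mul_mem mf mf') m3
    obtain ⟨c', hc', e'⟩ := H.VB_act tn hyQ hv
    have h1 : ∃ c ∈ ZB G (q 1), v * (r f * r f' * r (q 3)) * v⁻¹ = (r f * r f' * r (q 3)) * c := by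
      rcases hYC v v1 with h | h
      · exact ⟨1, one_mem _, by rw [h, mul_one]⟩
      · exact ⟨r (q 1), (hr _ t1).1, h⟩
    obtain ⟨c, hc, e⟩ := h1
    exact comm_of e e' (H.VB_sq t1 hyV) (H.VB_sq tn hv) (hends c c' hc hc')
  obtain ⟨a, ha, b, hb, c, hc, rfl⟩ := H.VB_decomp t1 h12 (Γ.symm h01) hm' h02.symm hm2.symm hm0.symm hf hf' hf1
    hf'1 hs
  rcases (hr f tf).2 b hb with rfl | rfl <;> rcases (hr f' tf').2 c hc with rfl | rfl
  · rw [mul_one, mul_one]; exact aux1 a ha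
  · exfalso
    rw [mul_one] at hsQ
    exact hf'n ((mul_mem_cancel_left (hZ2 ha)).1 hsQ)
  · exfalso
    rw [mul_one] at hsQ
    exact hfn ((mul_mem_cancel_left (hZ2 ha)).1 hsQ)
  · have e1 : a * r f * r f' = a * (r f * r f' * r (q 3)) * (r (q 3))⁻¹ := by group
    have c1 := aux1 a ha
    have c2 := aux2
    have c3 := aux1 _ (inv_mem m3')
    rw [e1]
    calc a * (r f * r f' * r (q 3)) * (r (q 3))⁻¹ * v = a * (r f * r f' * r (q 3)) * ((r (q 3))⁻¹ * v) := by group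
      _ = a * ((r f * r f' * r (q 3)) * v) * (r (q 3))⁻¹ := by rw [c3]; group
      _ = (a * v) * (r f * r f' * r (q 3)) * (r (q 3))⁻¹ := by rw [c2]; group
      _ = v * (a * (r f * r f' * r (q 3)) * (r (q 3))⁻¹) := by rw [c1]; group

/-- G4 in the locally arc-transitive case -/
theorem G4_of_Mv : G4 Γ τ n := by
  have hn := H.hn
  have hodd := H.odd
  -- Claim X
  have claim : ∀ p : ℤ → V, Γ.Arc p 0 n → Γ.ty (p 0) = !τ → ∀ x ∈ Γ.VB (p n), x ∈ Γ.Q (p 1) → x ∈ Γ.Q (p 0) := by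
    intro p hp hty x hx hx1
    by_contra hx0
    have hA : Γ.A (p 0) (p 1) := hp.adj (k := 0) le_rfl (by omega)
    have t1 := CB.ty_nbr hty hA
    have tn : Γ.ty (p n) = τ := by
      rw [← t1]; exact hp.ty_even (by omega) (by omega) (by omega) le_rfl (by omega)
    have hAn : Γ.A (p n) (p (n - 1)) := hp.adj' (by omega) le_rfl
    have hX1 := H.X1 hM hp hty hx hx1 hx0
    have hZle : Γ.ZZ (p 0) ≤ Γ.Q (p (n - 1)) :=
      H.hmin p 0 (n - 1) (by omega) (hp.sub le_rfl (by omega)) hty (by omega)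
    obtain ⟨r, R, hr⟩ := H.cb.exists_Pts (H.cb.K1_of (w := p n) hty hA hX1 (fun x hx y hy hxQ hyQ =>
      mul_mem_Q hAn (Q_le_T' (Γ.symm hAn) (hZle hx)) (Q_le_T' (Γ.symm hAn) (hZle hy)) hxQ hyQ))
    have hcrit := fun (q : ℤ → V) (hq : Γ.Arc q 0 n) (hq' : Γ.ty (q 0) = !τ) => H.X2 hM hp hty hX1 hq hq'
    -- reverse
    obtain ⟨m, hm, hmn⟩ := exists_ne hAn
    have hrev := (hp.sub (i' := 1) (j' := n) (by omega) le_rfl).rev (1 + n)
    have e1 : 1 + n - n = 1 := by ring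
    have e2 : 1 + n - 1 = n := by ring
    rw [e1, e2] at hrev
    obtain ⟨q, hq, hqm, hqk⟩ := hrev.exists_cons (x := m) (by simp only [e2]; exact hm) (fun _ => by
      have e3 : 1 + n - (1 + 1) = n - 1 := by ring
      simp only [e3]; exact hmn)
    have e0 : (1 : ℤ) - 1 = 0 := by ring
    rw [e0] at hq hqm
    have q1 : q 1 = p n := by rw [hqk 1 le_rfl]; simp only [e2]
    have qn : q n = p 1 := by rw [hqk n (by omega)]; simp only [e1]
    have hcomm : ∀ y ∈ Γ.VB (p 1), x * y = y * x := by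
      intro y hy
      refine H.X3 hM R hr hcrit hq ?_ (s := x) (v := y) ?_ ?_ ?_
      · rw [hqm]; exact CB.ty_nbr' tn hm
      · rw [q1]; exact hx
      · rw [qn]; exact hx1
      · rw [qn]; exact hy
    exact hx0 ((H.mem_Q_of_VB t1 hx1.1 hcomm).2 _ (Γ.symm hA))
  intro p i j hij hp hty x hx hxQ y hy
  have tj : Γ.ty (p j) = τ := by
    rw [← hty]; exact hp.ty_even le_rfl (by omega) (by omega) le_rfl (by omega)
  have hA : Γ.A (p j) (p (j - 1)) := hp.adj' (by omega) le_rfl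
  have key : ∀ m, Γ.A (p j) m → x ∈ Γ.Q m := by
    intro m hm
    by_cases hmj : m = p (j - 1)
    · subst hmj
      exact H.VB_le (by omega) (hp.sub le_rfl (by omega)) hty (by omega) hx
    · -- the arc `m, p j, ..., p i`
      have hrev := hp.rev (j + 1)
      have e1 : j + 1 - j = 1 := by ring
      have e2 : j + 1 - i = n := by omega
      rw [e1, e2] at hrev
      obtain ⟨q, hq, hqm, hqk⟩ := hrev.exists_cons (x := m) (by
        have e3 : j + 1 - 1 = j := by ring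
        simp only [e3]; exact hm) (fun _ => by
        have e3 : j + 1 - (1 + 1) = j - 1 := by ring
        simp only [e3]; exact hmj)
      have e0 : (1 : ℤ) - 1 = 0 := by ring
      rw [e0] at hq hqm
      have q1 : q 1 = p j := by
        rw [hqk 1 le_rfl]; congr 1; ring
      have qn : q n = p i := by
        rw [hqk n (by omega)]; congr 1; omega
      have := claim q hq (by rw [hqm]; exact CB.ty_nbr' tj hm) x (by rw [qn]; exact hx) (by rw [q1]; exact hxQ)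
      rwa [hqm] at this
  unfold VB at hy
  induction hy using Subgroup.closure_induction with
  | mem y hy =>
    obtain ⟨m, hm, hy⟩ := hy
    exact (ZZ_comm hy (key m hm)).symm
  | one => simp
  | mul y z _ _ h1 h2 => rw [← mul_assoc, h1, mul_assoc, h2, mul_assoc]
  | inv y _ h1 =>
    calc x * y⁻¹ = y⁻¹ * (y * x) * y⁻¹ := by group
      _ = y⁻¹ * (x * y) * y⁻¹ := by rw [h1]
      _ = y⁻¹ * x := by group

end Mv

/-- the dichotomy -/
theorem main_dichotomy {p : ℤ → V} (hp : Γ.Arc p 0 n) (hty : Γ.ty (p 0) = !τ) (hc : ¬ Γ.ZZ (p 0) ≤ Γ.Q (p n)) :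
    (∃ j, 1 ≤ j ∧ j ≤ n ∧ Fx Γ j (!τ)) ∨ (∀ k : ℤ, 1 ≤ k → k ≤ n → ∀ τ', MvT Γ k τ') := by
  have hn := H.hn
  rcases dichotomy Γ n with hM | ⟨j, hj1, hjn, -, τ', hFx⟩
  · exact Or.inr hM
  · left
    by_cases hτ' : τ' = !τ
    · subst hτ'; exact ⟨j, hj1, hjn, hFx⟩
    · exfalso
      have hτ : τ' = τ := by cases τ <;> cases τ' <;> simp_all
      subst hτ
      apply hc
      intro x hx
      have h01 : Γ.A (p 0) (p 1) := hp.adj (k := 0) le_rfl (by omega)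
      have t1 := CB.ty_nbr hty h01
      have tn : Γ.ty (p (0 + n)) = τ' := by
        rw [zero_add, ← t1]
        exact hp.ty_even (by omega) (by omega) (by omega) le_rfl (by have := H.odd; omega)
      have := (hFx.mono (j' := n) (by omega)) p 0 (by rw [zero_add]; exact hp) tn x (by
        intro k h1 h2
        rw [zero_add] at h2
        rcases eq_or_lt_of_le h1 with h3 | h3
        · rw [← h3]; exact (H.cb.np.ZZ_le_Q hx).1
        · exact CB.ZZ_fix H.hmin hp hty h3 h2 (by omega) hx)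
      rwa [zero_add] at this

section G4

variable (h4 : G4 Γ τ n)

include h4

/-- an element of `VB (p j)` outside `Q (p (i + 1))` for a critical arc -/
theorem exists_v {p : ℤ → V} {i j : ℤ} (hij : j = i + n) (hp : Γ.Arc p i j) (hty : Γ.ty (p i) = !τ)
    (hc : ¬ Γ.ZZ (p i) ≤ Γ.Q (p j)) : ∃ v ∈ Γ.VB (p j), v ∉ Γ.Q (p (i + 1)) := by
  have hn := H.hn
  have hodd := H.odd
  by_contra hcon
  push Not at hcon
  have hA : Γ.A (p i) (p (i + 1)) := hp.adj le_rfl (by omega)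
  have t1 := CB.ty_nbr hty hA
  have tj : Γ.ty (p j) = τ := by
    rw [← t1]; exact hp.ty_even (by omega) (by omega) (by omega) le_rfl (by omega)
  apply hc
  intro x hx
  have hxV : x ∈ Γ.VB (p (i + 1)) := ZZ_le_VB (Γ.symm hA) hx
  refine (H.mem_Q_of_VB tj ?_ ?_).1
  · exact CB.ZZ_fix H.hmin hp hty (by omega) le_rfl (by omega) hx
  · intro y hy
    have hrev := (hp.sub (i' := i + 1) (j' := j) (by omega) le_rfl).rev (i + 1 + j)
    have e1 : i + 1 + j - j = i + 1 := by ring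
    have e2 : i + 1 + j - (i + 1) = j := by ring
    rw [e1, e2] at hrev
    have := h4 _ (i + 1) j (by omega) hrev (by simp only [e2]; exact tj) y (by simp only [e2]; exact hy)
      (by simp only [e1]; exact hcon y hy) x (by simp only [e1]; exact hxV)
    exact this.symm

theorem crit_Q {p : ℤ → V} {i j : ℤ} (hij : j = i + n) (hp : Γ.Arc p i j) (hty : Γ.ty (p i) = !τ)
    (hc : ¬ Γ.ZZ (p i) ≤ Γ.Q (p j)) (u : G) (hu : u ∈ Γ.ZZ (p i)) (huQ : u ∈ Γ.Q (p j)) : u ∈ ZB G (p (i + 1)) := by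
  have hn := H.hn
  have hodd := H.odd
  obtain ⟨v, hv, hvQ⟩ := H.exists_v h4 hij hp hty hc
  have hA : Γ.A (p i) (p (i + 1)) := hp.adj le_rfl (by omega)
  have hB : Γ.A (p (i + 1)) (p (i + 2)) := by
    have := hp.adj (k := i + 1) (by omega) (by omega)
    have e : i + 1 + 1 = i + 2 := by ring
    rwa [e] at this
  have hne : p i ≠ p (i + 2) := hp.ne le_rfl (by omega) (by ring)
  have t1 := CB.ty_nbr hty hA
  have tj : Γ.ty (p j) = τ := by
    rw [← t1]; exact hp.ty_even (by omega) (by omega) (by omega) le_rfl (by omega)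
  have v1 : v • p (i + 1) = p (i + 1) := H.VB_fix_rev hp tj (by omega) (by omega) (by omega) hv
  have v2 : v • p (i + 2) = p (i + 2) := H.VB_fix_rev hp tj (by omega) (by omega) (by omega) hv
  have v0 : v • p i ≠ p i := fun h => hvQ (mem_Q_of_two v1 (Γ.symm hA) hB hne h v2)
  have hcomm := h4 p (i + 1) j (by omega) (hp.sub (by omega) le_rfl) t1 u (ZZ_le_VB (Γ.symm hA) hu) huQ v hv
  have h1 : u ∈ Γ.ZZ (v • p i) := by
    have := conj_mem_ZZ hu v
    rwa [← hcomm, mul_inv_cancel_right] at this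
  exact H.cb.ZZ_inter t1 (Γ.symm hA) (A_of_fix v1 (Γ.symm hA)) v0.symm hu h1

/-- the involutions -/
theorem exists_r {p : ℤ → V} (hp : Γ.Arc p 0 n) (hty : Γ.ty (p 0) = !τ) (hc : ¬ Γ.ZZ (p 0) ≤ Γ.Q (p n)) :
    ∃ r : V → G, Pts Γ τ r ∧ ∀ p, Γ.ty p = τ → r p ∈ ZB G p ∧ ∀ x ∈ ZB G p, x = 1 ∨ x = r p := by
  have hn := H.hn
  have hA : Γ.A (p 0) (p 1) := hp.adj (k := 0) le_rfl (by omega)
  have hAn : Γ.A (p n) (p (n - 1)) := hp.adj' (by omega) le_rfl
  have hZle : Γ.ZZ (p 0) ≤ Γ.Q (p (n - 1)) :=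
    H.hmin p 0 (n - 1) (by omega) (hp.sub le_rfl (by omega)) hty (by omega)
  exact H.cb.exists_Pts (H.cb.K1_of (w := p n) hty hA (H.crit_Q h4 (i := 0) (by ring) hp hty hc)
    (fun x hx y hy hxQ hyQ =>
      mul_mem_Q hAn (Q_le_T' (Γ.symm hAn) (hZle hx)) (Q_le_T' (Γ.symm hAn) (hZle hy)) hxQ hyQ))

end G4

end CO

end Tri

end Cfsg.Agent.H209
end

-- part: H209/TriTheta
section
/-!
# An element normalised modulo `r p` and modulo `r q` with `p`, `q` at distance four is trivial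
-/

set_option autoImplicit false

namespace Cfsg.Agent.H209

open MulAction

namespace Tri

variable {G V : Type*} [Group G] [MulAction G V] {Γ : Tri G V}
variable {u v w a b c d l m s : V} {g h t x y z : G} {τ : Bool}

section YC

variable {r : V → G}

theorem YC.comm_mul (R : Pts Γ τ r) {p : V} (hp : Γ.ty p = τ) (hY : YC r p y) (hg : g • p = p) (hh : h • p = p)
    (h1 : g * y ≠ y * g) (h2 : h * y ≠ y * h) : g * h * y = y * (g * h) := by
  rcases hY g hg with e1 | e1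
  · exact absurd (by calc g * y = (g * y * g⁻¹) * g := by group
                       _ = y * g := by rw [e1]) h1
  rcases hY h hh with e2 | e2
  · exact absurd (by calc h * y = (h * y * h⁻¹) * h := by group
                       _ = y * h := by rw [e2]) h2
  have hz := R.comm hp hg
  calc g * h * y = g * (h * y * h⁻¹) * h := by group
    _ = g * (y * r p) * h := by rw [e2]
    _ = (g * y * g⁻¹) * (g * r p) * h := by group
    _ = y * r p * (r p * g) * h := by rw [e1, hz]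
    _ = y * (r p * r p) * (g * h) := by group
    _ = y * (g * h) := by rw [R.sq p hp, mul_one]

theorem YC.comm_conj (R : Pts Γ τ r) {p : V} (hp : Γ.ty p = τ) (hY : YC r p y) (hg : g • p = p) (hh : h • p = p)
    (h1 : h * y = y * h) : (g * h * g⁻¹) * y = y * (g * h * g⁻¹) := by
  have hz := R.comm hp hh
  have key : h * (g⁻¹ * y * g⁻¹⁻¹) = (g⁻¹ * y * g⁻¹⁻¹) * h := by
    rcases hY g⁻¹ (inv_fix hg) with e | e
    · rw [e]; exact h1
    · rw [e, ← mul_assoc, h1, mul_assoc, hz, ← mul_assoc]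
  calc (g * h * g⁻¹) * y = g * (h * (g⁻¹ * y * g⁻¹⁻¹)) * g⁻¹ := by group
    _ = g * ((g⁻¹ * y * g⁻¹⁻¹) * h) * g⁻¹ := by rw [key]
    _ = y * (g * h * g⁻¹) := by group

theorem YC.conj (R : Pts Γ τ r) {p : V} (hp : Γ.ty p = τ) (hY : YC r p y) (g : G) :
    YC r (g • p) (g * y * g⁻¹) := by
  intro k hk
  have h1 : (g⁻¹ * k * g) • p = p := by
    rw [mul_smul, mul_smul, inv_smul_eq_iff]; exact hk
  rcases hY _ h1 with e | e
  · left
    calc k * (g * y * g⁻¹) * k⁻¹ = g * ((g⁻¹ * k * g) * y * (g⁻¹ * k * g)⁻¹) * g⁻¹ := by group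
      _ = g * y * g⁻¹ := by rw [e]
  · right
    calc k * (g * y * g⁻¹) * k⁻¹ = g * ((g⁻¹ * k * g) * y * (g⁻¹ * k * g)⁻¹) * g⁻¹ := by group
      _ = g * y * g⁻¹ * (g * r p * g⁻¹) := by rw [e]; group
      _ = g * y * g⁻¹ * r (g • p) := by rw [R.conj p g hp]

end YC

/-- folding an arc -/
theorem Arc.fold {P : ℤ → V} {m : ℤ} (hP : Γ.Arc P (-m) 0) {v : G} (hv : v • P 0 = P 0)
    (hne : v • P (-1) ≠ P (-1)) : Γ.Arc (fun k => if k ≤ 0 then P k else v • P (-k)) (-m) m := by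
  refine ⟨fun k h1 h2 => ?_, fun k h1 h2 => ?_⟩
  · by_cases hk : k < 0
    · simp only [if_pos hk.le, if_pos (show k + 1 ≤ 0 by omega)]
      exact hP.adj h1 hk
    · by_cases hk0 : k = 0
      · subst hk0
        simp only [if_pos le_rfl, zero_add, if_neg (show ¬ (1 : ℤ) ≤ 0 by omega)]
        have := Γ.smul v (hP.adj' (k := 0) (by omega) le_rfl)
        rw [hv] at this
        exact this
      · simp only [if_neg (show ¬ k ≤ 0 by omega), if_neg (show ¬ k + 1 ≤ 0 by omega)]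
        have := Γ.smul v (hP.adj' (k := -k) (by omega) (by omega))
        have e : -k - 1 = -(k + 1) := by ring
        rwa [e] at this
  · by_cases hk : k + 2 ≤ 0
    · simp only [if_pos (show k ≤ 0 by omega), if_pos hk]
      exact hP.2 k h1 hk
    · by_cases hk1 : k = -1
      · subst hk1
        simp only [if_pos (show (-1 : ℤ) ≤ 0 by omega), if_neg hk]
        have e : -((-1 : ℤ) + 2) = -1 := by ring
        rw [e]
        exact hne.symm
      · by_cases hk0 : k = 0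
        · subst hk0
          simp only [if_pos le_rfl, zero_add, if_neg (show ¬ (2 : ℤ) ≤ 0 by omega)]
          rw [← hv]
          intro h
          exact hP.ne (k := -2) (l := 0) (by omega) le_rfl (by ring) (MulAction.injective v h).symm
        · simp only [if_neg (show ¬ k ≤ 0 by omega), if_neg hk]
          intro h
          exact hP.ne (k := -(k + 2)) (l := -k) (by omega) (by omega) (by ring) (MulAction.injective v h).symm

namespace CB

variable (H : CB Γ τ) {r : V → G} (R : Pts Γ τ r)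
  (hr : ∀ p, Γ.ty p = τ → r p ∈ ZB G p ∧ ∀ x ∈ ZB G p, x = 1 ∨ x = r p)

include H R

theorem theta_one {q : ℤ → V} {i : ℤ} (hq : Γ.Arc q i (i + 4)) (hty : Γ.ty (q i) = τ) (hY : YC r (q (i + 4)) (r (q i))) :
    False := by
  have h01 : Γ.A (q (i + 1)) (q i) := by
    have := hq.adj' (k := i + 1) (by omega) (by omega)
    rwa [add_sub_cancel_right] at this
  have h12 : Γ.A (q (i + 1)) (q (i + 2)) := by
    have := hq.adj (k := i + 1) (by omega) (by omega)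
    have e : i + 1 + 1 = i + 2 := by ring
    rwa [e] at this
  have h32 : Γ.A (q (i + 3)) (q (i + 2)) := by
    have := hq.adj' (k := i + 3) (by omega) (by omega)
    have e : i + 3 - 1 = i + 2 := by ring
    rwa [e] at this
  have h34 : Γ.A (q (i + 3)) (q (i + 4)) := by
    have := hq.adj (k := i + 3) (by omega) (by omega)
    have e : i + 3 + 1 = i + 4 := by ring
    rwa [e] at this
  have n02 : q i ≠ q (i + 2) := hq.ne (by omega) (by omega) (by ring)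
  have n24 : q (i + 2) ≠ q (i + 4) := hq.ne (by omega) (by omega) (by ring)
  have t2 : Γ.ty (q (i + 2)) = τ := by rw [← hty]; exact hq.ty_two (by omega) (by omega) (by ring)
  have hrev := (hq.sub (i' := i + 1) (j' := i + 4) (by omega) le_rfl).rev (i + 4)
  have e1 : i + 4 - (i + 4) = 0 := by ring
  have e2 : i + 4 - (i + 1) = 3 := by ring
  rw [e1, e2] at hrev
  have e3 : i + 4 - 3 = i + 1 := by ring
  obtain ⟨g, hg, hgQ⟩ := H.np.mv3 (Γ.ty (q (i + 1))) (fun k => q (i + 4 - k)) 0 (by simpa using hrev) (by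
    simp only [zero_add, e3])
  simp only [zero_add, e3] at hgQ
  have f4 : g • q (i + 4) = q (i + 4) := by
    have := hg 0 le_rfl (by omega)
    simpa using this
  have f2 : g • q (i + 2) = q (i + 2) := by
    have := hg 2 (by omega) (by omega)
    have e : i + 4 - 2 = i + 2 := by ring
    simp only [e] at this
    exact this
  have f1 : g • q (i + 1) = q (i + 1) := by
    have := hg 3 (by omega) (by omega)
    simp only [e3] at this
    exact this
  have hne : g • q i ≠ q i := fun h => hgQ (mem_Q_of_two f1 h01 h12 n02 h f2)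
  have hA : Γ.A (q (i + 1)) (g • q i) := A_of_fix f1 h01
  have hne2 : g • q i ≠ q (i + 2) := by
    intro h
    rw [← f2] at h
    exact n02 (MulAction.injective g h)
  have hm := R.mul (q (i + 1)) (q i) (q (i + 2)) (g • q i) h01 h12 hA n02 hne.symm hne2.symm hty
  rcases hY g f4 with e | e
  · rw [R.conj _ g hty] at e
    exact hne (R.inj hA h01 (by rw [Γ.ty_smul]; exact hty) e)
  · rw [R.conj _ g hty, ← hm] at e
    exact n24 (R.inj h32 h34 t2 (mul_left_cancel e))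

/-- `r` takes different values at distance four -/
theorem Z4 {q : ℤ → V} {i j : ℤ} (hij : j = i + 4) (hq : Γ.Arc q i j) (hty : Γ.ty (q i) = τ) :
    r (q i) ≠ r (q j) := by
  subst hij
  intro h
  apply H.theta_one R hq hty
  intro g hg
  left
  rw [h]
  have t4 : Γ.ty (q (i + 4)) = τ := by
    rw [← hty]; exact hq.ty_even (by omega) (by omega) (by omega) (by omega) (by omega)
  rw [R.comm t4 hg, mul_inv_cancel_right]

include hr

theorem theta_side {q0 q1 q2 : V} (h01 : Γ.A q0 q1) (h12 : Γ.A q1 q2) (h02 : q0 ≠ q2) (hty : Γ.ty q0 = τ)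
    (hyT : y ∈ (T q0 q1 : Subgroup G)) (hy2 : y * y = 1) (hy1 : y ≠ 1) (hyr : y ≠ r q0) (hY : YC r q0 y) :
    (∀ x, Γ.A q0 x → ∃ g : G, g * y = y * g ∧ g • q1 = x) ∧
    (∃ g ∈ (T q0 q1 : Subgroup G), g * y = y * g ∧ g ∉ Γ.Q q1) ∧
    (∃ g ∈ Γ.Q q1, g * y = y * g ∧ g ∉ Γ.Q q2) := by
  -- `T q0 q1` does not centralise `y`
  have hT : ∃ t ∈ (T q0 q1 : Subgroup G), t * y ≠ y * t := by
    by_contra hcon
    push Not at hcon
    have h1 : y ∈ OZ (T q0 q1 : Subgroup G) := ⟨hyT, hy2, fun t ht => (hcon t ht).symm⟩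
    rw [H.OZ_T_eq hty h01] at h1
    rcases (hr q0 hty).2 y h1 with h | h
    · exact hy1 h
    · exact hyr h
  let C : Subgroup G :=
    { carrier := {g | g • q0 = q0 ∧ g * y = y * g}
      one_mem' := ⟨one_smul _ _, by simp⟩
      mul_mem' := by
        rintro g h ⟨h1, h2⟩ ⟨h3, h4⟩
        exact ⟨mul_fix h1 h3, by rw [mul_assoc, h4, ← mul_assoc, h2, mul_assoc]⟩
      inv_mem' := by
        rintro g ⟨h1, h2⟩
        refine ⟨inv_fix h1, ?_⟩
        calc g⁻¹ * y = g⁻¹ * (y * g) * g⁻¹ := by group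
          _ = g⁻¹ * (g * y) * g⁻¹ := by rw [h2]
          _ = y * g⁻¹ := by group }
  have hCn : ∀ g : G, g • q0 = q0 → ∀ n ∈ C, g * n * g⁻¹ ∈ C := by
    intro g hg n hn
    exact ⟨mul_fix (mul_fix hg hn.1) (inv_fix hg), hY.comm_conj R hty hg hn.1 hn.2⟩
  have hmul : ∀ g h : G, g • q0 = q0 → h • q0 = q0 → g ∉ C → h ∉ C → g * h ∈ C := by
    intro g h hg hh hgC hhC
    exact ⟨mul_fix hg hh, hY.comm_mul R hty hg hh (fun h1 => hgC ⟨hg, h1⟩) (fun h1 => hhC ⟨hh, h1⟩)⟩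
  refine ⟨?_, ?_, ?_⟩
  · intro x hx
    obtain ⟨n, hn, hnn⟩ := exists_sq_not_mem (Γ := Γ) (v := q0) (N := stabilizer G q0)
      (fun n hn => mem_stabilizer_iff.1 hn) (fun g hg n hn => mem_stabilizer_iff.2
        (mul_fix (mul_fix hg (mem_stabilizer_iff.1 hn)) (inv_fix hg))) (by
        obtain ⟨g, hg, hgQ⟩ := exists_T_not_mem_Q h01
        exact ⟨g, mem_stabilizer_iff.2 (mem_T.1 hg).1, hgQ⟩)
    have hn0 := mem_stabilizer_iff.1 hn
    have hnC : n * n ∈ C := by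
      by_cases h : n ∈ C
      · exact mul_mem h h
      · exact hmul n n hn0 hn0 h h
    obtain ⟨k, hk, hkx⟩ := normal_trans (N := C) (fun n hn => hn.1) hCn ⟨_, hnC, hnn⟩ h01 hx
    exact ⟨k, hk.2, hkx⟩
  · by_contra hcon
    push Not at hcon
    -- `Q q1` centralises `y`
    have h1 : ∀ g ∈ Γ.Q q1, g ∈ C := by
      intro g hg
      by_contra hgC
      obtain ⟨t, ht, htQ⟩ := exists_T_not_mem_Q (Γ.symm h01)
      rw [T_comm] at ht
      have ht0 := (mem_T.1 ht).1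
      have htC : t ∉ C := fun h => htQ (hcon t ht h.2)
      have hg0 : g • q0 = q0 := hg.2 _ (Γ.symm h01)
      have h2 := hmul t g ht0 hg0 htC hgC
      have h3 := hcon (t * g) (mul_mem ht (Q_le_T' (Γ.symm h01) hg)) h2.2
      exact htQ ((mul_mem_cancel_right hg).1 h3)
    obtain ⟨l, hl, hl1⟩ := exists_ne h01
    obtain ⟨k, hk, hkl⟩ := exists_trans h01 hl
    apply H.np.npu q0 q1 l h01 hl hl1.symm
    intro x hx
    have hx0 : x ∈ Γ.Q q0 := hx.1
    have hx1 : x ∈ Γ.Q q1 := hx.2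
    have h2 := h1 x hx1
    -- conjugate to `q1`
    have h3 : k⁻¹ * x * k⁻¹⁻¹ ∈ C := hCn k⁻¹ (inv_fix hk) x h2
    have h4 : k⁻¹ * x * k⁻¹⁻¹ ∈ Γ.Q q0 := conj_mem_Q_of_fix hx0 (inv_fix hk)
    have h5 := hcon _ (Q_le_T h01 h4) h3.2
    have h6 := conj_mem_Q_of_eq h5 hkl
    have e : k * (k⁻¹ * x * k⁻¹⁻¹) * k⁻¹ = x := by group
    rwa [e] at h6
  · by_contra hcon
    push Not at hcon
    obtain ⟨k, hk, hkQ⟩ := Set.not_subset.1 (H.np.nle q1 q2 h12)
    have hk' : k ∈ Γ.Q q1 := hk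
    have hk0 : k • q0 = q0 := hk'.2 _ (Γ.symm h01)
    have hkC : k ∉ C := fun h => hkQ (hcon k hk' h.2)
    have h1 : ∀ g ∈ Γ.Q q1, g ∈ Γ.Q q2 → g ∈ C := by
      intro g hg hg2
      by_contra hgC
      have h2 := hmul k g hk0 (hg.2 _ (Γ.symm h01)) hkC hgC
      have h3 := hcon (k * g) (mul_mem hk' hg) h2.2
      exact hkQ ((mul_mem_cancel_right hg2).1 h3)
    obtain ⟨s, hs, hs0, hs2, -⟩ := exists_third (Γ.symm h01) h12 h02
    obtain ⟨t, ht, htQ⟩ := exists_T_not_mem_Q (Γ.symm h01)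
    obtain ⟨ht1, ht0⟩ := mem_T.1 ht
    have sw := swap_of_not_mem ht1 (Γ.symm h01) h12 hs h02 hs0.symm hs2.symm ht0 htQ
    apply H.np.npu q1 q2 s h12 hs hs2.symm
    intro x hx
    have hx1 : x ∈ Γ.Q q1 := hx.1
    have hx2 : x ∈ Γ.Q q2 := hx.2
    have h2 := hCn t⁻¹ (inv_fix ht0) x (h1 x hx1 hx2)
    have h3 := hcon _ (conj_mem_Q_of_fix hx1 (inv_fix ht1)) h2.2
    have h4 := conj_mem_Q_of_eq h3 sw.1
    have e : t * (t⁻¹ * x * t⁻¹⁻¹) * t⁻¹ = x := by group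
    rwa [e] at h4

/-- **Lemma Θ** -/
theorem theta {q : ℤ → V} (hq : Γ.Arc q 0 4) (hty : Γ.ty (q 0) = τ) (hfix : ∀ k, 0 ≤ k → k ≤ 4 → y • q k = q k)
    (hy2 : y * y = 1) (h0 : YC r (q 0) y) (h4 : YC r (q 4) y) : y = 1 := by
  by_contra hy1
  have h01 : Γ.A (q 0) (q 1) := hq.adj (k := 0) le_rfl (by omega)
  have h12 : Γ.A (q 1) (q 2) := hq.adj (k := 1) (by omega) (by omega)
  have h23 : Γ.A (q 2) (q 3) := hq.adj (k := 2) (by omega) (by omega)
  have h34 : Γ.A (q 3) (q 4) := hq.adj (k := 3) (by omega) (by omega)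
  have n02 : q 0 ≠ q 2 := hq.ne le_rfl (by omega) (by ring)
  have n13 : q 1 ≠ q 3 := hq.ne (by omega) (by omega) (by ring)
  have n24 : q 2 ≠ q 4 := hq.ne (by omega) (by omega) (by ring)
  have t4 : Γ.ty (q 4) = τ := by
    rw [← hty]; exact hq.ty_even (by omega) (by omega) (by omega) (by omega) (by omega)
  have hy0 : y ≠ r (q 0) := by
    intro h
    rw [h] at h4
    exact H.theta_one R (i := 0) (by simpa using hq) hty (by simpa using h4)
  have hy4 : y ≠ r (q 4) := by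
    intro h
    rw [h] at h0
    have hrev := hq.rev 4
    exact H.theta_one R (q := fun k => q (4 - k)) (i := 0) (by simpa using hrev) (by simpa using t4) (by simpa using h0)
  obtain ⟨A1, ⟨g2, hg2, c2, hg2Q⟩, ⟨g3, hg3, c3, hg3Q⟩⟩ := H.theta_side R hr h01 h12 n02 hty
    (mem_T.2 ⟨hfix 0 le_rfl (by omega), hfix 1 (by omega) (by omega)⟩) hy2 hy1 hy0 h0
  obtain ⟨-, -, ⟨g4, hg4, c4, hg4Q⟩⟩ := H.theta_side R hr (Γ.symm h34) (Γ.symm h23) n24.symm t4
    (mem_T.2 ⟨hfix 4 (by omega) le_rfl, hfix 3 (by omega) (by omega)⟩) hy2 hy1 hy4 h4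
  have hz : ∀ g : G, g * y = y * g → ∀ n ∈ Subgroup.zpowers y, g⁻¹ * n * g ∈ Subgroup.zpowers y := by
    rintro g hg n ⟨m, rfl⟩
    have h1 : Commute g y := hg
    have h2 := (h1.zpow_right m).eq
    show g⁻¹ * (y ^ m) * g ∈ _
    rw [mul_assoc, ← h2, inv_mul_cancel_left]
    exact ⟨m, rfl⟩
  apply hy1
  apply closure_bot Γ (Subgroup.zpowers y) ({q 0, q 1, q 2} : Set V) ⟨q 0, Or.inl rfl⟩ _ _ y (Subgroup.mem_zpowers y)
  · rintro p hp n ⟨m, rfl⟩
    have h3 : y • p = p := by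
      rcases hp with rfl | rfl | hp
      · exact hfix 0 le_rfl (by omega)
      · exact hfix 1 (by omega) (by omega)
      · rw [Set.mem_singleton_iff] at hp; subst hp; exact hfix 2 (by omega) (by omega)
    show y ^ m • p = p
    exact mem_stabilizer_iff.1 (zpow_mem (mem_stabilizer_iff.2 h3) m)
  · rintro p (rfl | rfl | hp) x hx
    · obtain ⟨g, hg, hgx⟩ := A1 x hx
      exact ⟨g, hz g hg, q 1, Or.inr (Or.inl rfl), hgx⟩
    · obtain ⟨s, hs, hs0, hs2, hall⟩ := exists_third (Γ.symm h01) h12 n02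
      obtain ⟨g20, g21⟩ := mem_T.1 hg2
      have sw := swap_of_not_mem g21 (Γ.symm h01) h12 hs n02 hs0.symm hs2.symm g20 hg2Q
      rcases eq_or (Γ.symm h01) h12 hs hx n02 hs0.symm hs2.symm with rfl | rfl | rfl
      · exact ⟨1, hz 1 (by simp), q 0, Or.inl rfl, one_smul _ _⟩
      · exact ⟨1, hz 1 (by simp), q 2, Or.inr (Or.inr rfl), one_smul _ _⟩
      · exact ⟨g2, hz g2 c2, q 2, Or.inr (Or.inr rfl), sw.1⟩
    · rw [Set.mem_singleton_iff] at hp
      subst hp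
      obtain ⟨s, hs, hs1, hs3, hall⟩ := exists_third (Γ.symm h12) h23 n13
      have s3 := swap_of_not_mem (hg3.2 _ h12) (Γ.symm h12) h23 hs n13 hs1.symm hs3.symm hg3.1 hg3Q
      have s4 := swap_of_not_mem (hg4.2 _ (Γ.symm h23)) h23 (Γ.symm h12) hs n13.symm hs3.symm hs1.symm hg4.1 hg4Q
      rcases eq_or (Γ.symm h12) h23 hs hx n13 hs1.symm hs3.symm with rfl | rfl | rfl
      · exact ⟨1, hz 1 (by simp), q 1, Or.inr (Or.inl rfl), one_smul _ _⟩
      · refine ⟨g3 * g4, hz _ ?_, q 1, Or.inr (Or.inl rfl), by rw [mul_smul, s4.1, s3.2]⟩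
        rw [mul_assoc, c4, ← mul_assoc, c3, mul_assoc]
      · exact ⟨g4, hz g4 c4, q 1, Or.inr (Or.inl rfl), s4.1⟩

end CB

end Tri

end Cfsg.Agent.H209
end

-- part: H209/TriCBFive
section
/-!
# Case B, odd critical distance at least five: contradiction
-/

set_option autoImplicit false

namespace Cfsg.Agent.H209

open MulAction

namespace Tri

variable {G V : Type*} [Group G] [MulAction G V] {Γ : Tri G V}
variable {u v w a b c d l m s : V} {g h t x y z : G} {τ : Bool} {n : ℤ} {r : V → G}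

/-- the situation of the odd case -/
structure CR (Γ : Tri G V) (τ : Bool) (n : ℤ) (r : V → G) : Prop where
  co : CO Γ τ n
  R : Pts Γ τ r
  hr : ∀ p, Γ.ty p = τ → r p ∈ ZB G p ∧ ∀ x ∈ ZB G p, x = 1 ∨ x = r p
  g4 : G4 Γ τ n
  dich : (∃ j, 1 ≤ j ∧ j ≤ n ∧ Fx Γ j (!τ)) ∨ (∀ k : ℤ, 1 ≤ k → k ≤ n → ∀ τ', MvT Γ k τ')

/-- critical arcs of length `n - 1` -/
def BCr (Γ : Tri G V) (τ : Bool) (n : ℤ) (p : ℤ → V) (i j : ℤ) : Prop :=
  j = i + (n - 1) ∧ Γ.Arc p i j ∧ Γ.ty (p i) = τ ∧ ¬ Γ.VB (p i) ≤ Γ.Q (p j)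

/-- an element in `Q m` for all `m ~ p` centralises `VB p` -/
theorem comm_VB_of {p : V} (hx : ∀ m, Γ.A p m → x ∈ Γ.Q m) (hy : y ∈ Γ.VB p) : x * y = y * x := by
  unfold VB at hy
  induction hy using Subgroup.closure_induction with
  | mem y hy =>
    obtain ⟨m, hm, hy⟩ := hy
    exact (ZZ_comm hy (hx m hm)).symm
  | one => simp
  | mul y z _ _ h1 h2 => rw [← mul_assoc, h1, mul_assoc, h2, mul_assoc]
  | inv y _ h1 =>
    calc x * y⁻¹ = y⁻¹ * (y * x) * y⁻¹ := by group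
      _ = y⁻¹ * (x * y) * y⁻¹ := by rw [h1]
      _ = y⁻¹ * x := by group

/-- all arcs of length `n` are critical if one is, in the locally arc-transitive case -/
theorem crit_all (hn : 1 ≤ n) (hM : ∀ k : ℤ, 1 ≤ k → k ≤ n → ∀ τ', MvT Γ k τ') {p : ℤ → V} {i : ℤ}
    (hp : Γ.Arc p i (i + n)) (hc : ¬ Γ.ZZ (p i) ≤ Γ.Q (p (i + n))) {q : ℤ → V} {i' : ℤ} (hq : Γ.Arc q i' (i' + n))
    (hty : Γ.ty (p i) = Γ.ty (q i')) : ¬ Γ.ZZ (q i') ≤ Γ.Q (q (i' + n)) := by
  obtain ⟨g, hg⟩ := arc_trans' (Γ := Γ) hn (fun k h1 h2 => hM k h1 (by omega)) hp hq hty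
  have g0 := hg 0 le_rfl (by omega)
  have gn := hg n (by omega) le_rfl
  rw [add_zero, add_zero] at g0
  intro hle
  apply hc
  intro x hx
  have h1 := hle (conj_mem_ZZ_of_eq hx g0)
  have h2 := conj_mem_Q_of_eq (h := g⁻¹) (w := p (i + n)) h1 (by rw [← gn, inv_smul_smul])
  have e : g⁻¹ * (g * x * g⁻¹) * g⁻¹⁻¹ = x := by group
  rwa [e] at h2

namespace BCr

variable {p : ℤ → V} {i j : ℤ}

theorem ty_end (hc : BCr Γ τ n p i j) (H : CR Γ τ n r) : Γ.ty (p j) = τ := by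
  obtain ⟨h1, h2, h3, -⟩ := hc
  have := H.co.odd
  have := H.co.hn
  rw [← h3]; exact h2.ty_even le_rfl (by omega) (by omega) le_rfl (by omega)

theorem rev (hc : BCr Γ τ n p i j) (H : CR Γ τ n r) (c : ℤ) :
    BCr Γ τ n (fun k => p (c - k)) (c - j) (c - i) := by
  have tj := hc.ty_end H
  obtain ⟨h1, h2, h3, h4⟩ := hc
  have e1 : c - (c - j) = j := by ring
  have e2 : c - (c - i) = i := by ring
  refine ⟨by omega, h2.rev c, by simp only [e1]; exact tj, ?_⟩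
  simp only [e1, e2]
  intro hle
  apply h4
  intro x hx
  refine (H.co.mem_Q_of_VB tj ?_ ?_).1
  · exact H.co.VB_fix h2 h3 (by have := H.co.hn; omega) le_rfl (by omega) hx
  · intro y hy
    have := H.g4 (fun k => p (c - k)) (c - j) (c - i) (by omega) (h2.rev c) (by simp only [e1]; exact tj) y
      (by simp only [e1]; exact hy) (by simp only [e2]; exact hle hy) x (by simp only [e2]; exact hx)
    exact this.symm

theorem symm_le (hc : BCr Γ τ n p i j) (H : CR Γ τ n r) : ¬ Γ.VB (p j) ≤ Γ.Q (p i) := by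
  have := (hc.rev H (i + j)).2.2.2
  have e1 : i + j - (i + j - j) = j := by ring
  have e2 : i + j - (i + j - i) = i := by ring
  simp only [e1, e2] at this
  exact this

theorem exists_l (hc : BCr Γ τ n p i j) (H : CR Γ τ n r) :
    ∃ l, Γ.A (p i) l ∧ l ≠ p (i + 1) ∧ ¬ Γ.ZZ l ≤ Γ.Q (p j) := by
  obtain ⟨h1, h2, h3, h4⟩ := hc
  have hn := H.co.hn
  by_contra hcon
  push Not at hcon
  apply h4
  unfold VB
  rw [Subgroup.closure_le]
  rintro x ⟨l, hl, hx⟩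
  by_cases hli : l = p (i + 1)
  · subst hli
    exact H.co.hmin p (i + 1) j (by omega) (h2.sub (by omega) le_rfl) (CB.ty_nbr' h3 hl) (by omega) hx
  · exact hcon l hl hli hx

theorem congr {q : ℤ → V} (hc : BCr Γ τ n p i j) (h : ∀ k, i ≤ k → k ≤ j → q k = p k) (hn : 1 ≤ n) :
    BCr Γ τ n q i j := by
  obtain ⟨h1, h2, h3, h4⟩ := hc
  refine ⟨h1, ⟨fun k k1 k2 => ?_, fun k k1 k2 => ?_⟩, ?_, ?_⟩
  · rw [h k k1 (by omega), h (k + 1) (by omega) (by omega)]; exact h2.1 k k1 k2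
  · rw [h k k1 (by omega), h (k + 2) (by omega) (by omega)]; exact h2.2 k k1 k2
  · rw [h i le_rfl (by omega)]; exact h3
  · rw [h i le_rfl (by omega), h j (by omega) le_rfl]; exact h4

end BCr

namespace CR

variable (H : CR Γ τ n r)

include H

theorem r_mem_VB {p q : V} (hl : Γ.A p l) (hq : Γ.A l q) (hty : Γ.ty p = τ) : r q ∈ Γ.VB p := by
  have tq : Γ.ty q = τ := by rw [← hty]; exact ty_eq_of_adj hq (Γ.symm hl)
  exact ZZ_le_VB hl (H.co.cb.ZB_le_ZZ tq hq (H.hr q tq).1)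

theorem r_mem_ZZ {q : V} (hq : Γ.A l q) (hty : Γ.ty q = τ) : r q ∈ Γ.ZZ l :=
  H.co.cb.ZB_le_ZZ hty hq (H.hr q hty).1

/-- left shifts of critical arcs are critical -/
theorem shift_left (hn5 : 5 ≤ n) {p : ℤ → V} {i j : ℤ} (hc : BCr Γ τ n p i j) (hp : Γ.Arc p (i - 2) j) :
    BCr Γ τ n p (i - 2) (j - 2) := by
  have hodd := H.co.odd
  have tj := hc.ty_end H
  obtain ⟨v, hv, hvQ⟩ := Set.not_subset.1 (hc.symm_le H)
  obtain ⟨l, hl, hli, hlc⟩ := hc.exists_l H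
  obtain ⟨h1, h2, h3, h4⟩ := hc
  have ti2 : Γ.ty (p (i - 2)) = τ := by
    rw [← h3]; exact hp.ty_even (by omega) (by omega) le_rfl (by omega) (by omega)
  refine ⟨by omega, hp.sub le_rfl (by omega), ti2, ?_⟩
  intro hle
  -- the critical arc of length `n`
  obtain ⟨pl, hpl, hpll, hplk⟩ := h2.exists_cons hl (fun _ => hli)
  have hcl : ¬ Γ.ZZ (pl (i - 1)) ≤ Γ.Q (pl (i - 1 + n)) := by
    have e : i - 1 + n = j := by omega
    rw [hpll, e, hplk j (by omega)]; exact hlc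
  have tl := CB.ty_nbr' h3 hl
  rcases H.dich with ⟨j0, -, hj0, hFx⟩ | hM
  · have hA0 : Γ.A (p (i - 2)) (p (i - 1)) := by
      have := hp.adj (k := i - 2) le_rfl (by omega)
      have e : i - 2 + 1 = i - 1 := by ring
      rwa [e] at this
    have hA1 : Γ.A (p i) (p (i - 1)) := hp.adj' (by omega) (by omega)
    have hA2 : Γ.A (p i) (p (i + 1)) := hp.adj (by omega) (by omega)
    have hAj : Γ.A (p j) (p (j - 1)) := hp.adj' (by omega) le_rfl
    have hnei : p (i - 1) ≠ p (i + 1) := hp.ne (by omega) (by omega) (by ring)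
    have claimA : ∀ x ∈ Γ.VB (p (i - 2)), ∀ k, i - 2 ≤ k → k ≤ j - 1 → x • p k = p k := by
      intro x hx k k1 k2
      rcases eq_or_lt_of_le k2 with k3 | k3
      · have h5 := (hle hx).2 (p (j - 1)) (by
          have := hp.adj (k := j - 2) (by omega) (by omega)
          have e : j - 2 + 1 = j - 1 := by ring
          rwa [e] at this)
        rw [k3]; exact h5
      · exact H.co.VB_fix hp ti2 k1 (by omega) (by omega) hx
    have claimA' : ∀ x ∈ Γ.VB (p (i - 2)), x ∈ Γ.Q (p (j - 1)) := by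
      intro x hx
      have e : i - 2 + n = j - 1 := by omega
      have := (hFx.mono (j' := n) hj0) p (i - 2) (by rw [e]; exact hp.sub le_rfl (by omega))
        (by rw [e]; exact CB.ty_nbr' tj hAj) x (by
          intro k k1 k2
          rw [e] at k2
          exact claimA x hx k k1 k2)
      rwa [e] at this
    have claimB : ∀ x ∈ Γ.VB (p (i - 2)), x ∈ Γ.Q (p j) → x * v = v * x := by
      intro x hx hxQ
      apply comm_VB_of _ hv
      intro m hm
      by_cases hmj : m = p (j - 1)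
      · rw [hmj]; exact claimA' x hx
      · obtain ⟨q, hq, hqm, hqk⟩ := hp.exists_snoc hm (fun _ => hmj)
        have e : i - 2 + (n + 2) = j + 1 := by omega
        have := (hFx.mono (j' := n + 2) (by omega)) q (i - 2) (by rw [e]; exact hq)
          (by rw [e, hqm]; exact CB.ty_nbr' tj hm) x (by
            intro k k1 k2
            rw [e] at k2
            rcases eq_or_lt_of_le k2 with k3 | k3
            · rw [k3, hqm]; exact hxQ.2 m hm
            · rw [hqk k (by omega)]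
              rcases eq_or_lt_of_le (show k ≤ j by omega) with k4 | k4
              · rw [k4]; exact hxQ.1
              · exact claimA x hx k k1 (by omega))
        rwa [e, hqm] at this
    have vi : v • p i = p i := H.co.VB_fix_rev hp tj (by omega) (by omega) (by omega) hv
    have vi1 : v • p (i + 1) = p (i + 1) := H.co.VB_fix_rev hp tj (by omega) (by omega) (by omega) hv
    have vne : v • p (i - 1) ≠ p (i - 1) := fun h => hvQ (mem_Q_of_two vi hA1 hA2 hnei h vi1)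
    -- distance four
    have hZ4 : r (p (i - 2)) ≠ r (v • p (i - 2)) := by
      have hP := (hp.sub (i' := i - 2) (j' := i) le_rfl (by omega)).shift i
      have e1 : i - 2 - i = -2 := by ring
      have e2 : i - i = 0 := by ring
      rw [e1, e2] at hP
      have hF := hP.fold (v := v) (by simp only [zero_add]; exact vi) (by
        have e : -1 + i = i - 1 := by ring
        simp only [e]; exact vne)
      have := H.co.cb.Z4 H.R (i := -2) (j := 2) (by ring) hF (by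
        have e : -2 + i = i - 2 := by ring
        simp only [if_pos (show (-2 : ℤ) ≤ 0 by omega), e]; exact ti2)
      have e : -2 + i = i - 2 := by ring
      simp only [if_pos (show (-2 : ℤ) ≤ 0 by omega), if_neg (show ¬ (2 : ℤ) ≤ 0 by omega), e] at this
      exact this
    have hrV : r (p (i - 2)) ∈ Γ.VB (p (i - 2)) := H.r_mem_VB hA0 (Γ.symm hA0) ti2
    have conj_of : ∀ f, Γ.ty f = τ → r f ∈ Γ.VB (p (i - 2)) → r f ∈ Γ.Q (p j) → r f = r (v • f) := by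
      intro f tf hf hfQ
      rw [← H.R.conj f v tf, ← claimB _ hf hfQ, mul_inv_cancel_right]
    have hrn : r (p (i - 2)) ∉ Γ.Q (p j) := fun h => hZ4 (conj_of _ ti2 hrV h)
    obtain ⟨l3, hl3, hl3n⟩ := exists_ne hA0
    have tl3 := CB.ty_nbr' ti2 hl3
    have hex : ∃ f, Γ.A l3 f ∧ f ≠ p (i - 2) ∧ r f ∈ Γ.Q (p j) := by
      obtain ⟨f0, hf0, hf0n⟩ := exists_ne (Γ.symm hl3)
      by_cases hf0Q : r f0 ∈ Γ.Q (p j)
      · exact ⟨f0, hf0, hf0n, hf0Q⟩
      · obtain ⟨f, hf, hf1, hf2, -⟩ := exists_third (Γ.symm hl3) hf0 hf0n.symm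
        refine ⟨f, hf, hf1, ?_⟩
        rw [← H.R.mul l3 _ _ f (Γ.symm hl3) hf0 hf hf0n.symm hf1.symm hf2.symm ti2]
        exact mul_mem_Q hAj (Q_le_T' (Γ.symm hAj) (claimA' _ hrV))
          (Q_le_T' (Γ.symm hAj) (claimA' _ (H.r_mem_VB hl3 hf0 ti2))) hrn hf0Q
    obtain ⟨f, hf, hfn, hfQ⟩ := hex
    have tf : Γ.ty f = τ := CB.ty_nbr tl3 hf
    have hfV := H.r_mem_VB hl3 hf ti2
    have hfeq := conj_of f tf hfV hfQ
    -- the arc of length 8
    obtain ⟨p3, hp3, hp3l, hp3k⟩ := hp.exists_cons hl3 (fun _ => by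
      have e : i - 2 + 1 = i - 1 := by ring
      rw [e]; exact hl3n)
    obtain ⟨p4, hp4, hp4f, hp4k⟩ := hp3.exists_cons (x := f) (by rw [hp3l]; exact hf) (fun _ => by
      have e : i - 2 - 1 + 1 = i - 2 := by ring
      rw [e, hp3k _ le_rfl]; exact hfn)
    have e4 : i - 2 - 1 - 1 = i - 4 := by ring
    have e3 : i - 2 - 1 = i - 3 := by ring
    rw [e4] at hp4 hp4f
    rw [e3] at hp3l hp4k
    have q3 : p4 (i - 3) = l3 := by rw [hp4k _ le_rfl, hp3l]
    have qk : ∀ k ≥ i - 2, p4 k = p k := fun k hk => by rw [hp4k k (by omega), hp3k k hk]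
    have hP := (hp4.sub (i' := i - 4) (j' := i) le_rfl (by omega)).shift i
    have e1 : i - 4 - i = -4 := by ring
    have e2 : i - i = 0 := by ring
    rw [e1, e2] at hP
    have hF := hP.fold (v := v) (by simp only [zero_add]; rw [qk i (by omega)]; exact vi) (by
      have e : -1 + i = i - 1 := by ring
      simp only [e]; rw [qk (i - 1) (by omega)]; exact vne)
    have em4 : -4 + i = i - 4 := by ring
    refine H.R.mid_bot (i := -4) (m := 4) (by omega) (p := fun k => if k ≤ 0 then p4 (k + i) else v • p4 (-k + i))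
      (by norm_num; exact hF) ?_ ?_ ?_ (fun k k1 k2 τ' => H.co.cb.np.mv_le_three τ' k1 (by omega)) ?_
    · simp only [if_pos (show (-4 : ℤ) ≤ 0 by omega), em4, hp4f]; exact tf
    · have e5 : (-4 : ℤ) + 2 * 4 = 4 := by ring
      simp only [e5, if_pos (show (-4 : ℤ) ≤ 0 by omega), if_neg (show ¬ (4 : ℤ) ≤ 0 by omega), em4, hp4f]
      exact hfeq
    · intro k k1 k2
      have k3 : k ≤ 0 := by omega
      simp only [if_pos k3, if_pos (show (-4 : ℤ) ≤ 0 by omega), em4, hp4f]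
      rcases eq_or_lt_of_le k1 with k4 | k4
      · rw [← k4, em4, hp4f]; exact H.R.fixp f tf
      · rcases eq_or_lt_of_le (show -3 ≤ k by omega) with k5 | k5
        · have e : k + i = i - 3 := by omega
          rw [e, q3]
          exact (H.co.cb.np.ZZ_le_Q (H.r_mem_ZZ hf tf)).1
        · rw [qk (k + i) (by omega)]
          exact claimA _ hfV _ (by omega) (by omega)
    · have e5 : (-4 : ℤ) + 4 = 0 := by ring
      simp only [e5, if_pos le_rfl, zero_add]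
      rw [qk i (by omega), h3]
      -- `MvT 4 τ`
      obtain ⟨x0, hx0, hx0Q⟩ := Set.not_subset.1 hlc
      have e6 : j - 4 + 4 = j := by ring
      have tpl : Γ.ty (pl (i - 1)) = !τ := by rw [hpll]; exact tl
      have := MvT_of_one (Γ := Γ) (j := 4) (by omega)
        (fun k k1 k2 τ' => H.co.cb.np.mv_le_three τ' k1 (by omega)) (p := pl) (i := j - 4) (g := x0)
        (by rw [e6]; exact hpl.sub (by omega) le_rfl) (by
          intro k k1 k2
          rw [e6] at k2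
          exact CB.ZZ_fix H.co.hmin hpl tpl (by omega) k2 (by omega) (by rw [hpll]; exact hx0))
        (by rw [e6, hplk j (by omega)]; exact hx0Q)
      rwa [e6, hplk j (by omega), tj] at this
  · -- all arcs are critical
    have hA0 : Γ.A (p (i - 2)) (p (i - 1)) := by
      have := hp.adj (k := i - 2) le_rfl (by omega)
      have e : i - 2 + 1 = i - 1 := by ring
      rwa [e] at this
    obtain ⟨l3, hl3, hl3n⟩ := exists_ne hA0
    obtain ⟨p3, hp3, hp3l, hp3k⟩ := hp.exists_cons hl3 (fun _ => by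
      have e : i - 2 + 1 = i - 1 := by ring
      rw [e]; exact hl3n)
    have e3 : i - 2 - 1 = i - 3 := by ring
    rw [e3] at hp3 hp3l
    have e5 : i - 3 + n = j - 2 := by omega
    have e6 : i - 1 + n = j := by omega
    have := crit_all (Γ := Γ) (n := n) (by omega) hM (p := pl) (i := i - 1) (by rw [e6]; exact hpl) hcl (q := p3)
      (i' := i - 3) (by rw [e5]; exact hp3.sub le_rfl (by omega)) (by
        rw [hpll, hp3l, tl, CB.ty_nbr' ti2 hl3])
    apply this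
    rw [hp3l, e5, hp3k (j - 2) (by omega)]
    exact (ZZ_le_VB hl3).trans hle

/-- right shifts of critical arcs are critical -/
theorem shift_right (hn5 : 5 ≤ n) {p : ℤ → V} {i j : ℤ} (hc : BCr Γ τ n p i j) (hp : Γ.Arc p i (j + 2)) :
    BCr Γ τ n p (i + 2) (j + 2) := by
  have h1 := hc.rev H 0
  have h2 := H.shift_left hn5 h1 (by
    have := hp.rev 0
    have e : 0 - (j + 2) = 0 - j - 2 := by ring
    rwa [e] at this)
  have h3 := h2.rev H 0
  have e1 : 0 - (0 - i - 2) = i + 2 := by ring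
  have e2 : 0 - (0 - j - 2) = j + 2 := by ring
  rw [e1, e2] at h3
  have e3 : (fun k : ℤ => p (0 - (0 - k))) = p := by
    funext k
    congr 1; ring
  rw [e3] at h3
  exact h3

/-- the commutator relation -/
theorem rel (hn5 : 5 ≤ n) {p : ℤ → V} {i j : ℤ} (hc : BCr Γ τ n p i j) (hp : Γ.Arc p (i - 1) j) {f : V}
    (hf : Γ.A (p (i - 1)) f) (hfi : f ≠ p i) {v : G} (hv : v ∈ Γ.VB (p j)) (hvQ : v ∉ Γ.Q (p i)) :
    r f * (v * r f * v⁻¹) = r (p (i + 2)) := by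
  have hodd := H.co.odd
  have tj := hc.ty_end H
  obtain ⟨hij, h2, h3, h4⟩ := id hc
  -- extend to the right
  have hAj : Γ.A (p j) (p (j - 1)) := hp.adj' (by omega) le_rfl
  obtain ⟨x1, hx1, hx1n⟩ := exists_ne hAj
  obtain ⟨q1, hq1, hq1x, hq1k⟩ := hp.exists_snoc hx1 (fun _ => hx1n)
  have hAj1 : Γ.A (q1 (j + 1)) (q1 j) := by
    have := hq1.adj' (k := j + 1) (by omega) le_rfl
    rwa [add_sub_cancel_right] at this
  obtain ⟨x2, hx2, hx2n⟩ := exists_ne hAj1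
  obtain ⟨q, hq, hqx, hqk⟩ := hq1.exists_snoc hx2 (fun _ => by rw [add_sub_cancel_right]; exact hx2n)
  have e2 : j + 1 + 1 = j + 2 := by ring
  rw [e2] at hq hqx
  have qk : ∀ k ≤ j, q k = p k := fun k hk => by rw [hqk k (by omega), hq1k k hk]
  have hcq : BCr Γ τ n q i j := hc.congr (fun k k1 k2 => qk k k2) (by omega)
  have hcq2 := H.shift_right hn5 hcq (hq.sub (by omega) le_rfl)
  have tj2 := hcq2.ty_end H
  -- the element `h`
  have hrev := hcq2.rev H (i + 2 + (j + 2))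
  obtain ⟨l, hl, hln, hlc⟩ := hrev.exists_l H
  have e3 : i + 2 + (j + 2) - (i + 2 + (j + 2) - (j + 2)) = j + 2 := by ring
  have e4 : i + 2 + (j + 2) - (i + 2 + (j + 2) - (j + 2) + 1) = j + 1 := by ring
  have e5 : i + 2 + (j + 2) - (i + 2 + (j + 2) - (i + 2)) = i + 2 := by ring
  simp only [e3] at hl
  simp only [e4] at hln
  simp only [e5] at hlc
  obtain ⟨h, hh, hhQ⟩ := Set.not_subset.1 hlc
  obtain ⟨q', hq', hq'l, hq'k⟩ := hq.exists_snoc hl (fun _ => by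
    have e : j + 2 - 1 = j + 1 := by ring
    rw [e]; exact hln)
  have e6 : j + 2 + 1 = j + 3 := by ring
  rw [e6] at hq' hq'l
  have tl : Γ.ty (q' (j + 3)) = !τ := by rw [hq'l]; exact CB.ty_nbr' tj2 hl
  have hh' : h ∈ Γ.ZZ (q' (j + 3)) := by rw [hq'l]; exact hh
  have hfixh : ∀ k, i + 2 ≤ k → k ≤ j + 2 → h • q k = q k := by
    intro k k1 k2
    have := CB.ZZ_fix_rev H.co.hmin hq' tl (k := k) (by omega) (by omega) (by omega) hh'
    rwa [hq'k k (by omega)] at this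
  have hB1 : Γ.A (q (i + 2)) (q (i + 1)) := by
    have := hq.adj' (k := i + 2) (by omega) (by omega)
    have e : i + 2 - 1 = i + 1 := by ring
    rwa [e] at this
  have hB2 : Γ.A (q (i + 2)) (q (i + 3)) := by
    have := hq.adj (k := i + 2) (by omega) (by omega)
    have e : i + 2 + 1 = i + 3 := by ring
    rwa [e] at this
  have hBne : q (i + 1) ≠ q (i + 3) := hq.ne (by omega) (by omega) (by ring)
  have hne : h • q (i + 1) ≠ q (i + 1) := fun h1 => hhQ (mem_Q_of_two (hfixh _ le_rfl (by omega)) hB1 hB2 hBne h1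
    (hfixh _ (by omega) (by omega)))
  -- `h` commutes with `VB (q j)`
  have tqj : Γ.ty (q j) = τ := by rw [qk j le_rfl]; exact tj
  have hcomm : ∀ y ∈ Γ.VB (q j), h * y = y * h := by
    intro y hy
    apply comm_VB_of _ hy
    intro m hm
    by_cases hm1 : m = q (j + 1)
    · rw [hm1]
      have := CB.ZZ_le_rev H.co.hmin (p := q') (i := j + 1) (j := j + 3) (by omega) (hq'.sub (by omega) le_rfl) tl
        (by omega) hh'
      rwa [hq'k (j + 1) (by omega)] at this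
    · obtain ⟨q'', hq'', hq''m, hq''k⟩ := (hq'.sub (i' := j) (j' := j + 3) (by omega) le_rfl).exists_cons (x := m)
        (by rw [hq'k j (by omega)]; exact hm) (fun _ => by rw [hq'k (j + 1) (by omega)]; exact hm1)
      have := CB.ZZ_le_rev H.co.hmin (p := q'') (i := j - 1) (j := j + 3) (by omega) hq''
        (by rw [hq''k _ (by omega)]; exact tl) (by omega) (x := h) (by rw [hq''k _ (by omega)]; exact hh')
      rwa [hq''m] at this
  -- the element `y`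
  have hqi1 : q (i - 1) = p (i - 1) := qk _ (by omega)
  have hqi : q i = p i := qk _ (by omega)
  have tqi : Γ.ty (q i) = τ := by rw [hqi]; exact h3
  have hfA : Γ.A (q (i - 1)) f := by rw [hqi1]; exact hf
  have hfne : f ≠ q i := by rw [hqi]; exact hfi
  have hC1 : Γ.A (q i) (q (i - 1)) := hq.adj' (by omega) (by omega)
  have hC2 : Γ.A (q i) (q (i + 1)) := hq.adj (by omega) (by omega)
  have hCne : q (i - 1) ≠ q (i + 1) := hq.ne (by omega) (by omega) (by ring)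
  have tf : Γ.ty f = τ := by rw [← tqi]; exact ty_eq_of_adj hfA (Γ.symm hC1)
  have hv' : v ∈ Γ.VB (q j) := by rw [qk j le_rfl]; exact hv
  have hqj := hq.sub (i' := i - 1) (j' := j) le_rfl (by omega)
  have vi : v • q i = q i := H.co.VB_fix_rev hqj tqj (by omega) (by omega) (by omega) hv'
  have vi1 : v • q (i + 1) = q (i + 1) := H.co.VB_fix_rev hqj tqj (by omega) (by omega) (by omega) hv'
  have hvQ' : v ∉ Γ.Q (q i) := by rw [hqi]; exact hvQ
  have vne : v • q (i - 1) ≠ q (i - 1) := fun h1 => hvQ' (mem_Q_of_two vi hC1 hC2 hCne h1 vi1)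
  have vne2 : v • q (i - 1) ≠ q (i + 1) := by
    intro h1
    rw [← vi1] at h1
    exact hCne (MulAction.injective v h1)
  have hD : Γ.A (q (i + 1)) (q (i + 2)) := by
    have := hq.adj (k := i + 1) (by omega) (by omega)
    have e : i + 1 + 1 = i + 2 := by ring
    rwa [e] at this
  have hDne : q (i + 2) ≠ q i := (hq.ne (by omega) (by omega) (by ring)).symm
  have tq2 : Γ.ty (q (i + 2)) = τ := by rw [← tqi]; exact ty_eq_of_adj hD (Γ.symm hC2)
  have hvf : Γ.A (v • q (i - 1)) (v • f) := Γ.smul v hfA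
  have hvfne : v • f ≠ q i := by
    intro h1
    rw [← vi] at h1
    exact hfne (MulAction.injective v h1)
  have mf : r f ∈ Γ.VB (q i) := H.r_mem_VB hC1 hfA tqi
  have mvf : r (v • f) ∈ Γ.VB (q i) := H.r_mem_VB (A_of_fix vi hC1) hvf tqi
  have m2 : r (q (i + 2)) ∈ Γ.VB (q i) := H.r_mem_VB hC2 hD tqi
  have hYC : YC r (q i) (r f * r (v • f) * r (q (i + 2))) :=
    H.R.YC_prod tqi hC1 (A_of_fix vi hC1) hC2 vne.symm hCne vne2 hfA hvf hD hfne hvfne hDne
      (H.co.VB_comm tqi mf mvf) (H.co.VB_comm tqi mf m2) (H.co.VB_comm tqi mvf m2)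
  have hyV : r f * r (v • f) * r (q (i + 2)) ∈ Γ.VB (q i) := mul_mem (mul_mem mf mvf) m2
  have hfj : r f • q j = q j := CB.ZZ_fix H.co.hmin hqj (CB.ty_nbr' tqi hC1) (by omega) le_rfl (by omega)
    (H.r_mem_ZZ hfA tf)
  have ht : r f * r (v • f) ∈ Γ.VB (q j) := by
    have e : r f * r (v • f) = (r f * v * (r f)⁻¹) * v⁻¹ := by
      rw [← H.R.conj f v tf, H.R.inv tf]; group
    rw [e]
    exact mul_mem (conj_mem_VB_of_eq hv' hfj) (inv_mem hv')
  set y := r f * r (v • f) * r (q (i + 2)) with hydef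
  have hhy : h * y = y * h := by
    have c1 := hcomm _ ht
    have c2 : h * r (q (i + 2)) = r (q (i + 2)) * h := H.R.comm tq2 (hfixh _ le_rfl (by omega))
    calc h * y = (h * (r f * r (v • f))) * r (q (i + 2)) := by rw [hydef]; group
      _ = r f * r (v • f) * (h * r (q (i + 2))) := by rw [c1]; group
      _ = y * h := by rw [c2, hydef]; group
  -- the arc of length four
  have hP := (hq.sub (i' := i) (j' := i + 2) (by omega) (by omega)).shift (i + 2)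
  have f1 : i - (i + 2) = -2 := by ring
  have f2 : i + 2 - (i + 2) = 0 := by ring
  rw [f1, f2] at hP
  have g1 : -2 + (i + 2) = i := by ring
  have g2 : -1 + (i + 2) = i + 1 := by ring
  have hF := hP.fold (v := h) (by simp only [zero_add]; exact hfixh _ le_rfl (by omega)) (by
    simp only [g2]; exact hne)
  have hF' := hF.shift (-2)
  have g3 : (-2 : ℤ) - -2 = 0 := by ring
  have g4 : (2 : ℤ) - -2 = 4 := by ring
  rw [g3, g4] at hF'
  have hyfix : ∀ k, i ≤ k → k ≤ i + 2 → y • q k = q k := fun k k1 k2 =>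
    H.co.VB_fix (hq.sub (i' := i) (by omega) le_rfl) tqi k1 (by omega) (by omega) hyV
  have hy1 : y = 1 := by
    refine H.co.cb.theta H.R H.hr hF' ?_ ?_ (H.co.VB_sq tqi hyV) ?_ ?_
    · simp only [zero_add, if_pos (show (-2 : ℤ) ≤ 0 by omega), g1]; exact tqi
    · intro k k1 k2
      by_cases hk : k + -2 ≤ 0
      · simp only [if_pos hk]
        exact hyfix _ (by omega) (by omega)
      · simp only [if_neg hk]
        rw [← mul_smul, ← hhy, mul_smul, hyfix _ (by omega) (by omega)]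
    · simp only [zero_add, if_pos (show (-2 : ℤ) ≤ 0 by omega), g1]; exact hYC
    · have g5 : (4 : ℤ) + -2 = 2 := by ring
      simp only [g5, if_neg (show ¬ (2 : ℤ) ≤ 0 by omega), g1]
      have := hYC.conj H.R tqi h
      rwa [hhy, mul_inv_cancel_right] at this
  have hq2 : q (i + 2) = p (i + 2) := qk _ (by omega)
  rw [H.R.conj f v tf, ← hq2]
  have e : r f * r (v • f) = y * (r (q (i + 2)))⁻¹ := by rw [hydef]; group
  rw [e, hy1, one_mul, H.R.inv tq2]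

/-- `r f` is outside `Q (p j)` -/
theorem r_not_mem (hn5 : 5 ≤ n) {p : ℤ → V} {i j : ℤ} (hc : BCr Γ τ n p i j) (hp : Γ.Arc p (i - 1) j) {f : V}
    (hf : Γ.A (p (i - 1)) f) (hfi : f ≠ p i) : r f ∉ Γ.Q (p j) := by
  intro hQ
  obtain ⟨v, hv, hvQ⟩ := Set.not_subset.1 (hc.symm_le H)
  have h1 := H.rel hn5 hc hp hf hfi hv hvQ
  obtain ⟨hij, h2, h3, h4⟩ := hc
  have hC1 : Γ.A (p i) (p (i - 1)) := hp.adj' (by omega) (by omega)
  have hcomm := H.g4 p i j hij h2 h3 (r f) (H.r_mem_VB hC1 hf h3) hQ v hv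
  have tf : Γ.ty f = τ := by rw [← h3]; exact ty_eq_of_adj hf (Γ.symm hC1)
  rw [← hcomm, mul_inv_cancel_right, H.R.sq f tf] at h1
  have t2 : Γ.ty (p (i + 2)) = τ := by rw [← h3]; exact hp.ty_two (by omega) (by omega) (by ring)
  exact H.R.ne _ t2 h1.symm

theorem rel_mid (hn5 : 5 ≤ n) {p : ℤ → V} {i j : ℤ} (hc : BCr Γ τ n p i j) : r (p (i + 2)) = r (p (j - 2)) := by
  have hodd := H.co.odd
  have tj := hc.ty_end H
  obtain ⟨hij, h2, h3, h4⟩ := id hc
  have hA1 : Γ.A (p i) (p (i + 1)) := h2.adj le_rfl (by omega)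
  obtain ⟨x1, hx1, hx1n⟩ := exists_ne hA1
  obtain ⟨q1, hq1, hq1x, hq1k⟩ := h2.exists_cons hx1 (fun _ => hx1n)
  have hAj : Γ.A (q1 j) (q1 (j - 1)) := hq1.adj' (by omega) le_rfl
  obtain ⟨x2, hx2, hx2n⟩ := exists_ne hAj
  obtain ⟨q, hq, hqx, hqk⟩ := hq1.exists_snoc hx2 (fun _ => hx2n)
  have qk : ∀ k, i ≤ k → k ≤ j → q k = p k := fun k k1 k2 => by rw [hqk k k2, hq1k k k1]
  have hcq : BCr Γ τ n q i j := hc.congr qk (by omega)
  have hB1 : Γ.A (q (i - 1)) (q i) := by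
    have := hq.adj (k := i - 1) le_rfl (by omega)
    rwa [sub_add_cancel] at this
  have hB2 : Γ.A (q (j + 1)) (q j) := by
    have := hq.adj' (k := j + 1) (by omega) le_rfl
    rwa [add_sub_cancel_right] at this
  obtain ⟨f, hf, hfn⟩ := exists_ne hB1
  obtain ⟨f', hf', hf'n⟩ := exists_ne hB2
  have hrev := hcq.rev H (i + j)
  have e1 : i + j - (i + j - i) = i := by ring
  have e2 : i + j - (i + j - j) = j := by ring
  have e3 : i + j - (i + j - j - 1) = j + 1 := by ring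
  have hqrev := (hq.sub (i' := i) (j' := j + 1) (by omega) le_rfl).rev (i + j)
  have e4 : i + j - (j + 1) = i + j - j - 1 := by ring
  rw [e4] at hqrev
  have n1 : r f ∉ Γ.Q (q j) := H.r_not_mem hn5 hcq (hq.sub le_rfl (by omega)) hf hfn
  have n2 : r f' ∉ Γ.Q (q i) := by
    have := H.r_not_mem hn5 hrev hqrev (f := f') (by simp only [e3]; exact hf') (by simp only [e2]; exact hf'n)
    simp only [e1] at this
    exact this
  have tqi : Γ.ty (q i) = τ := by rw [qk i le_rfl (by omega)]; exact h3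
  have tqj : Γ.ty (q j) = τ := by rw [qk j (by omega) le_rfl]; exact tj
  have m1 : r f ∈ Γ.VB (q i) := H.r_mem_VB (Γ.symm hB1) hf tqi
  have m2 : r f' ∈ Γ.VB (q j) := H.r_mem_VB (Γ.symm hB2) hf' tqj
  have r1 := H.rel hn5 hcq (hq.sub le_rfl (by omega)) hf hfn m2 n2
  have r2 := H.rel hn5 hrev hqrev (f := f') (by simp only [e3]; exact hf') (by simp only [e2]; exact hf'n)
    (v := r f) (by simp only [e1]; exact m1) (by simp only [e2]; exact n1)
  have e5 : i + j - (i + j - j + 2) = j - 2 := by ring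
  simp only [e5] at r2
  have tf : Γ.ty f = τ := by rw [← tqi]; exact ty_eq_of_adj hf hB1
  have tf' : Γ.ty f' = τ := by rw [← tqj]; exact ty_eq_of_adj hf' hB2
  have i1 := H.R.inv tf
  have i2 := H.R.inv tf'
  have tj2 : Γ.ty (q (j - 2)) = τ := by
    rw [← tqi]; exact hq.ty_even (by omega) (by omega) (by omega) (by omega) (by omega)
  rw [← qk (i + 2) (by omega) (by omega), ← qk (j - 2) (by omega) (by omega), ← r1, ← H.R.inv tj2, ← r2]
  rw [mul_inv_rev, mul_inv_rev, mul_inv_rev, inv_inv, i1, i2]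
  group

theorem ge_seven (hn7 : 7 ≤ n) {p : ℤ → V} {i j : ℤ} (hc : BCr Γ τ n p i j) : False := by
  have hodd := H.co.odd
  obtain ⟨hij, h2, h3, h4⟩ := id hc
  -- extend to the left by four
  have ext : ∀ (p : ℤ → V) (i' : ℤ), i' < j → Γ.Arc p i' j → ∃ q, Γ.Arc q (i' - 1) j ∧ ∀ k ≥ i', q k = p k := by
    intro p i' hi hp
    obtain ⟨x, hx, hxn⟩ := exists_ne (hp.adj (k := i') le_rfl (by omega))
    obtain ⟨q, hq, -, hqk⟩ := hp.exists_cons hx (fun _ => hxn)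
    exact ⟨q, hq, hqk⟩
  obtain ⟨q1, hq1, k1⟩ := ext p i (by omega) h2
  obtain ⟨q2, hq2, k2⟩ := ext q1 (i - 1) (by omega) hq1
  obtain ⟨q3, hq3, k3⟩ := ext q2 (i - 1 - 1) (by omega) hq2
  obtain ⟨q, hq, k4⟩ := ext q3 (i - 1 - 1 - 1) (by omega) hq3
  have e1 : i - 1 - 1 - 1 - 1 = i - 4 := by ring
  rw [e1] at hq
  have qk : ∀ k ≥ i, q k = p k := fun k hk => by
    rw [k4 k (by omega), k3 k (by omega), k2 k (by omega), k1 k hk]
  have c0 : BCr Γ τ n q i j := hc.congr (fun k k1 _ => qk k k1) (by omega)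
  have c1 := H.shift_left (by omega) c0 (hq.sub (by omega) le_rfl)
  have c2 := H.shift_left (by omega) c1 (hq.sub (by omega) (by omega))
  have e2 : i - 2 - 2 = i - 4 := by ring
  have e3 : j - 2 - 2 = j - 4 := by ring
  rw [e2, e3] at c2
  -- change the end
  have hA : Γ.A (q (j - 3)) (q (j - 4)) := by
    have := hq.adj' (k := j - 3) (by omega) (by omega)
    have e : j - 3 - 1 = j - 4 := by ring
    rwa [e] at this
  have hB : Γ.A (q (j - 3)) (q (j - 2)) := by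
    have := hq.adj (k := j - 3) (by omega) (by omega)
    have e : j - 3 + 1 = j - 2 := by ring
    rwa [e] at this
  have hAB : q (j - 4) ≠ q (j - 2) := hq.ne (by omega) (by omega) (by ring)
  obtain ⟨x, hx, hxA, hxB, -⟩ := exists_third hA hB hAB
  obtain ⟨s1, hs1, s1x, s1k⟩ := (hq.sub (i' := i - 4) (j' := j - 3) le_rfl (by omega)).exists_snoc hx (fun _ => by
    have e : j - 3 - 1 = j - 4 := by ring
    rw [e]; exact hxA)
  have ext' : ∀ (p : ℤ → V) (j' : ℤ), i - 4 < j' → Γ.Arc p (i - 4) j' →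
      ∃ q, Γ.Arc q (i - 4) (j' + 1) ∧ ∀ k ≤ j', q k = p k := by
    intro p j' hi hp
    obtain ⟨x, hx, hxn⟩ := exists_ne (hp.adj' (k := j') (by omega) le_rfl)
    obtain ⟨q, hq, -, hqk⟩ := hp.exists_snoc hx (fun _ => hxn)
    exact ⟨q, hq, hqk⟩
  obtain ⟨s2, hs2, s2k⟩ := ext' s1 (j - 3 + 1) (by omega) hs1
  obtain ⟨s3, hs3, s3k⟩ := ext' s2 (j - 3 + 1 + 1) (by omega) hs2
  have e4 : j - 3 + 1 + 1 + 1 = j := by ring
  rw [e4] at hs3
  have sk : ∀ k ≤ j - 3, s3 k = q k := fun k hk => by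
    rw [s3k k (by omega), s2k k (by omega), s1k k hk]
  have sx : s3 (j - 2) = x := by
    have e : j - 3 + 1 = j - 2 := by ring
    rw [s3k _ (by omega), s2k _ (by omega), ← e]; exact s1x
  have d2 : BCr Γ τ n s3 (i - 4) (j - 4) := c2.congr (fun k _ k2 => sk k (by omega)) (by omega)
  have d1 := H.shift_right (by omega) d2 (hs3.sub le_rfl (by omega))
  have d0 := H.shift_right (by omega) d1 (hs3.sub (by omega) (by omega))
  have e5 : i - 4 + 2 + 2 = i := by ring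
  have e6 : j - 4 + 2 + 2 = j := by ring
  rw [e5, e6] at d0
  have f1 := H.rel_mid (by omega) c0
  have f2 := H.rel_mid (by omega) d0
  rw [sk (i + 2) (by omega), f1, sx] at f2
  have tj2 : Γ.ty (q (j - 2)) = τ := by
    rw [← h3, ← qk i le_rfl]; exact hq.ty_even (by omega) (by omega) (by omega) (by omega) (by omega)
  exact hxB (H.R.inj hB hx tj2 f2).symm

end CR

end Tri

end Cfsg.Agent.H209
end
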